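import Cfsg.Agent.Lib.Induced.Basic

/-!
# Induced characters are characters
-/

namespace Cfsg.Agent.Lib.Induced.Character

open scoped ComplexConjugate
open Cfsg.Agent.Lib.Induced.Basic

universe u v

variable {G : Type u} [Group G]

/-- The character of any finite-dimensional representation is a character. -/
theorem isCharacter_character {V : Type v} [AddCommGroup V] [Module ℂ V] [FiniteDimensional ℂ V]
    (ρ : Representation ℂ G V) : Cfsg.IsCharacter G ρ.character := by
  obtain ⟨e⟩ : Nonempty (V ≃ₗ[ℂ] (Fin (Module.finrank ℂ V) → ℂ)) :=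
    ⟨(Module.finBasis ℂ V).equivFun⟩
  let σ : Representation ℂ G (Fin (Module.finrank ℂ V) → ℂ) :=
    { toFun := fun g => e.conj (ρ g)
      map_one' := by ext v; simp [LinearEquiv.conj_apply]
      map_mul' := fun g g' => by ext v; simp [LinearEquiv.conj_apply] }
  refine ⟨_, σ, ?_⟩
  funext g
  exact LinearMap.trace_conj' (ρ g) e

theorem isCharacter_zero : Cfsg.IsCharacter G (0 : G → ℂ) := by
  refine ⟨0, 1, ?_⟩
  funext g
  rw [Representation.character, Pi.zero_apply, Subsingleton.elim ((1 : Representation ℂ G (Fin 0 → ℂ)) g) 0,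
    map_zero]

/-- A linear character is a character. -/
theorem isCharacter_hom (lam : G →* ℂˣ) : Cfsg.IsCharacter G (fun g => (lam g : ℂ)) := by
  let ρ : Representation ℂ G (Fin 1 → ℂ) :=
    (algebraMap ℂ (Module.End ℂ (Fin 1 → ℂ))).toMonoidHom.comp ((Units.coeHom ℂ).comp lam)
  refine ⟨1, ρ, ?_⟩
  funext g
  have : ρ g = (lam g : ℂ) • (LinearMap.id : (Fin 1 → ℂ) →ₗ[ℂ] _) := by
    ext v i; simp [ρ]
  rw [Representation.character, this, map_smul, LinearMap.trace_id]
  simp

theorem isIrrCharacter_hom (lam : G →* ℂˣ) : Cfsg.IsIrrCharacter G (fun g => (lam g : ℂ)) := by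
  obtain ⟨n, ρ, hρ⟩ := isCharacter_hom lam
  have hn : n = 1 := by
    have := congrFun hρ 1
    rw [Representation.char_one, map_one, Units.val_one, Nat.cast_eq_one] at this
    simpa using this
  refine ⟨n, ρ, ?_, hρ⟩
  subst hn
  have key : ∀ W : Submodule ℂ (Fin 1 → ℂ), W = ⊥ ∨ W = ⊤ := by
    intro W
    have hle : Module.finrank ℂ W ≤ 1 := le_trans W.finrank_le (by simp)
    rcases Nat.le_one_iff_eq_zero_or_eq_one.mp hle with h | h
    · exact Or.inl (Submodule.finrank_eq_zero.mp h)
    · exact Or.inr (Submodule.eq_top_of_finrank_eq (by simp [h]))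
  have hnt : Nontrivial (Subrepresentation ρ) :=
    ⟨⊥, ⊤, fun h => (bot_ne_top : (⊥ : Submodule ℂ (Fin 1 → ℂ)) ≠ ⊤)
      (congrArg Subrepresentation.toSubmodule h)⟩
  refine ⟨fun W => ?_⟩
  rcases key W.toSubmodule with h | h
  · exact Or.inl (Subrepresentation.toSubmodule_injective h)
  · exact Or.inr (Subrepresentation.toSubmodule_injective h)

section induced

variable [Fintype G] (H : Subgroup G) {n : ℕ} (ρ : Representation ℂ H (Fin n → ℂ))

/-- Left translation on vector-valued functions on the group. -/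
def leftShift : Representation ℂ G (G → Fin n → ℂ) where
  toFun g := LinearMap.funLeft ℂ (Fin n → ℂ) (fun x => g⁻¹ * x)
  map_one' := by ext f x; simp
  map_mul' g g' := by ext f x; simp [mul_assoc]

omit [Fintype G] in
theorem leftShift_apply (g : G) (f : G → Fin n → ℂ) (x : G) :
    leftShift (n := n) g f x = f (g⁻¹ * x) := rfl

/-- The averaging projection onto the space of the induced representation. -/
noncomputable def avgProj [Fintype H] : Module.End ℂ (G → Fin n → ℂ) :=
  (Nat.card H : ℂ)⁻¹ • LinearMap.pi fun x =>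
    ∑ h : H, (ρ h).comp (LinearMap.proj (x * (h : G)))

theorem avgProj_apply [Fintype H] (f : G → Fin n → ℂ) (x : G) :
    avgProj H ρ f x = (Nat.card H : ℂ)⁻¹ • ∑ h : H, ρ h (f (x * (h : G))) := by
  simp [avgProj, LinearMap.sum_apply]

/-- The space of the induced representation. -/
def indSpace : Submodule ℂ (G → Fin n → ℂ) where
  carrier := {f | ∀ (x : G) (h : H), ρ h (f (x * (h : G))) = f x}
  add_mem' {f g} hf hg x h := by simp only [Pi.add_apply, map_add, hf x h, hg x h]
  zero_mem' x h := by simp
  smul_mem' c f hf x h := by simp only [Pi.smul_apply, map_smul, hf x h]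

theorem avgProj_mem [Fintype H] (f : G → Fin n → ℂ) : avgProj H ρ f ∈ indSpace H ρ := by
  intro x h
  rw [avgProj_apply, avgProj_apply, map_smul, map_sum]
  congr 1
  refine Fintype.sum_equiv (Equiv.mulLeft h) _ _ fun k => ?_
  simp [mul_assoc, map_mul]

theorem avgProj_fix [Fintype H] {f : G → Fin n → ℂ} (hf : f ∈ indSpace H ρ) :
    avgProj H ρ f = f := by
  funext x
  rw [avgProj_apply, Finset.sum_congr rfl fun h _ => hf x h, Finset.sum_const, Finset.card_univ,
    ← Nat.cast_smul_eq_nsmul ℂ, smul_smul, Fintype.card_eq_nat_card,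
    inv_mul_cancel₀ (subgroup_card_ne_zero H), one_smul]

omit [Fintype G] in
theorem leftShift_mem (g : G) {f : G → Fin n → ℂ} (hf : f ∈ indSpace H ρ) :
    leftShift g f ∈ indSpace H ρ := by
  intro x h
  rw [leftShift_apply, leftShift_apply, ← mul_assoc]
  exact hf (g⁻¹ * x) h

/-- The induced representation, on `indSpace`. -/
def indRep : Representation ℂ G (indSpace H ρ) where
  toFun g := (leftShift g).restrict fun _ hf => leftShift_mem H ρ g hf
  map_one' := by ext f; simp [leftShift_apply]
  map_mul' g g' := by ext f; simp [leftShift_apply, mul_assoc]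

theorem indRep_character (g : G) :
    (indRep H ρ).character g = Cfsg.indFun H ρ.character g := by
  classical
  have := Fintype.ofFinite H
  set T : Module.End ℂ (G → Fin n → ℂ) := leftShift g * avgProj H ρ with hT
  have hmem : ∀ f, T f ∈ indSpace H ρ := fun f =>
    leftShift_mem H ρ g (avgProj_mem H ρ f)
  have hres : indRep H ρ g =
      T.restrict (p := indSpace H ρ) (fun f _ => hmem f) := by
    refine LinearMap.ext fun f => Subtype.ext ?_
    show leftShift g (f : G → Fin n → ℂ) = leftShift g (avgProj H ρ f)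
    rw [avgProj_fix H ρ f.2]
  have htrace : LinearMap.trace ℂ (indSpace H ρ) (T.restrict fun f _ => hmem f) =
      LinearMap.trace ℂ _ T := by
    rw [show T.restrict (fun f _ => hmem f) =
        (T.codRestrict (indSpace H ρ) hmem).comp (indSpace H ρ).subtype from rfl,
      LinearMap.trace_comp_comm']
    rfl
  rw [Representation.character, hres, htrace,
    LinearMap.trace_eq_matrix_trace ℂ (Pi.basis fun _ : G => Pi.basisFun ℂ (Fin n)),
    Matrix.trace]
  simp only [Matrix.diag_apply, LinearMap.toMatrix_apply]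
  rw [Fintype.sum_sigma, indFun_apply, Finset.mul_sum]
  refine Finset.sum_congr rfl fun x _ => ?_
  have entry : ∀ (h : H) (i : Fin n),
      ρ h ((Pi.basis fun _ : G => Pi.basisFun ℂ (Fin n)) ⟨x, i⟩ (g⁻¹ * x * (h : G))) i =
      if g⁻¹ * x * (h : G) = x then ρ h (Pi.single i 1) i else 0 := by
    intro h i
    rw [Pi.basis_apply, Pi.basisFun_apply]
    split_ifs with hh
    · rw [hh, Pi.single_eq_same]
    · rw [Pi.single_eq_of_ne hh, map_zero, Pi.zero_apply]
  have key : ∀ i : Fin n, ((Pi.basis fun _ : G => Pi.basisFun ℂ (Fin n)).repr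
      (T ((Pi.basis fun _ : G => Pi.basisFun ℂ (Fin n)) ⟨x, i⟩))) ⟨x, i⟩ =
      (Nat.card H : ℂ)⁻¹ * ∑ h : H, if g⁻¹ * x * (h : G) = x then ρ h (Pi.single i 1) i else 0 := by
    intro i
    rw [hT, Pi.basis_repr, Pi.basisFun_repr, Module.End.mul_apply, leftShift_apply, avgProj_apply,
      Pi.smul_apply, Finset.sum_apply, smul_eq_mul]
    simp only [entry]
  simp only [key, ← Finset.mul_sum]
  congr 1
  rw [Finset.sum_comm]
  have htr : ∀ h : H, (∑ i : Fin n, if g⁻¹ * x * (h : G) = x then ρ h (Pi.single i 1) i else 0) =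
      if g⁻¹ * x * (h : G) = x then ρ.character h else 0 := by
    intro h
    split_ifs
    · rw [Representation.character, LinearMap.trace_eq_matrix_trace ℂ (Pi.basisFun ℂ (Fin n)),
        Matrix.trace]
      simp [LinearMap.toMatrix_apply]
    · simp
  simp only [htr]
  split_ifs with hx
  · rw [Finset.sum_eq_single ⟨_, hx⟩]
    · rw [if_pos]; simp [mul_assoc]
    · intro h _ hne
      rw [if_neg]
      intro hh
      apply hne
      apply Subtype.ext
      calc (h : G) = x⁻¹ * g * (g⁻¹ * x * h) := by simp [mul_assoc]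
        _ = x⁻¹ * g * x := by rw [hh]
    · simp
  · refine Finset.sum_eq_zero fun h _ => if_neg fun hh => hx ?_
    have : x⁻¹ * g * x = h := by
      calc x⁻¹ * g * x = x⁻¹ * g * (g⁻¹ * x * h) := by rw [hh]
        _ = h := by simp [mul_assoc]
    rw [this]; exact h.2

theorem isCharacter_indFun {θ : H → ℂ} (hθ : Cfsg.IsCharacter H θ) :
    Cfsg.IsCharacter G (Cfsg.indFun H θ) := by
  obtain ⟨m, σ, rfl⟩ := hθ
  rw [← show (indRep H σ).character = Cfsg.indFun H σ.character from
    funext (indRep_character H σ)]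
  exact isCharacter_character _

theorem isGeneralizedCharacter_indFun {θ : H → ℂ} (hθ : Cfsg.IsGeneralizedCharacter H θ) :
    Cfsg.IsGeneralizedCharacter G (Cfsg.indFun H θ) := by
  obtain ⟨a, b, ha, hb, rfl⟩ := hθ
  exact ⟨_, _, isCharacter_indFun H ha, isCharacter_indFun H hb, indFun_sub H a b⟩

end induced

end Cfsg.Agent.Lib.Induced.Character
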