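import Mathlib

/-!
# Algebraic integers in character theory

Eigenvalues of operators of finite order, the bound `‖χ g‖ ≤ χ 1` with its equality case,
integrality of central characters, and Burnside's "zero or scalar" lemma.
-/

namespace Cfsg.Agent.Lib.Induced.Integral

open scoped ComplexConjugate
open Polynomial

universe u v

section roots

theorem norm_sum_le_card (s : Multiset ℂ) (h : ∀ x ∈ s, ‖x‖ = 1) : ‖s.sum‖ ≤ s.card := by
  induction s using Multiset.induction_on with
  | empty => simp
  | cons a s ih =>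
    rw [Multiset.sum_cons, Multiset.card_cons, Nat.cast_add, Nat.cast_one, add_comm (s.card : ℝ)]
    refine (norm_add_le _ _).trans (add_le_add (le_of_eq (h a (Multiset.mem_cons_self a s))) ?_)
    exact ih fun x hx => h x (Multiset.mem_cons_of_mem hx)

theorem eq_of_norm_sum_eq_card {s : Multiset ℂ} (h : ∀ x ∈ s, ‖x‖ = 1)
    (hs : ‖s.sum‖ = s.card) : ∀ x ∈ s, x = s.sum / s.card := by
  intro x hx
  have hc : (0 : ℝ) < s.card := by exact_mod_cast Multiset.card_pos_iff_exists_mem.mpr ⟨x, hx⟩
  set u : ℂ := s.sum / s.card with hu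
  have hun : ‖u‖ = 1 := by
    rw [hu, norm_div, hs, Complex.norm_natCast, div_self hc.ne']
  have hsum : u * s.card = s.sum := div_mul_cancel₀ _ (by exact_mod_cast hc.ne')
  have hle : ∀ y ∈ s, (conj u * y).re ≤ 1 := by
    intro y hy
    refine (Complex.re_le_norm _).trans ?_
    rw [norm_mul, Complex.norm_conj, hun, h y hy, one_mul]
  have hu2 : conj u * u = 1 := by rw [Complex.conj_mul', hun]; simp
  have htot : (s.map fun y => (conj u * y).re).sum = s.card := by
    have h1 : (s.map fun y => (conj u * y).re).sum = (conj u * s.sum).re := by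
      generalize s = t
      induction t using Multiset.induction_on with
      | empty => simp
      | cons a t ih =>
        rw [Multiset.map_cons, Multiset.sum_cons, Multiset.sum_cons, ih, mul_add, Complex.add_re]
    rw [h1, ← hsum, ← mul_assoc, hu2, one_mul, Complex.natCast_re]
  have hx1 : (conj u * x).re = 1 := by
    refine le_antisymm (hle x hx) ?_
    by_contra hlt
    have : (s.map fun y => (conj u * y).re).sum < (s.map fun _ => (1 : ℝ)).sum :=
      Multiset.sum_lt_sum hle ⟨x, hx, not_le.mp hlt⟩
    rw [htot] at this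
    simp at this
  have hnorm : ‖conj u * x‖ = 1 := by rw [norm_mul, Complex.norm_conj, hun, h x hx, one_mul]
  have h0 : conj u * x = 1 := by
    apply Complex.ext
    · simpa using hx1
    · have h2 : Complex.normSq (conj u * x) = 1 := by
        rw [Complex.normSq_eq_norm_sq, hnorm, one_pow]
      rw [Complex.normSq_apply, hx1] at h2
      simpa using h2
  calc x = u * (conj u * x) := by rw [← mul_assoc, mul_comm u, hu2, one_mul]
    _ = u := by rw [h0, mul_one]

/-- If the average of some roots of unity is an algebraic integer, the sum is zero or all of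
the roots are equal. -/
theorem average_roots_unity {n : ℕ} (hn : 0 < n) (s : Multiset ℂ) (h : ∀ x ∈ s, x ^ n = 1)
    (hint : IsIntegral ℤ (s.sum / s.card)) : s.sum = 0 ∨ ‖s.sum‖ = s.card := by
  rcases eq_or_ne s 0 with rfl | hs
  · simp
  have hc : (0 : ℝ) < s.card := by exact_mod_cast Multiset.card_pos.mpr hs
  by_contra hcon
  push Not at hcon
  have h1 : ∀ x ∈ s, ‖x‖ = 1 := fun x hx => Complex.norm_eq_one_of_pow_eq_one (h x hx) hn.ne'
  have hlt : ‖s.sum / s.card‖ < 1 := by
    rw [norm_div, Complex.norm_natCast, div_lt_one hc]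
    exact lt_of_le_of_ne (norm_sum_le_card s h1) hcon.2
  let K : IntermediateField ℚ ℂ := IntermediateField.adjoin ℚ {x | x ∈ s}
  have : FiniteDimensional ℚ K := by
    have : Finite {x : ℂ | x ∈ s} := by
      exact Set.Finite.to_subtype (s.toFinset.finite_toSet.subset fun x hx => by simpa using hx)
    refine IntermediateField.finiteDimensional_adjoin fun x hx => ?_
    exact IsIntegral.of_pow hn (by rw [h x hx]; exact isIntegral_one)
  let s' : Multiset K :=
    s.attach.map (fun x => ⟨x.1, IntermediateField.subset_adjoin ℚ _ x.2⟩)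
  have hs'c : s'.card = s.card := by rw [Multiset.card_map, Multiset.card_attach]
  let α : K := s'.sum / s'.card
  have hα : (α : ℂ) = s.sum / s.card := by
    show K.val α = _
    simp only [α, map_div₀, map_natCast, hs'c, map_multiset_sum, s', Multiset.map_map]
    congr 2
    exact Multiset.attach_map_val s
  have hαint : IsIntegral ℤ α := by
    refine (isIntegral_algHom_iff (K.val.restrictScalars ℤ) Subtype.val_injective).mp ?_
    show IsIntegral ℤ (α : ℂ)
    rwa [hα]
  have hle : ∀ σ : K →ₐ[ℚ] ℂ, ‖σ α‖ ≤ 1 := by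
    intro σ
    simp only [α, map_div₀, map_natCast, map_multiset_sum, norm_div, Complex.norm_natCast, hs'c]
    rw [div_le_one hc]
    refine le_trans (norm_sum_le_card _ ?_) (by rw [Multiset.card_map, hs'c])
    intro y hy
    obtain ⟨z, hz, rfl⟩ := Multiset.mem_map.mp hy
    obtain ⟨⟨x, hx⟩, -, rfl⟩ := Multiset.mem_map.mp hz
    refine Complex.norm_eq_one_of_pow_eq_one (n := n) ?_ hn.ne'
    rw [← map_pow]
    have : (⟨x, IntermediateField.subset_adjoin ℚ _ hx⟩ : K) ^ n = 1 := Subtype.ext (h x hx)
    rw [this, map_one]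
  obtain ⟨m, hm⟩ : ∃ m : ℤ, (m : ℚ) = Algebra.norm ℚ α := by
    obtain ⟨m, hm⟩ := IsIntegrallyClosed.isIntegral_iff.mp
      (Algebra.isIntegral_norm ℚ hαint : IsIntegral ℤ (Algebra.norm ℚ α))
    exact ⟨m, by simpa using hm⟩
  classical
  have hprod : ‖((Algebra.norm ℚ α : ℚ) : ℂ)‖ < 1 := by
    rw [← eq_ratCast (algebraMap ℚ ℂ), Algebra.norm_eq_prod_embeddings ℚ ℂ α, norm_prod]
    refine lt_of_le_of_lt ?_ (show ‖(α : ℂ)‖ < 1 by rwa [hα])
    refine (Finset.mul_prod_erase _ _ (Finset.mem_univ K.val)).symm.trans_le ?_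
    exact mul_le_of_le_one_right (norm_nonneg _)
      (Finset.prod_le_one (fun _ _ => norm_nonneg _) fun σ _ => hle σ)
  rw [← hm] at hprod
  have hm0 : m = 0 := by
    have : |(m : ℝ)| < 1 := by simpa using hprod
    exact Int.abs_lt_one_iff.mp (by exact_mod_cast this)
  rw [hm0, Int.cast_zero, eq_comm, Algebra.norm_eq_zero_iff] at hm
  apply hcon.1
  have : (α : ℂ) = 0 := by rw [hm]; rfl
  rw [hα, div_eq_zero_iff] at this
  exact this.resolve_right (by exact_mod_cast hc.ne')

end roots

section finiteOrder

variable {V : Type v} [AddCommGroup V] [Module ℂ V] [FiniteDimensional ℂ V]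

theorem charpoly_roots_card (f : Module.End ℂ V) :
    f.charpoly.roots.card = Module.finrank ℂ V := by
  rw [(IsAlgClosed.splits f.charpoly).natDegree_eq_card_roots.symm, LinearMap.charpoly_natDegree]

theorem trace_eq_roots_sum (f : Module.End ℂ V) :
    LinearMap.trace ℂ V f = f.charpoly.roots.sum := by
  rw [LinearMap.trace_eq_matrix_trace ℂ (Module.finBasis ℂ V),
    Matrix.trace_eq_sum_roots_charpoly, LinearMap.charpoly_toMatrix]

theorem roots_pow_eq_one {f : Module.End ℂ V} {n : ℕ} (hf : f ^ n = 1) :
    ∀ x ∈ f.charpoly.roots, x ^ n = 1 := by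
  intro x hx
  have hev : Module.End.HasEigenvalue f x :=
    (Module.End.hasEigenvalue_iff_isRoot_charpoly f x).mpr (isRoot_of_mem_roots hx)
  obtain ⟨v, hv⟩ := hev.exists_hasEigenvector
  have := hv.pow_apply n
  rw [hf, Module.End.one_apply] at this
  have h0 : (x ^ n - 1) • v = 0 := by rw [sub_smul, one_smul, ← this, sub_self]
  exact sub_eq_zero.mp ((smul_eq_zero.mp h0).resolve_right hv.2)

theorem eq_smul_of_roots_eq {f : Module.End ℂ V} {n : ℕ} (hn : 0 < n) (hf : f ^ n = 1) {c : ℂ}
    (hc : ∀ x ∈ f.charpoly.roots, x = c) : f = c • LinearMap.id := by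
  have hcp : f.charpoly = (X - C c) ^ Module.finrank ℂ V := by
    conv_lhs => rw [← Polynomial.prod_multiset_X_sub_C_of_monic_of_roots_card_eq
      f.charpoly_monic ((charpoly_roots_card f).trans f.charpoly_natDegree.symm)]
    rw [Multiset.eq_replicate.mpr ⟨charpoly_roots_card f, hc⟩, Multiset.map_replicate,
      Multiset.prod_replicate]
  have hsq : Squarefree (minpoly ℂ f) := by
    have hdvd : minpoly ℂ f ∣ X ^ n - C 1 := minpoly.dvd ℂ f (by simp [hf])
    exact ((separable_X_pow_sub_C (1 : ℂ) (by exact_mod_cast hn.ne') one_ne_zero).squarefree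
      ).squarefree_of_dvd hdvd
  have hdvd2 : minpoly ℂ f ∣ X - C c := by
    rcases Nat.eq_zero_or_pos (Module.finrank ℂ V) with h0 | h0
    · have := LinearMap.minpoly_dvd_charpoly f
      rw [hcp, h0, pow_zero] at this
      exact this.trans (one_dvd _)
    · exact (hsq.dvd_pow_iff_dvd h0.ne').mp (hcp ▸ LinearMap.minpoly_dvd_charpoly f)
  have h := aeval_eq_zero_of_dvd_aeval_eq_zero hdvd2 (minpoly.aeval ℂ f)
  simp only [map_sub, aeval_X, aeval_C, sub_eq_zero] at h
  rw [h]
  rfl

theorem norm_trace_le {f : Module.End ℂ V} {n : ℕ} (hn : 0 < n) (hf : f ^ n = 1) :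
    ‖LinearMap.trace ℂ V f‖ ≤ Module.finrank ℂ V := by
  rw [trace_eq_roots_sum, ← charpoly_roots_card f]
  exact norm_sum_le_card _ fun x hx =>
    Complex.norm_eq_one_of_pow_eq_one (roots_pow_eq_one hf x hx) hn.ne'

theorem scalar_of_norm_trace_eq {f : Module.End ℂ V} {n : ℕ} (hn : 0 < n) (hf : f ^ n = 1)
    (h : ‖LinearMap.trace ℂ V f‖ = Module.finrank ℂ V) :
    f = (LinearMap.trace ℂ V f / Module.finrank ℂ V) • LinearMap.id := by
  refine eq_smul_of_roots_eq hn hf ?_
  rw [trace_eq_roots_sum, ← charpoly_roots_card f] at h ⊢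
  exact eq_of_norm_sum_eq_card
    (fun x hx => Complex.norm_eq_one_of_pow_eq_one (roots_pow_eq_one hf x hx) hn.ne') h

theorem isIntegral_trace {f : Module.End ℂ V} {n : ℕ} (hn : 0 < n) (hf : f ^ n = 1) :
    IsIntegral ℤ (LinearMap.trace ℂ V f) := by
  rw [trace_eq_roots_sum]
  exact IsIntegral.multiset_sum fun x hx =>
    IsIntegral.of_pow hn (by rw [roots_pow_eq_one hf x hx]; exact isIntegral_one)

theorem eq_one_of_trace_eq_finrank {f : Module.End ℂ V} {n : ℕ} (hn : 0 < n) (hf : f ^ n = 1)
    (h : LinearMap.trace ℂ V f = Module.finrank ℂ V) : f = LinearMap.id := by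
  have := scalar_of_norm_trace_eq hn hf (by rw [h, Complex.norm_natCast])
  rcases Nat.eq_zero_or_pos (Module.finrank ℂ V) with h0 | h0
  · have : Subsingleton V := Module.finrank_zero_iff.mp h0
    exact LinearMap.ext fun v => Subsingleton.elim _ _
  · rwa [h, div_self (by exact_mod_cast h0.ne'), one_smul] at this

end finiteOrder

section representation

variable {G : Type u} [Group G] [Finite G] {V : Type v} [AddCommGroup V] [Module ℂ V]
  [FiniteDimensional ℂ V] (ρ : Representation ℂ G V)

omit [FiniteDimensional ℂ V] in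
theorem pow_card_eq_one (g : G) : ρ g ^ Nat.card G = 1 := by
  rw [← map_pow, pow_card_eq_one', map_one]

theorem norm_character_le (g : G) : ‖ρ.character g‖ ≤ Module.finrank ℂ V :=
  norm_trace_le Nat.card_pos (pow_card_eq_one ρ g)

theorem isIntegral_character (g : G) : IsIntegral ℤ (ρ.character g) :=
  isIntegral_trace Nat.card_pos (pow_card_eq_one ρ g)

theorem scalar_of_norm_character_eq {g : G} (h : ‖ρ.character g‖ = Module.finrank ℂ V) :
    ∃ c : ℂ, ρ g = c • LinearMap.id :=
  ⟨_, scalar_of_norm_trace_eq Nat.card_pos (pow_card_eq_one ρ g) h⟩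

theorem eq_id_of_character_eq {g : G} (h : ρ.character g = Module.finrank ℂ V) :
    ρ g = LinearMap.id :=
  eq_one_of_trace_eq_finrank Nat.card_pos (pow_card_eq_one ρ g) h

omit [FiniteDimensional ℂ V] in
theorem nat_card_carrier (g : G) :
    Nat.card (ConjClasses.mk g).carrier = (Subgroup.centralizer ({g} : Set G)).index := by
  rw [← ConjAct.orbit_eq_carrier_conjClasses, Nat.card_coe_set_eq,
    ← MulAction.index_stabilizer, ConjAct.stabilizer_eq_centralizer]
  rfl

/-- The central character value `|C| χ(g) / χ(1)` is an algebraic integer. -/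
theorem isIntegral_centralCharacter [ρ.IsIrreducible] (g : G) :
    IsIntegral ℤ (((Subgroup.centralizer ({g} : Set G)).index : ℂ) * ρ.character g /
      (Module.finrank ℂ V : ℂ)) := by
  classical
  have := Fintype.ofFinite G
  set S : Finset G := Finset.univ.filter (fun y => IsConj g y) with hS
  set T : Module.End ℂ V := ∑ y ∈ S, ρ y with hT
  have hcomm : ∀ h : G, T * ρ h = ρ h * T := by
    intro h
    rw [hT, Finset.sum_mul, Finset.mul_sum]
    refine Finset.sum_equiv (MulAut.conj h⁻¹).toEquiv (fun y => ?_) (fun y _ => ?_)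
    · simp only [hS, Finset.mem_filter, Finset.mem_univ, true_and]
      exact ⟨fun hy => hy.trans (isConj_iff.mpr ⟨h⁻¹, by simp⟩),
        fun hy => hy.trans (isConj_iff.mpr ⟨h, by simp [mul_assoc]⟩)⟩
    · rw [← map_mul, ← map_mul]
      simp [mul_assoc]
  let F : Representation.IntertwiningMap ρ ρ :=
    { toLinearMap := T
      isIntertwining' := fun h => hcomm h }
  obtain ⟨ω, hω⟩ :=
    (Representation.IsIrreducible.algebraMap_intertwiningMap_bijective_of_isAlgClosed (ρ := ρ)).2 F
  have hTω : T = algebraMap ℂ (Module.End ℂ V) ω := by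
    have := congrArg Representation.IntertwiningMap.toLinearMap hω
    exact this.symm
  have hint : IsIntegral ℤ T := by
    have : T = MonoidAlgebra.lift ℤ (Module.End ℂ V) G ρ
        (∑ y ∈ S, MonoidAlgebra.single y 1) := by
      simp [hT]
    rw [this]
    exact (IsIntegral.of_finite ℤ _).map _
  have hne : Nontrivial V := by
    by_contra hV
    rw [not_nontrivial_iff_subsingleton] at hV
    exact (bot_ne_top : (⊥ : Subrepresentation ρ) ≠ ⊤)
      (Subrepresentation.toSubmodule_injective (Subsingleton.elim _ _))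
  have hd : (Module.finrank ℂ V : ℂ) ≠ 0 := by exact_mod_cast Module.finrank_pos.ne'
  rw [hTω, isIntegral_algebraMap_iff (algebraMap ℂ (Module.End ℂ V)).injective] at hint
  suffices ω = ((Subgroup.centralizer ({g} : Set G)).index : ℂ) * ρ.character g /
      (Module.finrank ℂ V : ℂ) by rwa [← this]
  rw [eq_div_iff hd]
  have htr : LinearMap.trace ℂ V T = (S.card : ℂ) * ρ.character g := by
    rw [hT, map_sum, Finset.sum_congr rfl (g := fun _ => ρ.character g) fun y hy => ?_,
      Finset.sum_const, nsmul_eq_mul]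
    obtain ⟨c, hc⟩ := isConj_iff.mp (Finset.mem_filter.mp hy).2
    show ρ.character y = ρ.character g
    rw [← hc, Representation.char_conj]
  have hScard : S.card = (Subgroup.centralizer ({g} : Set G)).index := by
    rw [← nat_card_carrier g, Nat.card_eq_fintype_card, ← Set.toFinset_card]
    congr 1
    ext y
    rw [Set.mem_toFinset, ConjClasses.mem_carrier_iff_mk_eq, ConjClasses.mk_eq_mk_iff_isConj,
      hS, Finset.mem_filter]
    simp only [Finset.mem_univ, true_and]
    exact isConj_comm
  rw [← hScard, ← htr, hTω, Algebra.algebraMap_eq_smul_one, map_smul, LinearMap.trace_one]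
  rfl

/-- Burnside's lemma: coprime class size and degree give vanishing or maximal absolute value. -/
theorem zero_or_norm_eq_of_coprime [ρ.IsIrreducible] (g : G)
    (hcop : Nat.Coprime (Module.finrank ℂ V) (Subgroup.centralizer ({g} : Set G)).index) :
    ρ.character g = 0 ∨ ‖ρ.character g‖ = (Module.finrank ℂ V : ℝ) := by
  set d := Module.finrank ℂ V with hd
  set c := (Subgroup.centralizer ({g} : Set G)).index with hc
  rcases Nat.eq_zero_or_pos d with hd0 | hd0
  · exact Or.inr (le_antisymm (norm_character_le ρ g) (by rw [hd0, Nat.cast_zero]; positivity))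
  obtain ⟨a, b, hab⟩ : ∃ a b : ℤ, a * (d : ℤ) + b * (c : ℤ) = 1 :=
    Int.isCoprime_iff_nat_coprime.mpr (by simpa using hcop)
  have hαint : IsIntegral ℤ (ρ.character g / d) := by
    have h1 : (a : ℂ) * (d : ℂ) + (b : ℂ) * (c : ℂ) = 1 := by exact_mod_cast hab
    have h2 : ρ.character g / d =
        (a : ℂ) * ρ.character g + (b : ℂ) * ((c : ℂ) * ρ.character g / d) := by
      have hdC : (d : ℂ) ≠ 0 := by exact_mod_cast hd0.ne'
      field_simp
      linear_combination (-ρ.character g) * h1
    rw [h2]
    exact (((isIntegral_algebraMap (R := ℤ) (x := a))).mul (isIntegral_character ρ g)).add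
      ((isIntegral_algebraMap (R := ℤ) (x := b)).mul (isIntegral_centralCharacter ρ g))
  rw [Representation.character, trace_eq_roots_sum, hd, ← charpoly_roots_card (ρ g)] at hαint ⊢
  exact average_roots_unity Nat.card_pos _ (roots_pow_eq_one (pow_card_eq_one ρ g)) hαint

end representation

end Cfsg.Agent.Lib.Induced.Integral
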