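import Cfsg.Agent.Lib.Characters.Basic
import Cfsg.Agent.Lib.Induced.Character
import Cfsg.Agent.Lib.Induced.Integral

/-!
# Burnside's prime-power class theorem and the `p^a q^b` theorem
-/

namespace Cfsg.Agent.Lib.Induced.Burnside

open scoped ComplexConjugate
open Cfsg.Agent.Lib.Induced

universe u

/-- The regular character, as an induced function. -/
noncomputable def regChar (G : Type u) [Group G] [Fintype G] : G → ℂ :=
  Cfsg.indFun (⊥ : Subgroup G) (fun _ => 1)

theorem isCharacter_regChar (G : Type u) [Group G] [Fintype G] :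
    Cfsg.IsCharacter G (regChar G) :=
  Character.isCharacter_indFun _ (by simpa using Character.isCharacter_hom (1 : (⊥ : Subgroup G) →* ℂˣ))

theorem regChar_apply {G : Type u} [Group G] [Fintype G] [DecidableEq G] (g : G) :
    regChar G g = if g = 1 then (Nat.card G : ℂ) else 0 := by
  split_ifs with h
  · rw [h, regChar, Basic.indFun_one, Subgroup.index_bot, mul_one]
  · refine Basic.indFun_eq_zero_of_not_mem_normal _ _ ?_
    rwa [Subgroup.mem_bot]

theorem classInner_regChar {G : Type u} [Group G] [Fintype G] {χ : G → ℂ}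
    (hχ : Cfsg.IsCharacter G χ) : Cfsg.classInner (regChar G) χ = χ 1 := by
  classical
  rw [Cfsg.classInner, Finset.sum_eq_single (1 : G)]
  · rw [regChar_apply, if_pos rfl, Characters.Basic.conj_apply_one hχ, ← mul_assoc,
      inv_mul_cancel₀ Basic.natCard_ne_zero, one_mul]
  · intro g _ hg
    rw [regChar_apply, if_neg hg, zero_mul]
  · exact fun h => absurd (Finset.mem_univ _) h

/-- `∑_χ χ(1) χ(g) = 0` for `g ≠ 1`. -/
theorem sum_degree_mul_eq_zero {G : Type u} [Group G] [Fintype G]
    [Fintype (Cfsg.IrrCharacter G)] {g : G} (hg : g ≠ 1) :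
    ∑ χ : Cfsg.IrrCharacter G, (χ : G → ℂ) 1 * (χ : G → ℂ) g = 0 := by
  classical
  have h := congrFun (Characters.Basic.character_eq_finsum (isCharacter_regChar G)) g
  rw [regChar_apply, if_neg hg, finsum_eq_sum_of_fintype, Finset.sum_apply] at h
  simpa [classInner_regChar (Characters.Basic.isCharacter_irr _)] using h.symm

/-- A simple group with a class of prime-power size has prime order. -/
theorem prime_card_of_class_primePow {G : Type u} [Group G] [Finite G] [IsSimpleGroup G]
    {p k : ℕ} (hp : p.Prime) {g : G} (hg : g ≠ 1)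
    (hclass : (Subgroup.centralizer ({g} : Set G)).index = p ^ k) : (Nat.card G).Prime := by
  classical
  have := Fintype.ofFinite G
  have := Fintype.ofFinite (Cfsg.IrrCharacter G)
  by_cases hcen : g ∈ Subgroup.center G
  · have htop : Subgroup.center G = ⊤ := by
      refine (inferInstance : (Subgroup.center G).Normal).eq_bot_or_eq_top.resolve_left
        fun h => ?_
      rw [h, Subgroup.mem_bot] at hcen
      exact hg hcen
    let inst : CommGroup G := { (inferInstance : Group G) with
      mul_comm := fun a b => Subgroup.mem_center_iff.mp (htop ▸ Subgroup.mem_top b) a }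
    haveI : @IsSimpleGroup G inst.toGroup := by assumption
    exact IsSimpleGroup.prime_card (α := G)
  exfalso
  have hk : k ≠ 0 := by
    rintro rfl
    apply hcen
    rw [pow_zero, Subgroup.index_eq_one] at hclass
    refine Subgroup.mem_center_iff.mpr fun y => ?_
    exact Subgroup.mem_centralizer_singleton_iff.mp (hclass ▸ Subgroup.mem_top y)
  have hterm : ∀ χ : Cfsg.IrrCharacter G, χ ≠ Characters.Basic.oneChar G →
      ∃ z : ℂ, IsIntegral ℤ z ∧ (χ : G → ℂ) 1 * (χ : G → ℂ) g = (p : ℂ) * z := by
    intro χ hχ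
    obtain ⟨n, ρ, hρ, hchar⟩ := χ.2
    have hd : (χ : G → ℂ) 1 = (Module.finrank ℂ (Fin n → ℂ) : ℂ) := by
      rw [← hchar, Representation.char_one]
    by_cases hdvd : p ∣ Module.finrank ℂ (Fin n → ℂ)
    · obtain ⟨m, hm⟩ := hdvd
      refine ⟨(m : ℂ) * (χ : G → ℂ) g, (isIntegral_algebraMap (R := ℤ) (x := (m : ℤ))).mul
        (Characters.Basic.isIntegral_apply (Characters.Basic.isCharacter_irr χ) g), ?_⟩
      rw [hd, hm, Nat.cast_mul, mul_assoc]
    refine ⟨0, isIntegral_zero, ?_⟩
    rw [mul_zero, mul_eq_zero]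
    right
    rw [← hchar]
    have hcop : Nat.Coprime (Module.finrank ℂ (Fin n → ℂ))
        (Subgroup.centralizer ({g} : Set G)).index := by
      rw [hclass]
      exact ((hp.coprime_iff_not_dvd.mpr hdvd).symm.pow_right k)
    refine (Integral.zero_or_norm_eq_of_coprime ρ g hcop).resolve_right fun hnorm => ?_
    obtain ⟨c, hc⟩ := Integral.scalar_of_norm_character_eq ρ hnorm
    rcases (inferInstance : (MonoidHom.ker ρ).Normal).eq_bot_or_eq_top with hker | hker
    · apply hcen
      refine Subgroup.mem_center_iff.mpr fun y => ?_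
      have hinj : Function.Injective ρ := (MonoidHom.ker_eq_bot_iff ρ).mp hker
      apply hinj
      rw [map_mul, map_mul, hc]
      ext v
      simp
    · apply hχ
      have hρ1 : ∀ x : G, ρ x = 1 := fun x =>
        (MonoidHom.mem_ker (f := ρ)).mp (hker ▸ Subgroup.mem_top x)
      have hconst : ∀ x, (χ : G → ℂ) x = (χ : G → ℂ) 1 := fun x => by
        rw [← hchar, Representation.character, hρ1, Representation.character, hρ1]
      apply Subtype.ext
      funext x
      rw [Characters.Basic.oneChar_apply, hconst]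
      have h1 := Characters.Basic.classInner_self_irr χ
      rw [Cfsg.classInner] at h1
      simp only [hconst, Characters.Basic.conj_apply_one (Characters.Basic.isCharacter_irr χ),
        Finset.sum_const, Finset.card_univ, nsmul_eq_mul, Fintype.card_eq_nat_card] at h1
      rw [← mul_assoc, inv_mul_cancel₀ Basic.natCard_ne_zero, one_mul, hd, ← Nat.cast_mul,
        Nat.cast_eq_one, mul_eq_one] at h1
      rw [hd, h1.1, Nat.cast_one]
  choose! z hz hzeq using hterm
  have hsum := sum_degree_mul_eq_zero hg
  rw [← Finset.add_sum_erase _ _ (Finset.mem_univ (Characters.Basic.oneChar G)),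
    Finset.sum_congr rfl fun χ hχ => hzeq χ (Finset.ne_of_mem_erase hχ), ← Finset.mul_sum,
    Characters.Basic.oneChar_apply, Characters.Basic.oneChar_apply, one_mul] at hsum
  set Z := ∑ χ ∈ Finset.univ.erase (Characters.Basic.oneChar G), z χ
  have hZ : IsIntegral ℤ Z := IsIntegral.sum _ fun χ hχ => hz χ (Finset.ne_of_mem_erase hχ)
  have hp0 : (p : ℚ) ≠ 0 := by exact_mod_cast hp.ne_zero
  have hZq : Z = algebraMap ℚ ℂ (-(1 / p : ℚ)) := by
    have hpC : (p : ℂ) ≠ 0 := by exact_mod_cast hp.ne_zero
    rw [eq_ratCast]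
    push_cast
    field_simp
    linear_combination hsum
  rw [hZq, isIntegral_algebraMap_iff (algebraMap ℚ ℂ).injective,
    IsIntegrallyClosed.isIntegral_iff] at hZ
  obtain ⟨m, hm⟩ := hZ
  have h2 : (m : ℚ) * p = -1 := by
    rw [← eq_intCast (algebraMap ℤ ℚ), hm]
    field_simp
  have h3 : m * (p : ℤ) = -1 := by exact_mod_cast h2
  have h4 : m.natAbs * p = 1 := by simpa [Int.natAbs_mul] using congrArg Int.natAbs h3
  exact hp.one_lt.ne' (mul_eq_one.mp h4).2

theorem isSolvable_of_card_eq : ∀ {G : Type u} [Group G] [Finite G] (p q a b : ℕ),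
    p.Prime → q.Prime → Nat.card G = p ^ a * q ^ b → Group.IsSolvable G := by
  suffices H : ∀ n, ∀ {G : Type u} [Group G] [Finite G], Nat.card G = n →
      ∀ p q a b : ℕ, p.Prime → q.Prime → n = p ^ a * q ^ b → Group.IsSolvable G from
    fun {G} _ _ p q a b hp hq h => H _ rfl p q a b hp hq h
  intro n
  induction n using Nat.strong_induction_on with
  | _ n ih =>
    intro G _ _ hn p q a b hp hq hpq
    rcases subsingleton_or_nontrivial G with hs | hs
    · exact Group.isSolvable_of_comm fun x y => Subsingleton.elim _ _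
    have sub : ∀ m, m ∣ p ^ a * q ^ b → ∃ c d, m = p ^ c * q ^ d := by
      intro m hm
      obtain ⟨m₁, m₂, h₁, h₂, rfl⟩ := (Nat.dvd_mul).mp hm
      obtain ⟨c, -, rfl⟩ := (Nat.dvd_prime_pow hp).mp h₁
      obtain ⟨d, -, rfl⟩ := (Nat.dvd_prime_pow hq).mp h₂
      exact ⟨c, d, rfl⟩
    by_cases hsimple : IsSimpleGroup G
    · suffices hprime : (Nat.card G).Prime by
        haveI := Fact.mk hprime
        haveI := isCyclic_of_prime_card (α := G) rfl
        exact Group.isSolvable_of_comm fun x y => by
          obtain ⟨g, hg⟩ := IsCyclic.exists_generator (α := G)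
          obtain ⟨i, hi⟩ := hg x
          obtain ⟨j, hj⟩ := hg y
          simp only at hi hj
          rw [← hi, ← hj, ← zpow_add, ← zpow_add, add_comm]
      obtain ⟨r, hr, hrdvd⟩ := Nat.exists_prime_and_dvd (n := Nat.card G)
        (by rw [Ne, Nat.card_eq_one_iff_unique]; exact fun h => not_subsingleton G h.1)
      haveI := Fact.mk hr
      obtain ⟨P⟩ : Nonempty (Sylow r G) := inferInstance
      haveI : Nontrivial P := by
        rw [← Finite.one_lt_card_iff_nontrivial]
        exact lt_of_lt_of_le hr.one_lt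
          (Nat.le_of_dvd Nat.card_pos (P.dvd_card_of_dvd_card hrdvd))
      haveI := IsPGroup.center_nontrivial P.2
      obtain ⟨z, hz⟩ := exists_ne (1 : Subgroup.center P)
      have hle : (P : Subgroup G) ≤ Subgroup.centralizer ({((z : P) : G)} : Set G) := by
        intro x hx
        rw [Subgroup.mem_centralizer_singleton_iff]
        exact congrArg Subtype.val (Subgroup.mem_center_iff.mp z.2 ⟨x, hx⟩)
      have hdvd : (Subgroup.centralizer ({((z : P) : G)} : Set G)).index ∣ p ^ a * q ^ b := by
        rw [← hpq, ← hn]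
        exact Subgroup.index_dvd_card _
      have hnr : ¬ r ∣ (Subgroup.centralizer ({((z : P) : G)} : Set G)).index := fun h =>
        P.not_dvd_index (h.trans (Subgroup.index_dvd_of_le hle))
      have hz' : ((z : P) : G) ≠ 1 := fun h => hz (Subtype.ext (Subtype.ext h))
      obtain ⟨c, d, hcd⟩ := sub _ hdvd
      have hrpq : r = p ∨ r = q := by
        have h' : r ∣ p ^ a * q ^ b := by rw [← hpq, ← hn]; exact hrdvd
        rcases hr.dvd_mul.mp h' with h | h
        · exact Or.inl ((Nat.prime_dvd_prime_iff_eq hr hp).mp (hr.dvd_of_dvd_pow h))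
        · exact Or.inr ((Nat.prime_dvd_prime_iff_eq hr hq).mp (hr.dvd_of_dvd_pow h))
      rcases hrpq with rfl | rfl
      · refine prime_card_of_class_primePow (k := d) hq hz' ?_
        rcases c with _ | c
        · rw [hcd, pow_zero, one_mul]
        · exact absurd (hcd ▸ Dvd.dvd.mul_right (dvd_pow_self r c.succ_ne_zero) _) hnr
      · refine prime_card_of_class_primePow (k := c) hp hz' ?_
        rcases d with _ | d
        · rw [hcd, pow_zero, mul_one]
        · exact absurd (hcd ▸ Dvd.dvd.mul_left (dvd_pow_self r d.succ_ne_zero) _) hnr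
    · obtain ⟨N, hN, hN1, hN2⟩ : ∃ N : Subgroup G, N.Normal ∧ N ≠ ⊥ ∧ N ≠ ⊤ := by
        by_contra hcon
        push Not at hcon
        exact hsimple ⟨fun N hN => by
          rcases eq_or_ne N ⊥ with h | h
          · exact Or.inl h
          · exact Or.inr (hcon N hN h)⟩
      haveI := hN
      have hmul : Nat.card N * N.index = n := by rw [N.card_mul_index, hn]
      have h1 : 1 < Nat.card N := N.one_lt_card_iff_ne_bot.mpr hN1
      have h2 : 1 < N.index := N.one_lt_index_of_ne_top hN2
      obtain ⟨c, d, hcd⟩ := sub (Nat.card N) ⟨N.index, (hmul.trans hpq).symm⟩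
      obtain ⟨c', d', hcd'⟩ := sub N.index ⟨Nat.card N, by rw [← hpq, ← hmul, mul_comm]⟩
      haveI := ih (Nat.card N) (by nlinarith) (G := N) rfl p q c d hp hq hcd
      haveI := ih N.index (by nlinarith) (G := G ⧸ N) rfl p q c' d' hp hq hcd'
      exact Group.isSolvable_of_ker_le_range N.subtype (QuotientGroup.mk' N)
        (by rw [QuotientGroup.ker_mk', Subgroup.range_subtype])

end Cfsg.Agent.Lib.Induced.Burnside
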