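import Cfsg.Agent.Lib.Characters.Basic
import Cfsg.Agent.Lib.Induced.Character

/-!
# Generalized characters

Closure properties, integer coefficients on irreducible characters, and the classification
of generalized characters of norm one and two.
-/

namespace Cfsg.Agent.Lib.Induced.Generalized

open scoped ComplexConjugate
open Cfsg.Agent.Lib
open Cfsg.Agent.Lib.Induced.Basic

universe u v

variable {G : Type u} [Group G]

theorem of_isCharacter {χ : G → ℂ} (h : Cfsg.IsCharacter G χ) :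
    Cfsg.IsGeneralizedCharacter G χ :=
  ⟨χ, 0, h, Characters.Basic.isCharacter_zero, (sub_zero χ).symm⟩

theorem of_irr (χ : Cfsg.IrrCharacter G) : Cfsg.IsGeneralizedCharacter G (χ : G → ℂ) :=
  of_isCharacter (Characters.Basic.isCharacter_irr χ)

theorem isGen_zero : Cfsg.IsGeneralizedCharacter G (0 : G → ℂ) :=
  of_isCharacter Characters.Basic.isCharacter_zero

theorem isGen_const (n : ℤ) : Cfsg.IsGeneralizedCharacter G (fun _ : G => (n : ℂ)) := by
  obtain ⟨a, b, rfl⟩ : ∃ a b : ℕ, n = (a : ℤ) - b := ⟨n.toNat, (-n).toNat, by omega⟩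
  refine ⟨fun _ => a, fun _ => b, ?_, ?_, ?_⟩
  · convert Characters.Basic.isCharacter_nsmul (G := G) Characters.Basic.isCharacter_one a using 1
    funext g; simp
  · convert Characters.Basic.isCharacter_nsmul (G := G) Characters.Basic.isCharacter_one b using 1
    funext g; simp
  · funext g; simp

theorem isGen_neg {θ : G → ℂ} (h : Cfsg.IsGeneralizedCharacter G θ) :
    Cfsg.IsGeneralizedCharacter G (-θ) := by
  obtain ⟨a, b, ha, hb, rfl⟩ := h
  exact ⟨b, a, hb, ha, neg_sub a b⟩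

theorem isGen_add {θ η : G → ℂ} (h : Cfsg.IsGeneralizedCharacter G θ)
    (h' : Cfsg.IsGeneralizedCharacter G η) : Cfsg.IsGeneralizedCharacter G (θ + η) := by
  obtain ⟨a, b, ha, hb, rfl⟩ := h
  obtain ⟨a', b', ha', hb', rfl⟩ := h'
  exact ⟨_, _, Characters.Basic.isCharacter_add ha ha', Characters.Basic.isCharacter_add hb hb',
    by abel⟩

theorem isGen_sub {θ η : G → ℂ} (h : Cfsg.IsGeneralizedCharacter G θ)
    (h' : Cfsg.IsGeneralizedCharacter G η) : Cfsg.IsGeneralizedCharacter G (θ - η) := by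
  rw [sub_eq_add_neg]
  exact isGen_add h (isGen_neg h')

theorem isGen_sum {ι : Type v} (s : Finset ι) {f : ι → G → ℂ}
    (h : ∀ i ∈ s, Cfsg.IsGeneralizedCharacter G (f i)) :
    Cfsg.IsGeneralizedCharacter G (∑ i ∈ s, f i) :=
  Finset.sum_induction f _ (fun _ _ => isGen_add) isGen_zero h

theorem isGen_mul {θ η : G → ℂ} (h : Cfsg.IsGeneralizedCharacter G θ)
    (h' : Cfsg.IsGeneralizedCharacter G η) : Cfsg.IsGeneralizedCharacter G (θ * η) := by
  obtain ⟨a, b, ha, hb, rfl⟩ := h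
  obtain ⟨a', b', ha', hb', rfl⟩ := h'
  exact ⟨_, _,
    Characters.Basic.isCharacter_add (Characters.Basic.isCharacter_mul ha ha')
      (Characters.Basic.isCharacter_mul hb hb'),
    Characters.Basic.isCharacter_add (Characters.Basic.isCharacter_mul ha hb')
      (Characters.Basic.isCharacter_mul hb ha'),
    by ring⟩

theorem isGen_zsmul {θ : G → ℂ} (h : Cfsg.IsGeneralizedCharacter G θ) (n : ℤ) :
    Cfsg.IsGeneralizedCharacter G ((n : ℂ) • θ) := by
  have := isGen_mul (isGen_const (G := G) n) h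
  exact this

theorem isGen_comp {H : Type v} [Group H] (f : H →* G) {θ : G → ℂ}
    (h : Cfsg.IsGeneralizedCharacter G θ) : Cfsg.IsGeneralizedCharacter H (θ ∘ f) := by
  obtain ⟨a, b, ha, hb, rfl⟩ := h
  exact ⟨_, _, Characters.Basic.isCharacter_comp f ha, Characters.Basic.isCharacter_comp f hb, rfl⟩

theorem isClassFunction_of_isGen {θ : G → ℂ} (h : Cfsg.IsGeneralizedCharacter G θ) :
    Cfsg.IsClassFunction G θ := by
  obtain ⟨a, b, ha, hb, rfl⟩ := h
  intro g x
  simp [Characters.Basic.isClassFunction_of_isCharacter ha g x,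
    Characters.Basic.isClassFunction_of_isCharacter hb g x]

section fintype

variable [Fintype G]

theorem classInner_sum_left' {ι : Type v} (s : Finset ι) (f : ι → G → ℂ) (ψ : G → ℂ) :
    Cfsg.classInner (∑ i ∈ s, f i) ψ = ∑ i ∈ s, Cfsg.classInner (f i) ψ := by
  classical
  induction s using Finset.induction_on with
  | empty => simp [Cfsg.classInner]
  | insert a s ha ih => rw [Finset.sum_insert ha, Finset.sum_insert ha, classInner_add_left, ih]

theorem exists_classInner_int {θ η : G → ℂ} (h : Cfsg.IsGeneralizedCharacter G θ)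
    (h' : Cfsg.IsGeneralizedCharacter G η) : ∃ k : ℤ, Cfsg.classInner θ η = k := by
  obtain ⟨a, b, ha, hb, rfl⟩ := h
  obtain ⟨a', b', ha', hb', rfl⟩ := h'
  obtain ⟨k₁, h₁⟩ := Characters.Basic.exists_classInner_nat ha ha'
  obtain ⟨k₂, h₂⟩ := Characters.Basic.exists_classInner_nat ha hb'
  obtain ⟨k₃, h₃⟩ := Characters.Basic.exists_classInner_nat hb ha'
  obtain ⟨k₄, h₄⟩ := Characters.Basic.exists_classInner_nat hb hb'
  refine ⟨(k₁ : ℤ) - k₂ - (k₃ - k₄), ?_⟩
  rw [classInner_sub_left, classInner_sub_right, classInner_sub_right, h₁, h₂, h₃, h₄]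
  push_cast
  ring

variable [Fintype (Cfsg.IrrCharacter G)]

theorem eq_sum_irr {θ : G → ℂ} (h : Cfsg.IsGeneralizedCharacter G θ) :
    θ = ∑ χ : Cfsg.IrrCharacter G, Cfsg.classInner θ χ • (χ : G → ℂ) := by
  obtain ⟨a, b, ha, hb, rfl⟩ := h
  simp only [classInner_sub_left, sub_smul, Finset.sum_sub_distrib]
  conv_lhs => rw [Characters.Basic.character_eq_finsum ha, Characters.Basic.character_eq_finsum hb]
  simp only [finsum_eq_sum_of_fintype]

/-- Parseval's identity. -/
theorem classInner_eq_sum {θ η : G → ℂ} (h : Cfsg.IsGeneralizedCharacter G θ) :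
    Cfsg.classInner θ η =
      ∑ χ : Cfsg.IrrCharacter G, Cfsg.classInner θ χ * conj (Cfsg.classInner η χ) := by
  conv_lhs => rw [eq_sum_irr h, classInner_sum_left']
  refine Finset.sum_congr rfl fun χ _ => ?_
  rw [classInner_smul_left, classInner_conj_symm]

/-- Integer coefficients of a generalized character. -/
theorem exists_coeff {θ : G → ℂ} (h : Cfsg.IsGeneralizedCharacter G θ) :
    ∃ c : Cfsg.IrrCharacter G → ℤ,
      (∀ χ : Cfsg.IrrCharacter G, Cfsg.classInner θ (χ : G → ℂ) = c χ) ∧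
      θ = ∑ χ, (c χ : ℂ) • (χ : G → ℂ) ∧
      Cfsg.classInner θ θ = ((∑ χ, c χ ^ 2 : ℤ) : ℂ) := by
  choose c hc using fun χ : Cfsg.IrrCharacter G => exists_classInner_int h (of_irr χ)
  refine ⟨c, hc, ?_, ?_⟩
  · conv_lhs => rw [eq_sum_irr h]
    exact Finset.sum_congr rfl fun χ _ => by rw [hc χ]
  · rw [classInner_eq_sum h, Int.cast_sum]
    refine Finset.sum_congr rfl fun χ _ => ?_
    rw [hc χ, map_intCast, Int.cast_pow, sq]

end fintype

/-- A generalized character of norm one is an irreducible character up to sign. -/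
theorem eq_or_neg_of_norm_one [Fintype G] {θ : G → ℂ} (h : Cfsg.IsGeneralizedCharacter G θ)
    (h1 : Cfsg.classInner θ θ = 1) :
    ∃ χ : Cfsg.IrrCharacter G, θ = (χ : G → ℂ) ∨ θ = -(χ : G → ℂ) := by
  classical
  have := Fintype.ofFinite (Cfsg.IrrCharacter G)
  obtain ⟨c, -, hθ, hn⟩ := exists_coeff h
  rw [h1] at hn
  have hn' : ∑ χ, c χ ^ 2 = 1 := by exact_mod_cast hn.symm
  obtain ⟨χ, hχ⟩ : ∃ χ, c χ ≠ 0 := by
    by_contra hall
    push Not at hall
    simp [hall] at hn'
  rw [← Finset.add_sum_erase _ _ (Finset.mem_univ χ)] at hn'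
  have hnn : ∀ ψ ∈ Finset.univ.erase χ, 0 ≤ c ψ ^ 2 := fun ψ _ => sq_nonneg _
  have hpos : 0 < c χ ^ 2 := lt_of_le_of_ne (sq_nonneg _) (Ne.symm (pow_ne_zero 2 hχ))
  have hrest : ∑ ψ ∈ Finset.univ.erase χ, c ψ ^ 2 = 0 := by
    have := Finset.sum_nonneg hnn
    omega
  have hzero : ∀ ψ, ψ ≠ χ → c ψ = 0 := fun ψ hψ =>
    eq_zero_of_pow_eq_zero ((Finset.sum_eq_zero_iff_of_nonneg hnn).mp hrest ψ
      (Finset.mem_erase.mpr ⟨hψ, Finset.mem_univ _⟩))
  rw [Finset.sum_eq_single χ (fun ψ _ hψ => by rw [hzero ψ hψ, Int.cast_zero, zero_smul])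
    (fun hm => absurd (Finset.mem_univ χ) hm)] at hθ
  refine ⟨χ, ?_⟩
  rcases sq_eq_one_iff.mp (by omega : c χ ^ 2 = 1) with hc | hc
  · left; rw [hθ, hc, Int.cast_one, one_smul]
  · right; rw [hθ, hc, Int.cast_neg, Int.cast_one, neg_one_smul]

/-- A generalized character of norm one with positive degree is an irreducible character. -/
theorem isIrrCharacter_of_norm_one [Fintype G] {θ : G → ℂ}
    (h : Cfsg.IsGeneralizedCharacter G θ) (h1 : Cfsg.classInner θ θ = 1) (hpos : 0 < (θ 1).re) :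
    Cfsg.IsIrrCharacter G θ := by
  obtain ⟨χ, rfl | rfl⟩ := eq_or_neg_of_norm_one h h1
  · exact χ.2
  · obtain ⟨n, -, hn⟩ := Characters.Basic.exists_degree_pos χ
    rw [Pi.neg_apply, hn, Complex.neg_re, Complex.natCast_re] at hpos
    have : (0 : ℝ) ≤ n := n.cast_nonneg
    linarith

/-- A generalized character of norm two vanishing at `1` is a difference of two irreducible
characters. -/
theorem exists_sub_of_norm_two [Fintype G] {θ : G → ℂ} (h : Cfsg.IsGeneralizedCharacter G θ)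
    (h2 : Cfsg.classInner θ θ = 2) (h1 : θ 1 = 0) :
    ∃ χ ψ : Cfsg.IrrCharacter G, χ ≠ ψ ∧ θ = (χ : G → ℂ) - (ψ : G → ℂ) := by
  classical
  have := Fintype.ofFinite (Cfsg.IrrCharacter G)
  obtain ⟨c, -, hθ, hn⟩ := exists_coeff h
  rw [h2] at hn
  have hn' : ∑ χ, c χ ^ 2 = 2 := by exact_mod_cast hn.symm
  have hsmall : ∀ χ, c χ = -1 ∨ c χ = 0 ∨ c χ = 1 := by
    intro χ
    have hle : c χ ^ 2 ≤ 2 := by
      rw [← hn']
      exact Finset.single_le_sum (f := fun ψ => c ψ ^ 2) (fun ψ _ => sq_nonneg _)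
        (Finset.mem_univ χ)
    have : -1 ≤ c χ ∧ c χ ≤ 1 := ⟨by nlinarith, by nlinarith⟩
    omega
  set S := Finset.univ.filter fun χ => c χ ≠ 0
  have hS : S.card = 2 := by
    have h' : (S.card : ℤ) = ∑ χ, c χ ^ 2 := by
      rw [Finset.card_filter, Nat.cast_sum]
      refine Finset.sum_congr rfl fun χ _ => ?_
      rcases hsmall χ with hc | hc | hc <;> simp [hc]
    rw [hn'] at h'
    exact_mod_cast h'
  obtain ⟨a, b, hab, hSab⟩ := Finset.card_eq_two.mp hS
  have hθ' : θ = (c a : ℂ) • (a : G → ℂ) + (c b : ℂ) • (b : G → ℂ) := by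
    rw [hθ, ← Finset.sum_pair (f := fun χ : Cfsg.IrrCharacter G => (c χ : ℂ) • (χ : G → ℂ)) hab,
      ← hSab]
    refine (Finset.sum_filter_of_ne fun χ _ hne => ?_).symm
    exact fun hc => hne (by rw [hc, Int.cast_zero, zero_smul])
  have ha : c a ≠ 0 := (Finset.mem_filter.mp (hSab ▸ Finset.mem_insert_self a {b} : a ∈ S)).2
  have hb : c b ≠ 0 := (Finset.mem_filter.mp (hSab ▸ by simp : b ∈ S)).2
  obtain ⟨da, hda, hda'⟩ := Characters.Basic.exists_degree_pos a
  obtain ⟨db, hdb, hdb'⟩ := Characters.Basic.exists_degree_pos b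
  have hdeg : (c a * da + c b * db : ℤ) = 0 := by
    have := congrFun hθ' 1
    simp only [Pi.add_apply, Pi.smul_apply, smul_eq_mul, hda', hdb', h1] at this
    exact_mod_cast this.symm
  rcases (hsmall a).imp id (Or.resolve_left · ha) with hca | hca <;>
    rcases (hsmall b).imp id (Or.resolve_left · hb) with hcb | hcb
  · rw [hca, hcb] at hdeg; omega
  · exact ⟨b, a, hab.symm, by rw [hθ', hca, hcb]; simp; abel⟩
  · exact ⟨a, b, hab, by rw [hθ', hca, hcb]; simp; abel⟩
  · rw [hca, hcb] at hdeg; omega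

end Cfsg.Agent.Lib.Induced.Generalized
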