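import Cfsg.Prelude.Def_Characters
import Mathlib.GroupTheory.GroupAction.Quotient

/-!
# Induced functions

Elementary properties of `Cfsg.indFun`: explicit formula, linearity, degree, Frobenius
reciprocity, the projection formula, transitivity, conjugation.
-/

namespace Cfsg.Agent.Lib.Induced.Basic

open scoped ComplexConjugate

universe u v

variable {G : Type u} [Group G]

theorem extendByZero_of_mem (H : Subgroup G) (θ : H → ℂ) {g : G} (hg : g ∈ H) :
    Cfsg.extendByZero H θ g = θ ⟨g, hg⟩ := by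
  have := Subtype.val_injective.extend_apply θ (0 : G → ℂ) (⟨g, hg⟩ : H)
  exact this

theorem extendByZero_coe (H : Subgroup G) (θ : H → ℂ) (h : H) :
    Cfsg.extendByZero H θ (h : G) = θ h :=
  extendByZero_of_mem H θ h.2

theorem extendByZero_of_not_mem (H : Subgroup G) (θ : H → ℂ) {g : G} (hg : g ∉ H) :
    Cfsg.extendByZero H θ g = 0 := by
  rw [Cfsg.extendByZero, Function.extend_apply']
  · rfl
  · rintro ⟨h, rfl⟩
    exact hg h.2

theorem extendByZero_eq_dite (H : Subgroup G) (θ : H → ℂ) (g : G) [Decidable (g ∈ H)] :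
    Cfsg.extendByZero H θ g = if hg : g ∈ H then θ ⟨g, hg⟩ else 0 := by
  split_ifs with hg
  · exact extendByZero_of_mem H θ hg
  · exact extendByZero_of_not_mem H θ hg

/-- Change of the subgroup along an equality. -/
theorem extendByZero_congr (H : Subgroup G) (θ θ' : H → ℂ) (g : G)
    (h : ∀ hg : g ∈ H, θ ⟨g, hg⟩ = θ' ⟨g, hg⟩) :
    Cfsg.extendByZero H θ g = Cfsg.extendByZero H θ' g := by
  by_cases hg : g ∈ H
  · rw [extendByZero_of_mem H θ hg, extendByZero_of_mem H θ' hg, h hg]
  · rw [extendByZero_of_not_mem H θ hg, extendByZero_of_not_mem H θ' hg]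

theorem extendByZero_conj_of_mem (H : Subgroup G) {θ : H → ℂ} (hθ : Cfsg.IsClassFunction H θ)
    {h : G} (hh : h ∈ H) (g : G) :
    Cfsg.extendByZero H θ (h * g * h⁻¹) = Cfsg.extendByZero H θ g := by
  by_cases hg : g ∈ H
  · rw [extendByZero_of_mem H θ hg,
      extendByZero_of_mem H θ (H.mul_mem (H.mul_mem hh hg) (H.inv_mem hh))]
    exact hθ ⟨g, hg⟩ ⟨h, hh⟩
  · rw [extendByZero_of_not_mem H θ hg, extendByZero_of_not_mem H θ]
    intro hcon
    apply hg
    have h' := H.mul_mem (H.mul_mem (H.inv_mem hh) hcon) hh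
    simpa [mul_assoc] using h'

section classInner

variable [Fintype G]

theorem natCard_ne_zero : (Nat.card G : ℂ) ≠ 0 :=
  Nat.cast_ne_zero.mpr Nat.card_pos.ne'

theorem subgroup_card_ne_zero (H : Subgroup G) : (Nat.card H : ℂ) ≠ 0 :=
  Nat.cast_ne_zero.mpr Nat.card_pos.ne'

theorem classInner_conj_symm (φ ψ : G → ℂ) :
    conj (Cfsg.classInner φ ψ) = Cfsg.classInner ψ φ := by
  simp only [Cfsg.classInner, map_mul, map_inv₀, map_natCast, map_sum, Complex.conj_conj]
  congr 1
  exact Finset.sum_congr rfl fun g _ => mul_comm _ _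

theorem classInner_add_left (φ φ' ψ : G → ℂ) :
    Cfsg.classInner (φ + φ') ψ = Cfsg.classInner φ ψ + Cfsg.classInner φ' ψ := by
  simp only [Cfsg.classInner, Pi.add_apply, add_mul, Finset.sum_add_distrib, mul_add]

theorem classInner_sub_left (φ φ' ψ : G → ℂ) :
    Cfsg.classInner (φ - φ') ψ = Cfsg.classInner φ ψ - Cfsg.classInner φ' ψ := by
  simp only [Cfsg.classInner, Pi.sub_apply, sub_mul, Finset.sum_sub_distrib, mul_sub]

theorem classInner_smul_left (c : ℂ) (φ ψ : G → ℂ) :
    Cfsg.classInner (c • φ) ψ = c * Cfsg.classInner φ ψ := by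
  simp only [Cfsg.classInner, Pi.smul_apply, smul_eq_mul, mul_assoc, ← Finset.mul_sum]
  ring

theorem classInner_add_right (φ ψ ψ' : G → ℂ) :
    Cfsg.classInner φ (ψ + ψ') = Cfsg.classInner φ ψ + Cfsg.classInner φ ψ' := by
  simp only [Cfsg.classInner, Pi.add_apply, map_add, mul_add, Finset.sum_add_distrib]

theorem classInner_sub_right (φ ψ ψ' : G → ℂ) :
    Cfsg.classInner φ (ψ - ψ') = Cfsg.classInner φ ψ - Cfsg.classInner φ ψ' := by
  simp only [Cfsg.classInner, Pi.sub_apply, map_sub, mul_sub, Finset.sum_sub_distrib]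

theorem classInner_smul_right (c : ℂ) (φ ψ : G → ℂ) :
    Cfsg.classInner φ (c • ψ) = conj c * Cfsg.classInner φ ψ := by
  simp only [Cfsg.classInner, Pi.smul_apply, smul_eq_mul, map_mul, Finset.mul_sum]
  exact Finset.sum_congr rfl fun g _ => by ring

end classInner

section indFun

variable [Fintype G]

theorem indFun_apply (H : Subgroup G) (θ : H → ℂ) (g : G) [DecidablePred (· ∈ H)] :
    Cfsg.indFun H θ g = (Nat.card H : ℂ)⁻¹ *
      ∑ x : G, if hx : x⁻¹ * g * x ∈ H then θ ⟨x⁻¹ * g * x, hx⟩ else 0 := by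
  simp only [Cfsg.indFun, extendByZero_eq_dite]

theorem isClassFunction_indFun (H : Subgroup G) (θ : H → ℂ) :
    Cfsg.IsClassFunction G (Cfsg.indFun H θ) := by
  intro g h
  simp only [Cfsg.indFun]
  congr 1
  exact Fintype.sum_equiv (Equiv.mulLeft h⁻¹) _ _ fun x => by simp [mul_assoc]

theorem indFun_congr (H : Subgroup G) {θ θ' : H → ℂ} (g : G)
    (h : ∀ (x : G) (hx : x⁻¹ * g * x ∈ H), θ ⟨_, hx⟩ = θ' ⟨_, hx⟩) :
    Cfsg.indFun H θ g = Cfsg.indFun H θ' g := by
  simp only [Cfsg.indFun]
  congr 1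
  exact Finset.sum_congr rfl fun x _ => extendByZero_congr H θ θ' _ (h x)

theorem indFun_add (H : Subgroup G) (θ θ' : H → ℂ) :
    Cfsg.indFun H (θ + θ') = Cfsg.indFun H θ + Cfsg.indFun H θ' := by
  classical
  funext g
  simp only [indFun_apply, Pi.add_apply, ← mul_add, ← Finset.sum_add_distrib]
  congr 1
  exact Finset.sum_congr rfl fun x _ => by split_ifs <;> simp

theorem indFun_sub (H : Subgroup G) (θ θ' : H → ℂ) :
    Cfsg.indFun H (θ - θ') = Cfsg.indFun H θ - Cfsg.indFun H θ' := by
  classical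
  funext g
  simp only [indFun_apply, Pi.sub_apply, ← mul_sub, ← Finset.sum_sub_distrib]
  congr 1
  exact Finset.sum_congr rfl fun x _ => by split_ifs <;> simp

theorem indFun_smul (H : Subgroup G) (c : ℂ) (θ : H → ℂ) :
    Cfsg.indFun H (c • θ) = c • Cfsg.indFun H θ := by
  classical
  funext g
  simp only [indFun_apply, Pi.smul_apply, smul_eq_mul, Finset.mul_sum]
  exact Finset.sum_congr rfl fun x _ => by split_ifs <;> ring

theorem indFun_zero (H : Subgroup G) : Cfsg.indFun H (0 : H → ℂ) = 0 := by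
  rw [← zero_smul ℂ (0 : H → ℂ), indFun_smul, zero_smul]

theorem indFun_neg (H : Subgroup G) (θ : H → ℂ) :
    Cfsg.indFun H (-θ) = -Cfsg.indFun H θ := by
  rw [← neg_one_smul ℂ θ, indFun_smul, neg_one_smul]

theorem indFun_sum (H : Subgroup G) {ι : Type v} (s : Finset ι) (θ : ι → H → ℂ) :
    Cfsg.indFun H (∑ i ∈ s, θ i) = ∑ i ∈ s, Cfsg.indFun H (θ i) := by
  classical
  induction s using Finset.induction_on with
  | empty => simp [indFun_zero]
  | insert a s ha ih => rw [Finset.sum_insert ha, Finset.sum_insert ha, indFun_add, ih]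

theorem indFun_one (H : Subgroup G) (θ : H → ℂ) :
    Cfsg.indFun H θ 1 = (H.index : ℂ) * θ 1 := by
  have h1 : ∀ x : G, Cfsg.extendByZero H θ (x⁻¹ * 1 * x) = θ 1 := by
    intro x
    rw [mul_one, inv_mul_cancel]
    exact extendByZero_of_mem H θ H.one_mem
  simp only [Cfsg.indFun, h1, Finset.sum_const, Finset.card_univ, nsmul_eq_mul]
  rw [Fintype.card_eq_nat_card, ← H.card_mul_index, Nat.cast_mul, ← mul_assoc, ← mul_assoc,
    inv_mul_cancel₀ (subgroup_card_ne_zero H), one_mul]

theorem indFun_eq_zero_of_forall_not_mem (H : Subgroup G) (θ : H → ℂ) {g : G}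
    (hg : ∀ x : G, x⁻¹ * g * x ∉ H) : Cfsg.indFun H θ g = 0 := by
  simp only [Cfsg.indFun]
  rw [Finset.sum_eq_zero, mul_zero]
  exact fun x _ => extendByZero_of_not_mem H θ (hg x)

theorem indFun_eq_zero_of_not_mem_normal (H : Subgroup G) [hN : H.Normal] (θ : H → ℂ) {g : G}
    (hg : g ∉ H) : Cfsg.indFun H θ g = 0 := by
  refine indFun_eq_zero_of_forall_not_mem H θ fun x hx => hg ?_
  simpa [mul_assoc] using hN.conj_mem _ hx x

theorem indFun_conj_fun (H : Subgroup G) (θ : H → ℂ) (g : G) :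
    conj (Cfsg.indFun H θ g) = Cfsg.indFun H (fun h => conj (θ h)) g := by
  classical
  simp only [indFun_apply, map_mul, map_inv₀, map_natCast, map_sum]
  congr 1
  exact Finset.sum_congr rfl fun x _ => by split_ifs <;> simp

/-- Sum of an extension by zero over the whole group. -/
theorem sum_extendByZero_mul (H : Subgroup G) [Fintype H] (θ : H → ℂ) (f : G → ℂ) :
    ∑ g : G, Cfsg.extendByZero H θ g * f g = ∑ h : H, θ h * f h := by
  classical
  symm
  refine Finset.sum_of_injOn (fun h : H => (h : G)) Subtype.val_injective.injOn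
    (fun _ _ => Finset.mem_univ _) (fun g _ hg => ?_) (fun h _ => ?_)
  · rw [extendByZero_of_not_mem H θ fun h => hg ⟨⟨g, h⟩, Finset.mem_univ _, rfl⟩, zero_mul]
  · rw [extendByZero_coe]

theorem sum_indFun_mul (H : Subgroup G) [Fintype H] (θ : H → ℂ) {f : G → ℂ}
    (hf : Cfsg.IsClassFunction G f) :
    ∑ g : G, Cfsg.indFun H θ g * f g = (H.index : ℂ) * ∑ h : H, θ h * f h := by
  have key : ∀ x : G, ∑ g : G, Cfsg.extendByZero H θ (x⁻¹ * g * x) * f g =
      ∑ h : H, θ h * f h := by
    intro x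
    rw [← sum_extendByZero_mul H θ f]
    refine Fintype.sum_equiv (MulAut.conj x⁻¹).toEquiv _ _ fun g => ?_
    have hg : f (x⁻¹ * g * x) = f g := by simpa using hf g x⁻¹
    simp [hg]
  simp only [Cfsg.indFun, Finset.sum_mul, mul_assoc, ← Finset.mul_sum]
  rw [Finset.sum_comm]
  rw [Finset.sum_congr rfl fun x _ => by simpa only [mul_assoc] using key x]
  rw [Finset.sum_const, Finset.card_univ, nsmul_eq_mul, Fintype.card_eq_nat_card,
    ← H.card_mul_index, Nat.cast_mul, ← mul_assoc, ← mul_assoc,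
    inv_mul_cancel₀ (subgroup_card_ne_zero H), one_mul]

/-- Frobenius reciprocity. -/
theorem frobenius_reciprocity (H : Subgroup G) [Fintype H] (θ : H → ℂ) {χ : G → ℂ}
    (hχ : Cfsg.IsClassFunction G χ) :
    Cfsg.classInner (Cfsg.indFun H θ) χ = Cfsg.classInner θ (fun h : H => χ h) := by
  have hc : Cfsg.IsClassFunction G (fun g => conj (χ g)) := fun g h => by simp [hχ g h]
  simp only [Cfsg.classInner, sum_indFun_mul H θ hc, ← mul_assoc]
  congr 1
  rw [← H.card_mul_index, Nat.cast_mul, mul_inv, mul_assoc, inv_mul_cancel₀, mul_one]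
  exact Nat.cast_ne_zero.mpr H.index_ne_zero_of_finite

/-- Frobenius reciprocity, induced function on the right. -/
theorem frobenius_reciprocity' (H : Subgroup G) [Fintype H] (θ : H → ℂ) {χ : G → ℂ}
    (hχ : Cfsg.IsClassFunction G χ) :
    Cfsg.classInner χ (Cfsg.indFun H θ) = Cfsg.classInner (fun h : H => χ h) θ := by
  rw [← classInner_conj_symm, frobenius_reciprocity H θ hχ, classInner_conj_symm]

/-- Projection formula. -/
theorem indFun_mul_restrict (H : Subgroup G) (θ : H → ℂ) {f : G → ℂ}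
    (hf : Cfsg.IsClassFunction G f) :
    Cfsg.indFun H (fun h => θ h * f h) = fun g => Cfsg.indFun H θ g * f g := by
  classical
  funext g
  simp only [indFun_apply]
  rw [mul_assoc, Finset.sum_mul]
  congr 1
  refine Finset.sum_congr rfl fun x _ => ?_
  have hg : f (x⁻¹ * g * x) = f g := by simpa using hf g x⁻¹
  split_ifs <;> simp [hg]

/-- Induction is transitive. -/
theorem indFun_trans (H K : Subgroup G) [Fintype K] (hHK : H ≤ K) (θ : H → ℂ) :
    Cfsg.indFun K (Cfsg.indFun (H.subgroupOf K)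
        (fun x => θ ⟨(x : K), Subgroup.mem_subgroupOf.mp x.2⟩)) = Cfsg.indFun H θ := by
  classical
  funext g
  set θ' : H.subgroupOf K → ℂ := fun x => θ ⟨(x : K), Subgroup.mem_subgroupOf.mp x.2⟩
  have hcard : Nat.card (H.subgroupOf K) = Nat.card H :=
    Nat.card_congr (Subgroup.subgroupOfEquivOfLe hHK).toEquiv
  have inner : ∀ x : G, Cfsg.extendByZero K (Cfsg.indFun (H.subgroupOf K) θ') (x⁻¹ * g * x) =
      (Nat.card H : ℂ)⁻¹ * ∑ k : K, Cfsg.extendByZero H θ ((x * k)⁻¹ * g * (x * k)) := by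
    intro x
    by_cases hx : x⁻¹ * g * x ∈ K
    · rw [extendByZero_of_mem K _ hx, Cfsg.indFun, hcard]
      congr 1
      refine Finset.sum_congr rfl fun k _ => ?_
      have hval : ((k⁻¹ * (⟨x⁻¹ * g * x, hx⟩ : K) * k : K) : G) = (x * k)⁻¹ * g * (x * k) := by
        simp [mul_assoc]
      by_cases hk : (x * k)⁻¹ * g * (x * k) ∈ H
      · have hk' : k⁻¹ * ⟨x⁻¹ * g * x, hx⟩ * k ∈ H.subgroupOf K := by
          rw [Subgroup.mem_subgroupOf, hval]; exact hk
        rw [extendByZero_of_mem _ _ hk', extendByZero_of_mem _ _ hk]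
        simp only [θ', hval]
      · rw [extendByZero_of_not_mem _ _ hk, extendByZero_of_not_mem]
        rwa [Subgroup.mem_subgroupOf, hval]
    · rw [extendByZero_of_not_mem K _ hx, Finset.sum_eq_zero, mul_zero]
      intro k _
      refine extendByZero_of_not_mem H θ fun hk => hx ?_
      have h' := K.mul_mem (K.mul_mem k.2 (hHK hk)) (K.inv_mem k.2)
      simpa [mul_assoc] using h'
  simp only [Cfsg.indFun] at inner ⊢
  simp only [inner, ← Finset.mul_sum]
  rw [Finset.sum_comm]
  have shift : ∀ k : K, ∑ x : G, Cfsg.extendByZero H θ ((x * k)⁻¹ * g * (x * k)) =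
      ∑ x : G, Cfsg.extendByZero H θ (x⁻¹ * g * x) := fun k =>
    Fintype.sum_equiv (Equiv.mulRight (k : G)) _ _ fun x => rfl
  simp only [shift, Finset.sum_const, Finset.card_univ, nsmul_eq_mul, Fintype.card_eq_nat_card]
  rw [mul_left_comm (Nat.card H : ℂ)⁻¹, ← mul_assoc, inv_mul_cancel₀ (subgroup_card_ne_zero K),
    one_mul]

end indFun

/-- The fixed-point character of a transitive action is induced from a point stabiliser. -/
theorem card_fixedBy_eq_indFun [Fintype G] (X : Type v) [MulAction G X] [Finite X]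
    [MulAction.IsPretransitive G X] (x : X) :
    (fun g : G => (Nat.card (MulAction.fixedBy X g) : ℂ)) =
      Cfsg.indFun (MulAction.stabilizer G x) (fun _ => 1) := by
  classical
  funext g
  have := Fintype.ofFinite X
  have fib : ∀ y : X, (Finset.univ.filter fun a : G => a • x = y).card =
      Nat.card (MulAction.stabilizer G x) := by
    intro y
    obtain ⟨b, rfl⟩ := MulAction.exists_smul_eq G x y
    rw [Nat.card_eq_fintype_card, ← Finset.card_univ (α := MulAction.stabilizer G x)]
    refine Finset.card_bij' (fun a ha => ⟨b⁻¹ * a, ?_⟩) (fun s _ => b * s) (fun _ _ => Finset.mem_univ _)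
      (fun s _ => ?_) (fun a _ => by simp) (fun s _ => by simp)
    · rw [MulAction.mem_stabilizer_iff, mul_smul, (Finset.mem_filter.mp ha).2, inv_smul_smul]
    · rw [Finset.mem_filter, mul_smul, MulAction.mem_stabilizer_iff.mp s.2]
      exact ⟨Finset.mem_univ _, rfl⟩
  have key : ∀ a : G, Cfsg.extendByZero (MulAction.stabilizer G x) (fun _ => (1 : ℂ))
      (a⁻¹ * g * a) = if g • (a • x) = a • x then 1 else 0 := by
    intro a
    have : a⁻¹ * g * a ∈ MulAction.stabilizer G x ↔ g • (a • x) = a • x := by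
      rw [MulAction.mem_stabilizer_iff, mul_smul, mul_smul, inv_smul_eq_iff]
    rw [extendByZero_eq_dite]
    simp [this]
  simp only [Cfsg.indFun, key]
  rw [← Finset.sum_fiberwise (Finset.univ : Finset G) (fun a => a • x)]
  have step : ∀ y : X, (∑ a ∈ Finset.univ.filter (fun a : G => a • x = y),
      if g • (a • x) = a • x then (1 : ℂ) else 0) =
      (Nat.card (MulAction.stabilizer G x) : ℂ) * if g • y = y then 1 else 0 := by
    intro y
    rw [Finset.sum_congr rfl (g := fun _ => if g • y = y then (1 : ℂ) else 0) fun a ha => by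
      rw [(Finset.mem_filter.mp ha).2]]
    rw [Finset.sum_const, fib, nsmul_eq_mul]
  simp only [step, ← Finset.mul_sum, ← mul_assoc, inv_mul_cancel₀ (subgroup_card_ne_zero _),
    one_mul]
  rw [Finset.sum_boole, Nat.card_eq_fintype_card, ← Set.toFinset_card]
  congr 2
  ext y
  simp

end Cfsg.Agent.Lib.Induced.Basic
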