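import Cfsg.Agent.Lib.Characters.Complete
import Cfsg.Agent.Lib.Clifford.Basic
import Cfsg.Agent.Lib.Induced.Generalized

/-!
# Induction from normal subgroups, and Brauer's permutation lemma
-/

namespace Cfsg.Agent.Lib.Induced.Mackey

open scoped ComplexConjugate
open Cfsg.Agent.Lib
open Cfsg.Agent.Lib.Induced.Basic

universe u

variable {G : Type u} [Group G]

/-- Inner product of two characters induced from a normal subgroup. -/
theorem card_mul_classInner_indFun [Fintype G] (N : Subgroup G) [N.Normal]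
    {θ η : N → ℂ} (hθ : Cfsg.IsIrrCharacter N θ) (hη : Cfsg.IsIrrCharacter N η) :
    (Nat.card N : ℂ) * Cfsg.classInner (Cfsg.indFun N θ) (Cfsg.indFun N η) =
      (Nat.card {g : G // Clifford.Basic.conjC N g η = θ} : ℂ) := by
  classical
  haveI := Fintype.ofFinite N
  rw [frobenius_reciprocity N θ (isClassFunction_indFun N η),
    Clifford.Basic.indFun_restrict_normal N η, classInner_smul_right, map_inv₀, map_natCast,
    ← mul_assoc, mul_inv_cancel₀ (subgroup_card_ne_zero N), one_mul,
    ← classInner_conj_symm, Generalized.classInner_sum_left', map_sum]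
  have h : ∀ x : G, conj (Cfsg.classInner (Clifford.Basic.conjC N x η) θ) =
      if Clifford.Basic.conjC N x η = θ then 1 else 0 := by
    intro x
    split_ifs with hx
    · rw [hx, show Cfsg.classInner θ θ = 1 from
        Characters.Basic.classInner_self_irr ⟨θ, hθ⟩, map_one]
    · rw [show Cfsg.classInner (Clifford.Basic.conjC N x η) θ = 0 from
        Characters.Basic.classInner_irr_of_ne
          (χ := ⟨_, Clifford.Basic.isIrrCharacter_conjC N x hη⟩) (ψ := ⟨θ, hθ⟩)
          (fun e => hx (congrArg Subtype.val e)), map_zero]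
  simp only [h, Finset.sum_boole, Nat.card_eq_fintype_card, Fintype.card_subtype]

/-- Induction from a normal subgroup is irreducible when no element outside fixes the
character. -/
theorem isIrrCharacter_indFun [Fintype G] (N : Subgroup G) [N.Normal]
    {θ : N → ℂ} (hθ : Cfsg.IsIrrCharacter N θ)
    (hstab : ∀ g : G, Clifford.Basic.conjC N g θ = θ → g ∈ N) :
    Cfsg.IsIrrCharacter G (Cfsg.indFun N θ) := by
  refine Characters.Basic.isIrrCharacter_of_classInner_self
    (Character.isCharacter_indFun N (Characters.Basic.IsCharacter_of_isIrrCharacter hθ)) ?_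
  have hcl : Cfsg.IsClassFunction N θ :=
    Characters.Basic.isClassFunction_irr ⟨θ, hθ⟩
  have h : (Nat.card {g : G // Clifford.Basic.conjC N g θ = θ}) = Nat.card N :=
    Nat.card_congr (Equiv.subtypeEquivRight fun g =>
      ⟨hstab g, fun hg => Clifford.Basic.conjC_of_mem N hcl hg⟩)
  have key := card_mul_classInner_indFun N hθ hθ
  rw [h] at key
  exact (mul_eq_left₀ (subgroup_card_ne_zero N)).mp key

/-- Brauer's permutation lemma. -/
theorem card_fixed_classes_eq [Finite G] (α : G ≃* G) :
    Nat.card {C : ConjClasses G // ConjClasses.map α.toMonoidHom C = C} =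
      Nat.card {χ : Cfsg.IrrCharacter G // (χ : G → ℂ) ∘ α = (χ : G → ℂ)} := by
  classical
  haveI := Fintype.ofFinite G
  haveI := Fintype.ofFinite (Cfsg.IrrCharacter G)
  haveI : Fintype (ConjClasses G) :=
    haveI := Finite.of_surjective _ (ConjClasses.mk_surjective (α := G)); Fintype.ofFinite _
  have hchar : ∀ χ : Cfsg.IrrCharacter G, Cfsg.classInner ((χ : G → ℂ) ∘ α) χ =
      if (χ : G → ℂ) ∘ α = (χ : G → ℂ) then 1 else 0 := by
    intro χ
    have hi : Cfsg.IsIrrCharacter G ((χ : G → ℂ) ∘ α) :=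
      Characters.Basic.isIrrCharacter_comp α.toMonoidHom α.surjective χ.2
    split_ifs with hx
    · rw [hx]; exact Characters.Basic.classInner_self_irr χ
    · exact Characters.Basic.classInner_irr_of_ne (χ := ⟨_, hi⟩) (ψ := χ)
        (fun e => hx (congrArg Subtype.val e))
  have hsum : (Nat.card {χ : Cfsg.IrrCharacter G // (χ : G → ℂ) ∘ α = (χ : G → ℂ)} : ℂ) =
      (Nat.card G : ℂ)⁻¹ * ∑ g : G,
        if IsConj (α g) g then (Nat.card (Subgroup.centralizer ({g} : Set G)) : ℂ) else 0 := by
    rw [Nat.card_eq_fintype_card, Fintype.card_subtype, ← Finset.sum_boole,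
      ← Finset.sum_congr rfl fun χ _ => hchar χ]
    simp only [Cfsg.classInner, Function.comp_apply]
    rw [← Finset.mul_sum, Finset.sum_comm]
    congr 1
    refine Finset.sum_congr rfl fun g _ => ?_
    rw [Characters.Complete.sum_irr_mul_conj]
    split_ifs with hg
    · obtain ⟨c, hc⟩ := isConj_iff.mp hg
      congr 1
      refine Nat.card_congr ((MulAut.conj c).toEquiv.subtypeEquiv fun y => ?_)
      show y ∈ Subgroup.centralizer {α g} ↔ c * y * c⁻¹ ∈ Subgroup.centralizer {g}
      rw [Subgroup.mem_centralizer_singleton_iff, Subgroup.mem_centralizer_singleton_iff]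
      conv_rhs => rw [← hc]
      rw [show c * y * c⁻¹ * (c * α g * c⁻¹) = c * (y * α g) * c⁻¹ by group,
        show (c * α g * c⁻¹) * (c * y * c⁻¹) = c * (α g * y) * c⁻¹ by group]
      simp
    · rfl
  apply Nat.cast_injective (R := ℂ)
  rw [hsum, Nat.card_eq_fintype_card, Fintype.card_subtype, ← Finset.sum_boole,
    eq_inv_mul_iff_mul_eq₀ natCard_ne_zero, Finset.mul_sum,
    ← Finset.sum_fiberwise (Finset.univ : Finset G) ConjClasses.mk]
  refine Finset.sum_congr rfl fun C _ => ?_
  obtain ⟨c, rfl⟩ := ConjClasses.mk_surjective C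
  have hP : ConjClasses.map α.toMonoidHom (ConjClasses.mk c) = ConjClasses.mk c ↔
      IsConj (α c) c := ConjClasses.mk_eq_mk_iff_isConj
  have hmem : ∀ g ∈ Finset.univ.filter (fun g : G => ConjClasses.mk g = ConjClasses.mk c),
      IsConj g c := fun g hg => ConjClasses.mk_eq_mk_iff_isConj.mp (Finset.mem_filter.mp hg).2
  by_cases hfix : IsConj (α c) c
  · rw [if_pos (hP.mpr hfix), mul_one, Finset.sum_congr rfl (g := fun _ =>
      (Nat.card (Subgroup.centralizer ({c} : Set G)) : ℂ)) fun g hg => ?_, Finset.sum_const,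
      nsmul_eq_mul, ← Nat.cast_mul]
    · congr 1
      rw [← Characters.Complete.card_conjugates_mul_centralizer c]
      congr 1
      rw [Nat.card_eq_fintype_card, Fintype.card_subtype]
      congr 1
      ext g
      rw [Finset.mem_filter, Finset.mem_filter, ConjClasses.mk_eq_mk_iff_isConj]
      simp only [Finset.mem_univ, true_and]
      exact isConj_comm
    · obtain ⟨d, hd⟩ := isConj_iff.mp (hmem g hg)
      rw [if_pos]
      · congr 1
        refine Nat.card_congr ((MulAut.conj d).toEquiv.subtypeEquiv fun y => ?_)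
        show y ∈ Subgroup.centralizer {g} ↔ d * y * d⁻¹ ∈ Subgroup.centralizer {c}
        rw [Subgroup.mem_centralizer_singleton_iff, Subgroup.mem_centralizer_singleton_iff,
          ← hd, show d * y * d⁻¹ * (d * g * d⁻¹) = d * (y * g) * d⁻¹ by group,
          show (d * g * d⁻¹) * (d * y * d⁻¹) = d * (g * y) * d⁻¹ by group]
        simp
      · have : IsConj (α g) (α c) := isConj_iff.mpr ⟨α d, by rw [← hd]; simp⟩
        exact (this.trans hfix).trans (hmem g hg).symm
  · rw [if_neg (mt hP.mp hfix), mul_zero]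
    refine (Finset.sum_eq_zero fun g hg => if_neg fun hg' => hfix ?_).symm
    obtain ⟨d, hd⟩ := isConj_iff.mp (hmem g hg)
    have : IsConj (α g) (α c) := isConj_iff.mpr ⟨α d, by rw [← hd]; simp⟩
    exact (this.symm.trans hg').trans (hmem g hg)

/-- An automorphism fixing only the trivial class fixes only the trivial character. -/
theorem eq_one_of_fixed [Finite G] (α : G ≃* G)
    (hα : ∀ g : G, IsConj (α g) g → g = 1) {χ : G → ℂ} (hχ : Cfsg.IsIrrCharacter G χ)
    (hfix : χ ∘ α = χ) : χ = fun _ => 1 := by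
  classical
  haveI := Finite.of_surjective _ (ConjClasses.mk_surjective (α := G))
  have h := card_fixed_classes_eq α
  have hone : Nat.card {C : ConjClasses G // ConjClasses.map α.toMonoidHom C = C} = 1 := by
    rw [Nat.card_eq_one_iff_unique]
    refine ⟨⟨fun a b => Subtype.ext ?_⟩, ⟨⟨ConjClasses.mk 1, ?_⟩⟩⟩
    · suffices ∀ C : ConjClasses G, ConjClasses.map α.toMonoidHom C = C →
          C = ConjClasses.mk 1 by rw [this _ a.2, this _ b.2]
      intro C hC
      obtain ⟨g, rfl⟩ := ConjClasses.mk_surjective C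
      rw [hα g (ConjClasses.mk_eq_mk_iff_isConj.mp hC)]
    · show ConjClasses.mk (α 1) = _
      rw [map_one]
  rw [hone, eq_comm, Nat.card_eq_one_iff_unique] at h
  have := h.1
  have := congrArg (fun x : {χ : Cfsg.IrrCharacter G // (χ : G → ℂ) ∘ α = (χ : G → ℂ)} =>
    (x.1 : G → ℂ)) (Subsingleton.elim ⟨⟨χ, hχ⟩, hfix⟩ ⟨Characters.Basic.oneChar G, rfl⟩)
  exact this

/-- For `K ⋊ H` fixed-point-free, an element of `H` other than `1` fixes only the trivial class
of `K`, so no non-principal irreducible character of `K` is stable outside `K`. -/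
theorem inertia_of_fixedPointFree [Finite G] (K H : Subgroup G) [K.Normal] (hKH : K ⊓ H = ⊥)
    (hKH' : K ⊔ H = ⊤) (hfpf : ∀ h ∈ H, h ≠ 1 → ∀ k ∈ K, h * k = k * h → k = 1) {τ : K → ℂ}
    (hτ : Cfsg.IsIrrCharacter K τ) (hτ1 : τ ≠ fun _ => 1) (g : G)
    (hg : Clifford.Basic.conjC K g τ = τ) : g ∈ K := by
  by_contra hgK
  apply hτ1
  refine eq_one_of_fixed (MulAut.conjNormal g) (fun x hx => ?_) hτ hg
  obtain ⟨k, hk, h, hh, rfl⟩ : ∃ k ∈ K, ∃ h ∈ H, k * h = g :=
    Subgroup.mem_sup_of_normal_left.mp (hKH' ▸ Subgroup.mem_top g)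
  have hh1 : h ≠ 1 := fun e => hgK (by rw [e, mul_one]; exact hk)
  obtain ⟨d, hd⟩ := isConj_iff.mp hx
  -- `d k h` centralises `x`; it is a conjugate of `h` by an element of `K`
  have hd' : (d : G) * k * h * (x : G) = (x : G) * ((d : G) * k * h) := by
    have e := congrArg Subtype.val hd
    simp only [Subgroup.coe_mul, Subgroup.coe_inv, MulAut.conjNormal_apply] at e
    calc (d : G) * k * h * (x : G)
        = (d : G) * (k * h * x * (k * h)⁻¹) * (d : G)⁻¹ * ((d : G) * k * h) := by group
      _ = (x : G) * ((d : G) * k * h) := by rw [e]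
  have hconj : ∀ a : K, ∃ b : K, (b : G) * h * (b : G)⁻¹ * h⁻¹ = a := by
    have hK : ∀ b : K, (b : G) * h * (b : G)⁻¹ * h⁻¹ ∈ K := fun b => by
      have := K.mul_mem b.2 ((inferInstance : K.Normal).conj_mem _ (K.inv_mem b.2) h)
      simpa [mul_assoc] using this
    suffices Function.Surjective (fun b : K => (⟨_, hK b⟩ : K)) from
      fun a => (this a).imp fun b hb => congrArg Subtype.val hb
    apply Finite.surjective_of_injective
    intro b b' e
    have e' : (b : G) * h * (b : G)⁻¹ = (b' : G) * h * (b' : G)⁻¹ :=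
      mul_right_cancel (congrArg Subtype.val e)
    have := hfpf h hh hh1 ((b' : G)⁻¹ * b) (K.mul_mem (K.inv_mem b'.2) b.2) (by
      calc h * ((b' : G)⁻¹ * b) = (b' : G)⁻¹ * ((b' : G) * h * (b' : G)⁻¹) * b := by group
        _ = (b' : G)⁻¹ * b * h := by rw [← e']; group)
    exact Subtype.ext (inv_mul_eq_one.mp this).symm
  obtain ⟨b, hb⟩ := hconj ⟨(d : G) * k, K.mul_mem d.2 hk⟩
  have hb' : (d : G) * k * h = (b : G) * h * (b : G)⁻¹ := by
    simp only at hb
    rw [← hb]; group
  have := hfpf h hh hh1 ((b : G)⁻¹ * x * b) (K.mul_mem (K.mul_mem (K.inv_mem b.2) x.2) b.2) (by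
    rw [hb'] at hd'
    calc h * ((b : G)⁻¹ * x * b) = (b : G)⁻¹ * ((b : G) * h * (b : G)⁻¹ * x) * b := by group
      _ = (b : G)⁻¹ * x * b * h := by rw [hd']; group)
  apply Subtype.ext
  calc (x : G) = (b : G) * ((b : G)⁻¹ * x * b) * (b : G)⁻¹ := by group
    _ = 1 := by rw [this]; group

end Cfsg.Agent.Lib.Induced.Mackey
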