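import Mathlib

/-!
# Integral vectors with the Gram matrices of the functions `(1 - λ)^G`

`X` stands for the irreducible characters, `a i r` for the coefficient vector of the function
induced from `1 - λ_r` on the `i`-th kernel, `Θ i r` for the exceptional characters.
-/

namespace Cfsg.Agent.Lib.Induced.CNCoeff

theorem sum_zmod_two_eq {X : Type*} [Fintype X] [DecidableEq X] (x1 : X) (bar : X → X)
    (hbar : Function.Involutive bar) (hfix : ∀ x, bar x = x ↔ x = x1) (f : X → ZMod 2)
    (hf : ∀ x, f (bar x) = f x) : ∑ x, f x = f x1 := by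
  have hzero : ∑ x ∈ Finset.univ.erase x1, f x = 0 := by
    refine Finset.sum_involution (fun x _ => bar x) (fun x _ => ?_) (fun x hx _ => ?_)
      (fun x hx => ?_) (fun x _ => hbar x)
    · rw [hf]; exact CharTwo.add_self_eq_zero _
    · exact fun h => (Finset.mem_erase.mp hx).1 ((hfix x).mp h)
    · refine Finset.mem_erase.mpr ⟨fun h => (Finset.mem_erase.mp hx).1 ?_, Finset.mem_univ _⟩
      rw [← hbar x, h]
      exact (hfix x1).mpr rfl
  rw [← Finset.add_sum_erase _ f (Finset.mem_univ x1), hzero, add_zero]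

theorem coeff_core {ι X : Type*} [Fintype ι] [DecidableEq ι] [Fintype X] [DecidableEq X] (x1 : X)
    (bar : X → X) (hbar : Function.Involutive bar) (hfix : ∀ x, bar x = x ↔ x = x1)
    (R : ι → Type*) [∀ i, Fintype (R i)] [∀ i, DecidableEq (R i)] (e : ι → ℕ)
    (a : ∀ i, R i → X → ℤ) (Θ : ∀ i, R i → X) (ε : ι → ℤ) (hε : ∀ i, ε i = 1 ∨ ε i = -1)
    (hinj : ∀ i, Function.Injective (Θ i)) (hW : ∀ i, Even (Fintype.card (R i)))
    (hW2 : ∀ i, 2 ≤ Fintype.card (R i)) (h1 : ∀ i r, a i r x1 = 1)
    (hsame : ∀ i r s, ∑ x, a i r x * a i s x = (e i : ℤ) + if r = s then 1 else 0)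
    (hother : ∀ i l, i ≠ l → ∀ r s, ∑ x, a i r x * a l s x = 0)
    (hdiff : ∀ i r t x, a i r x - a i t x =
      ε i * ((if x = Θ i t then 1 else 0) - (if x = Θ i r then 1 else 0)))
    (hconj : ∀ i x, ∑ r, a i r (bar x) = ∑ r, a i r x) :
    ∃ m : ι → ι → ℤ,
      (∀ i l, i ≠ l → m i l ≠ 0 ∨ m l i ≠ 0) ∧
      (∀ i, ∑ l ∈ Finset.univ.erase i, (Fintype.card (R l) : ℤ) * m i l ^ 2 ≤ (e i : ℤ) - 1) ∧
      ∀ j, ∑ i ∈ Finset.univ.erase j, (Fintype.card (R i) : ℚ) /
          ((e i * Fintype.card (R i) + 1 : ℕ) : ℚ) * (m i j : ℚ) ^ 2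
        ≤ (e j : ℚ) / ((e j * Fintype.card (R j) + 1 : ℕ) : ℚ) := by
  classical
  have hne : ∀ i, Nonempty (R i) := fun i => Fintype.card_pos_iff.mp (by have := hW2 i; omega)
  let r0 : ∀ i, R i := fun i => (hne i).some
  have hsq : ∀ i, ε i * ε i = 1 := fun i => by rcases hε i with h | h <;> simp [h]
  have hε0 : ∀ i, ε i ≠ 0 := fun i => by rcases hε i with h | h <;> simp [h]
  have hsep : ∀ i (r : R i), ∃ t, t ≠ r := fun i r => Fintype.exists_ne_of_one_lt_card (hW2 i) r
  -- the family avoids the trivial character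
  have hx1 : ∀ i r, Θ i r ≠ x1 := by
    intro i r h
    obtain ⟨t, ht⟩ := hsep i r
    have hd := hdiff i r t x1
    rw [h1, h1, sub_self, if_neg (fun e => ht (hinj i (e.symm.trans h.symm))), if_pos h.symm] at hd
    simp [hε0 i] at hd
  -- different families are disjoint
  have hdis : ∀ i l, i ≠ l → ∀ r u, Θ i r ≠ Θ l u := by
    intro i l hil r u h
    obtain ⟨t, ht⟩ := hsep i r
    obtain ⟨v, hv⟩ := hsep l u
    have hz : ∑ x, (a i r x - a i t x) * (a l u x - a l v x) = 0 := by
      simp only [sub_mul, mul_sub, Finset.sum_sub_distrib, hother i l hil, sub_self]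
    simp only [hdiff] at hz
    have hz' : ε i * ε l * ∑ x, ((if x = Θ i t then (1:ℤ) else 0) - (if x = Θ i r then 1 else 0)) *
        ((if x = Θ l v then 1 else 0) - (if x = Θ l u then 1 else 0)) = 0 := by
      rw [Finset.mul_sum]
      refine Eq.trans ?_ hz
      exact Finset.sum_congr rfl fun x _ => by ring
    rcases mul_eq_zero.mp hz' with hz'' | hz''
    · exact mul_ne_zero (hε0 i) (hε0 l) hz''
    · simp only [sub_mul, Finset.sum_sub_distrib, ite_mul, one_mul, zero_mul,
        Finset.sum_ite_eq', Finset.mem_univ, if_true, if_pos h] at hz''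
      have n1 : Θ i r ≠ Θ l v := fun e => hv (hinj l (e.symm.trans h))
      have n2 : Θ i t ≠ Θ l u := fun e => ht (hinj i (e.trans h.symm))
      simp only [if_neg n1, if_neg n2] at hz''
      split_ifs at hz'' <;> omega
  -- the common vector
  let c : ι → X → ℤ := fun i x => a i (r0 i) x + ε i * (if x = Θ i (r0 i) then 1 else 0)
  have hc : ∀ i r x, a i r x = c i x - ε i * (if x = Θ i r then 1 else 0) := fun i r x => by
    show a i r x = a i (r0 i) x + ε i * _ - _
    linear_combination hdiff i r (r0 i) x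
  have hc1 : ∀ i, c i x1 = 1 := fun i => by
    show a i (r0 i) x1 + _ = 1
    rw [h1, if_neg (Ne.symm (hx1 i _)), mul_zero, add_zero]
  -- invariance under conjugation
  have hcbar : ∀ i x, c i (bar x) = c i x := by
    intro i x
    let mem : X → ℤ := fun y => ∑ r : R i, (if y = Θ i r then 1 else 0)
    have hmem : ∀ y, mem y = 0 ∨ mem y = 1 := by
      intro y
      by_cases h : ∃ r, y = Θ i r
      · obtain ⟨r, rfl⟩ := h
        right
        show ∑ s : R i, (if Θ i r = Θ i s then (1 : ℤ) else 0) = 1
        simp only [(hinj i).eq_iff, Finset.sum_ite_eq, Finset.mem_univ, if_true]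
      · push Not at h
        left
        simp [mem, h]
    have hb : ∀ y, ∑ r, a i r y = (Fintype.card (R i) : ℤ) * c i y - ε i * mem y := by
      intro y
      simp only [hc i _ y, Finset.sum_sub_distrib, ← Finset.mul_sum, Finset.sum_const,
        Finset.card_univ, nsmul_eq_mul, mem]
    have he := hconj i x
    rw [hb, hb] at he
    obtain ⟨w, hw⟩ := hW i
    have hw1 := hW2 i
    have hw' : (Fintype.card (R i) : ℤ) = 2 * w := by rw [hw]; push_cast; ring
    rw [hw'] at he
    have hpar : mem (bar x) = mem x := by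
      have h2 : ε i * (mem (bar x) - mem x) = 2 * ((w : ℤ) * (c i (bar x) - c i x)) := by
        linear_combination -he
      generalize (w : ℤ) * (c i (bar x) - c i x) = z at h2
      rcases hε i with h | h <;> rcases hmem (bar x) with h' | h' <;>
        rcases hmem x with h'' | h'' <;> rw [h, h', h''] at h2 <;> omega
    have h3 : (w : ℤ) * (c i (bar x) - c i x) = 0 := by
      rw [hpar] at he
      linarith
    rcases mul_eq_zero.mp h3 with h | h
    · omega
    · linarith
  -- constancy on the families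
  have hconst : ∀ i l (u v : R l), c i (Θ l u) = c i (Θ l v) := by
    intro i l u v
    have hz : ∑ x, (a l u x - a l v x) * a i (r0 i) x =
        ε l * (a i (r0 i) (Θ l v) - a i (r0 i) (Θ l u)) := by
      simp only [hdiff, mul_assoc, sub_mul, ← Finset.mul_sum, Finset.sum_sub_distrib, ite_mul,
        one_mul, zero_mul, Finset.sum_ite_eq', Finset.mem_univ, if_true]
    simp only [sub_mul, Finset.sum_sub_distrib] at hz
    rw [hc i _ (Θ l v), hc i _ (Θ l u)] at hz
    by_cases hil : l = i
    · subst hil
      rw [hsame, hsame] at hz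
      simp only [(hinj l).eq_iff] at hz
      rcases hε l with h | h <;> rw [h] at hz <;> linarith
    · rw [hother l i hil, hother l i hil, if_neg (hdis l i hil _ _), if_neg (hdis l i hil _ _)] at hz
      simp only [mul_zero, sub_zero] at hz
      rcases hε l with h | h <;> rw [h] at hz <;> linarith
  refine ⟨fun i l => c i (Θ l (r0 l)), ?_, ?_, ?_⟩
  · -- parity
    intro i l hil
    by_contra hcon
    push Not at hcon
    obtain ⟨hil1, hil2⟩ := hcon
    have hz := hother i l hil (r0 i) (r0 l)
    have hz1 : ∑ x, c i x * c l x = 0 := by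
      rw [← hz]
      refine Finset.sum_congr rfl fun x _ => ?_
      rw [hc i (r0 i) x, hc l (r0 l) x]
      split_ifs with h h' h'
      · exact absurd (h.symm.trans h') (hdis i l hil _ _)
      · subst h
        simp [hil2]
      · subst h'
        simp [hil1]
      · simp
    have hz2 := congrArg (Int.cast : ℤ → ZMod 2) hz1
    push_cast at hz2
    rw [sum_zmod_two_eq x1 bar hbar hfix _ (fun x => by rw [hcbar, hcbar]), hc1, hc1] at hz2
    simp at hz2
  · -- norm
    intro i
    have hn := hsame i (r0 i) (r0 i)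
    rw [if_pos rfl] at hn
    have hinjS : Function.Injective (fun p : Σ l, R l => Θ p.1 p.2) := by
      rintro ⟨l, u⟩ ⟨l', u'⟩ h
      by_cases hll : l = l'
      · subst hll
        exact congrArg _ (hinj l h)
      · exact absurd h (hdis l l' hll u u')
    have hsub : a i (r0 i) x1 * a i (r0 i) x1 +
        ∑ l, ∑ u : R l, a i (r0 i) (Θ l u) * a i (r0 i) (Θ l u) ≤
        ∑ x, a i (r0 i) x * a i (r0 i) x := by
      rw [← Fintype.sum_sigma' (f := fun l u => a i (r0 i) (Θ l u) * a i (r0 i) (Θ l u)),
        ← Finset.sum_image (f := fun x => a i (r0 i) x * a i (r0 i) x) (s := Finset.univ)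
          (g := fun p : Σ l, R l => Θ p.1 p.2) hinjS.injOn,
        ← Finset.sum_insert (f := fun x => a i (r0 i) x * a i (r0 i) x) (a := x1)]
      · exact Finset.sum_le_sum_of_subset_of_nonneg (Finset.subset_univ _)
          fun x _ _ => mul_self_nonneg _
      · simp [hx1]
    rw [hn, h1, ← Finset.add_sum_erase _ _ (Finset.mem_univ i)] at hsub
    have hown : 1 ≤ ∑ u : R i, a i (r0 i) (Θ i u) * a i (r0 i) (Θ i u) := by
      set C := c i (Θ i (r0 i)) with hC
      have hu : ∀ u : R i, a i (r0 i) (Θ i u) * a i (r0 i) (Θ i u) =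
          C * C + (if u = r0 i then 1 - 2 * ε i * C else 0) := by
        intro u
        rw [hc i (r0 i), hconst i i u (r0 i), ← hC]
        simp only [(hinj i).eq_iff]
        split_ifs
        · linear_combination hsq i
        · ring
      simp only [hu, Finset.sum_add_distrib, Finset.sum_ite_eq', Finset.mem_univ, if_true,
        Finset.sum_const, Finset.card_univ, nsmul_eq_mul]
      have h2 : (2 : ℤ) ≤ (Fintype.card (R i) : ℤ) := by exact_mod_cast hW2 i
      rcases lt_trichotomy C 0 with hlt | heq | hgt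
      · rcases hε i with h | h <;> rw [h] <;> nlinarith
      · simp [heq]
      · rcases hε i with h | h <;> rw [h] <;> nlinarith
    have hrest : ∀ l ∈ Finset.univ.erase i, ∑ u : R l, a i (r0 i) (Θ l u) * a i (r0 i) (Θ l u) =
        (Fintype.card (R l) : ℤ) * c i (Θ l (r0 l)) ^ 2 := by
      intro l hl
      have hu : ∀ u, a i (r0 i) (Θ l u) = c i (Θ l (r0 l)) := fun u => by
        rw [hc i (r0 i), if_neg (hdis l i (Finset.mem_erase.mp hl).1 _ _), mul_zero, sub_zero,
          hconst i l u (r0 l)]
      simp only [hu, Finset.sum_const, Finset.card_univ, nsmul_eq_mul, sq]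
    rw [Finset.sum_congr rfl hrest] at hsub
    linarith
  · -- Bessel
    intro j
    set θ := Θ j (r0 j) with hθ
    let A : ι → ℚ := fun i => ((e i * Fintype.card (R i) + 1 : ℕ) : ℚ)
    have hA : ∀ i, A i = (e i : ℚ) * (Fintype.card (R i) : ℚ) + 1 := fun i => by simp [A]
    have hA0 : ∀ i, 0 < A i := fun i => by rw [hA]; positivity
    let S : ι → ℚ := fun i => ∑ r, (a i r θ : ℚ)
    let Q : ι → ℚ := fun i => ∑ r, (a i r θ : ℚ) ^ 2
    let w : ∀ i, R i → ℚ := fun i r => (a i r θ : ℚ) - (e i : ℚ) / A i * S i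
    let P : ι → X → ℚ := fun i x => ∑ r, w i r * (a i r x : ℚ)
    have hPP : ∀ i l, ∑ x, P i x * P l x =
        ∑ r, ∑ s, w i r * w l s * ((∑ x, a i r x * a l s x : ℤ) : ℚ) := by
      intro i l
      simp only [P, Finset.sum_mul_sum]
      rw [Finset.sum_comm]
      refine Finset.sum_congr rfl fun r _ => ?_
      rw [Finset.sum_comm]
      refine Finset.sum_congr rfl fun s _ => ?_
      push_cast
      rw [Finset.mul_sum]
      exact Finset.sum_congr rfl fun x _ => by ring
    have hPother : ∀ i l, i ≠ l → ∑ x, P i x * P l x = 0 := fun i l hil => by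
      rw [hPP]; simp [hother i l hil]
    have hsw : ∀ i, ∑ r, w i r = S i / A i := by
      intro i
      have : ∑ r, w i r = S i - (Fintype.card (R i) : ℚ) * ((e i : ℚ) / A i * S i) := by
        simp [w, S, Finset.sum_sub_distrib]
      rw [this]
      have := (hA0 i).ne'
      field_simp
      rw [hA]; ring
    have hPsame : ∀ i, ∑ x, P i x * P i x - 2 * P i θ = -(Q i) + (e i : ℚ) * S i ^ 2 / A i := by
      intro i
      rw [hPP]
      have h2 : ∀ r s, ((∑ x, a i r x * a i s x : ℤ) : ℚ) =
          (e i : ℚ) + if r = s then 1 else 0 := fun r s => by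
        rw [hsame]; split_ifs <;> push_cast <;> rfl
      simp only [h2, mul_add, Finset.sum_add_distrib, mul_ite, mul_one, mul_zero,
        Finset.sum_ite_eq, Finset.mem_univ, if_true]
      simp only [← Finset.sum_mul, ← Finset.mul_sum, hsw]
      have h3 : ∑ r, w i r * w i r = Q i - 2 * ((e i : ℚ) / A i * S i) * S i +
          (Fintype.card (R i) : ℚ) * ((e i : ℚ) / A i * S i) ^ 2 := by
        have : ∀ r, w i r * w i r = (a i r θ : ℚ) ^ 2 -
            2 * ((e i : ℚ) / A i * S i) * (a i r θ : ℚ) + ((e i : ℚ) / A i * S i) ^ 2 :=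
          fun r => by simp only [w]; ring
        simp only [this, Finset.sum_add_distrib, Finset.sum_sub_distrib, ← Finset.mul_sum,
          Finset.sum_const, Finset.card_univ, nsmul_eq_mul, Q, S]
      have h4 : P i θ = Q i - (e i : ℚ) / A i * S i * S i := by
        have : ∀ r, w i r * (a i r θ : ℚ) = (a i r θ : ℚ) ^ 2 -
            ((e i : ℚ) / A i * S i) * (a i r θ : ℚ) := fun r => by simp only [w]; ring
        simp only [P, this, Finset.sum_sub_distrib, ← Finset.mul_sum, Q, S]
      rw [h3, h4]
      have := (hA0 i).ne'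
      field_simp
      rw [hA]; ring
    have hbessel : ∑ i, (Q i - (e i : ℚ) * S i ^ 2 / A i) ≤ 1 := by
      have hpos : 0 ≤ ∑ x, ((if x = θ then (1:ℚ) else 0) - ∑ i, P i x) ^ 2 :=
        Finset.sum_nonneg fun x _ => sq_nonneg _
      have hexp : ∑ x, ((if x = θ then (1:ℚ) else 0) - ∑ i, P i x) ^ 2 =
          1 - 2 * ∑ i, P i θ + ∑ i, ∑ l, ∑ x, P i x * P l x := by
        have : ∀ x, ((if x = θ then (1:ℚ) else 0) - ∑ i, P i x) ^ 2 =
            (if x = θ then (1 - 2 * ∑ i, P i x) else 0) + ∑ i, ∑ l, P i x * P l x := by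
          intro x
          rw [← Finset.sum_mul_sum]
          split_ifs <;> ring
        simp only [this, Finset.sum_add_distrib, Finset.sum_ite_eq', Finset.mem_univ, if_true]
        congr 1
        rw [Finset.sum_comm]
        exact Finset.sum_congr rfl fun i _ => Finset.sum_comm
      have hdiag : ∀ i, ∑ l, ∑ x, P i x * P l x = ∑ x, P i x * P i x := fun i =>
        Finset.sum_eq_single i (fun l _ hl => hPother i l (Ne.symm hl)) (by simp)
      simp only [hdiag] at hexp
      have h5 : ∑ i, (Q i - (e i : ℚ) * S i ^ 2 / A i) =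
          -(∑ i, ∑ x, P i x * P i x) + 2 * ∑ i, P i θ := by
        rw [Finset.mul_sum, ← Finset.sum_neg_distrib, ← Finset.sum_add_distrib]
        exact Finset.sum_congr rfl fun i _ => by linarith [hPsame i]
      linarith
    rw [← Finset.add_sum_erase _ _ (Finset.mem_univ j)] at hbessel
    have hrest : ∀ i ∈ Finset.univ.erase j, Q i - (e i : ℚ) * S i ^ 2 / A i =
        (Fintype.card (R i) : ℚ) / A i * (c i θ : ℚ) ^ 2 := by
      intro i hi
      have hu : ∀ r, (a i r θ : ℚ) = (c i θ : ℚ) := fun r => by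
        rw [hc i r, hθ, if_neg (hdis j i (Ne.symm (Finset.mem_erase.mp hi).1) _ _), mul_zero,
          sub_zero]
      have := (hA0 i).ne'
      simp only [Q, S, hu, Finset.sum_const, Finset.card_univ, nsmul_eq_mul]
      field_simp
      rw [hA]; ring
    rw [Finset.sum_congr rfl hrest] at hbessel
    have hown : 1 - (e j : ℚ) / A j ≤ Q j - (e j : ℚ) * S j ^ 2 / A j := by
      set C : ℚ := (c j θ : ℚ) with hC
      set E : ℚ := (ε j : ℚ) with hEdef
      have hu : ∀ r, (a j r θ : ℚ) = C - (if r0 j = r then E else 0) := fun r => by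
        rw [hc j r, hθ]
        simp only [(hinj j).eq_iff]
        split_ifs <;> simp [C, E, hθ]
      have hEE : E ^ 2 = 1 := by
        rw [hEdef]
        exact_mod_cast (show ε j ^ 2 = 1 by rw [sq]; exact hsq j)
      have hS : S j = (Fintype.card (R j) : ℚ) * C - E := by
        simp [S, hu, Finset.sum_sub_distrib]
      have hQ : Q j = (Fintype.card (R j) : ℚ) * C ^ 2 - 2 * E * C + 1 := by
        have : ∀ r, (C - if r0 j = r then E else 0) ^ 2 =
            C ^ 2 + (if r0 j = r then 1 - 2 * E * C else 0) := fun r => by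
          split_ifs
          · linear_combination hEE
          · ring
        simp only [Q, hu, this, Finset.sum_add_distrib, Finset.sum_ite_eq, Finset.mem_univ,
          if_true, Finset.sum_const, Finset.card_univ, nsmul_eq_mul]
        ring
      have hnn : 0 ≤ (Fintype.card (R j) : ℚ) * C ^ 2 - 2 * E * C := by
        have h2 : (2 : ℤ) ≤ (Fintype.card (R j) : ℤ) := by exact_mod_cast hW2 j
        have hz : 0 ≤ (Fintype.card (R j) : ℤ) * c j θ ^ 2 - 2 * ε j * c j θ := by
          rcases lt_trichotomy (c j θ) 0 with hlt | heq | hgt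
          · rcases hε j with h | h <;> rw [h] <;> nlinarith
          · simp [heq]
          · rcases hε j with h | h <;> rw [h] <;> nlinarith
        rw [hC, hEdef]
        exact_mod_cast hz
      have key : Q j - (e j : ℚ) * S j ^ 2 / A j - (1 - (e j : ℚ) / A j) =
          ((Fintype.card (R j) : ℚ) * C ^ 2 - 2 * E * C) / A j := by
        have := (hA0 j).ne'
        rw [hQ, hS]
        field_simp
        rw [hA]
        linear_combination -(e j : ℚ) * hEE
      have : 0 ≤ ((Fintype.card (R j) : ℚ) * C ^ 2 - 2 * E * C) / A j :=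
        div_nonneg hnn (hA0 j).le
      linarith
    show ∑ i ∈ Finset.univ.erase j, (Fintype.card (R i) : ℚ) / A i * (c i θ : ℚ) ^ 2 ≤
      (e j : ℚ) / A j
    linarith

end Cfsg.Agent.Lib.Induced.CNCoeff
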