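import Cfsg.Agent.Lib.Induced.Mackey
import Cfsg.Agent.Lib.Induced.Generalized
import Cfsg.Agent.Lib.Induced.Character
import Cfsg.Agent.Lib.Characters.Linear
import Mathlib

/-!
# The functions `(1 - λ)^G` for a TI subgroup containing the centralisers of its elements

`act H n λ` is `λ` composed with conjugation by `n⁻¹`; `Rep H` is the type of orbits of
nontrivial linear characters; `bigD H λ = (1 - λ)^G`.
-/

namespace Cfsg.Agent.Lib.Induced.CNFamily

open Cfsg.Agent.Lib.Induced.Basic Cfsg.Agent.Lib.Induced.Generalized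
  Cfsg.Agent.Lib.Characters.Basic Cfsg.Agent.Lib.Characters.Linear
open scoped ComplexConjugate

universe u

variable {G : Type u} [Group G]

/-- The normalizer of a subgroup. -/
abbrev nml (H : Subgroup G) : Subgroup G := Subgroup.normalizer (H : Set G)

theorem conj_mem {H : Subgroup G} (n : nml H) {x : G} (hx : x ∈ H) :
    (n : G) * x * (n : G)⁻¹ ∈ H :=
  (Subgroup.mem_normalizer_iff.mp n.2 x).mp hx

/-- Conjugation by an element of the normalizer, as an automorphism of `H`. -/
def conjAut (H : Subgroup G) (n : nml H) : H ≃* H where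
  toFun x := ⟨(n : G) * x * (n : G)⁻¹, conj_mem n x.2⟩
  invFun x := ⟨(n : G)⁻¹ * x * (n : G), by simpa using conj_mem n⁻¹ x.2⟩
  left_inv x := Subtype.ext (by simp [mul_assoc])
  right_inv x := Subtype.ext (by simp [mul_assoc])
  map_mul' x y := Subtype.ext (by simp [mul_assoc])

theorem coe_conjAut (H : Subgroup G) (n : nml H) (x : H) :
    (conjAut H n x : G) = (n : G) * x * (n : G)⁻¹ := rfl

/-- The action of the normalizer on the linear characters of `H`. -/
@[instance_reducible] def linAct (H : Subgroup G) : MulAction (nml H) (H →* ℂˣ) where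
  smul n lam := lam.comp (conjAut H n⁻¹).toMonoidHom
  one_smul lam := MonoidHom.ext fun x => congrArg lam (Subtype.ext (by simp [coe_conjAut]))
  mul_smul m n lam := MonoidHom.ext fun x => congrArg lam (Subtype.ext (by
    simp [coe_conjAut, mul_assoc]))

attribute [local instance] linAct

theorem smul_apply (H : Subgroup G) (n : nml H) (lam : H →* ℂˣ) (x : H) :
    (n • lam) x = lam (conjAut H n⁻¹ x) := rfl

theorem smul_one_hom (H : Subgroup G) (n : nml H) : n • (1 : H →* ℂˣ) = 1 := rfl

theorem smul_inv_hom (H : Subgroup G) (n : nml H) (lam : H →* ℂˣ) : n • lam⁻¹ = (n • lam)⁻¹ := rfl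

theorem smul_eq_of_mem (H : Subgroup G) (n : nml H) (hn : (n : G) ∈ H) (lam : H →* ℂˣ) :
    n • lam = lam := by
  refine MonoidHom.ext fun x => ?_
  have he : conjAut H n⁻¹ x = (⟨n, hn⟩ : H)⁻¹ * x * ⟨n, hn⟩ := Subtype.ext (by simp [coe_conjAut])
  rw [smul_apply, he, map_mul, map_mul, map_inv, mul_comm, mul_inv_cancel_left]

theorem mem_of_smul_eq [Finite G] (H : Subgroup G)
    (hcent : ∀ x ∈ H, x ≠ 1 → Subgroup.centralizer ({x} : Set G) ≤ H) (n : nml H)
    (lam : H →* ℂˣ) (hlam : lam ≠ 1) (hn : n • lam = lam) : (n : G) ∈ H := by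
  by_contra hnH
  apply hlam
  have hfix : (linChar lam : H → ℂ) ∘ (conjAut H n⁻¹) = (linChar lam : H → ℂ) :=
    funext fun x => congrArg (Units.val) (DFunLike.congr_fun hn x)
  have h1 := Mackey.eq_one_of_fixed (conjAut H n⁻¹) (fun x hx => ?_) (linChar lam).2 hfix
  · exact MonoidHom.ext fun x => Units.ext (congrFun h1 x)
  · by_contra hx1
    obtain ⟨d, hd⟩ := isConj_iff.mp hx
    have hd' := congrArg (Subtype.val : H → G) hd
    simp only [Subgroup.coe_mul, Subgroup.coe_inv, coe_conjAut, inv_inv] at hd'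
    have hc : (d : G) * (n : G)⁻¹ ∈ Subgroup.centralizer ({(x : G)} : Set G) := by
      rw [Subgroup.mem_centralizer_singleton_iff]
      calc (d : G) * (n : G)⁻¹ * x = (d : G) * ((n : G)⁻¹ * x * n) * (d : G)⁻¹ * ((d : G) * (n : G)⁻¹) := by
            group
        _ = _ := by rw [hd']
    have h2 := hcent x x.2 (fun e => hx1 (Subtype.ext e)) hc
    apply hnH
    have h3 := H.mul_mem (H.inv_mem h2) d.2
    simpa using h3

/-- The orbits of nontrivial linear characters. -/
abbrev Rep (H : Subgroup G) : Type _ :=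
  {ω : MulAction.orbitRel.Quotient (nml H) (H →* ℂˣ) //
    ω ≠ Quotient.mk (MulAction.orbitRel (nml H) (H →* ℂˣ)) 1}

/-- A representative of an orbit. -/
noncomputable def rep {H : Subgroup G} (r : Rep H) : H →* ℂˣ := r.1.out

theorem rep_ne_one {H : Subgroup G} (r : Rep H) : rep r ≠ 1 := by
  intro h
  exact r.2 ((Quotient.out_eq r.1).symm.trans (congrArg _ h))

theorem smul_ne_one {H : Subgroup G} (n : nml H) {lam : H →* ℂˣ} (h : lam ≠ 1) : n • lam ≠ 1 :=
  fun e => h (by rw [← inv_smul_smul n lam, e, smul_one_hom])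

theorem eq_of_smul_rep {H : Subgroup G} {r s : Rep H} (n : nml H) (h : n • rep s = rep r) :
    r = s := by
  apply Subtype.ext
  rw [← Quotient.out_eq r.1, ← Quotient.out_eq s.1]
  exact Quotient.sound ⟨n, h⟩

/-- The orbit of the inverses of the characters in an orbit. -/
noncomputable def invRep {H : Subgroup G} (r : Rep H) : Rep H :=
  ⟨Quotient.mk _ (rep r)⁻¹, fun e => by
    obtain ⟨n, hn⟩ := Quotient.exact e
    have hn' : n • (1 : H →* ℂˣ) = (rep r)⁻¹ := hn
    rw [smul_one_hom] at hn'
    refine rep_ne_one r (MonoidHom.ext fun x => ?_)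
    simpa using (DFunLike.congr_fun hn' x).symm⟩

theorem invRep_injective {H : Subgroup G} : Function.Injective (invRep (H := H)) := by
  intro r s h
  obtain ⟨n, hn⟩ := Quotient.exact (congrArg Subtype.val h)
  refine eq_of_smul_rep n ?_
  have hn' : n • (rep s)⁻¹ = (rep r)⁻¹ := hn
  rw [smul_inv_hom] at hn'
  exact inv_injective hn'

instance finite_rep [Finite G] (H : Subgroup G) : Finite (Rep H) := by
  have : Finite (H →* ℂˣ) :=
    Finite.of_injective (fun lam => linChar lam) linChar_injective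
  have : Finite (MulAction.orbitRel.Quotient (nml H) (H →* ℂˣ)) := Quotient.finite _
  exact Subtype.finite

section

variable [Fintype G]

/-- `φ λ = 1 - λ`. -/
def phi {H : Subgroup G} (lam : H →* ℂˣ) : H → ℂ := fun x => 1 - (lam x : ℂ)

/-- `bigD H λ = (1 - λ)^G`. -/
noncomputable def bigD (H : Subgroup G) (lam : H →* ℂˣ) : G → ℂ := Cfsg.indFun H (phi lam)

omit [Fintype G] in
theorem phi_apply_one {H : Subgroup G} (lam : H →* ℂˣ) : phi lam 1 = 0 := by simp [phi]

omit [Fintype G] in
theorem phi_eq_sub {H : Subgroup G} (lam : H →* ℂˣ) :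
    phi lam = (linChar (1 : H →* ℂˣ) : H → ℂ) - (linChar lam : H → ℂ) := by
  funext x
  simp [phi, linChar_apply]

theorem isGen_bigD (H : Subgroup G) (lam : H →* ℂˣ) :
    Cfsg.IsGeneralizedCharacter G (bigD H lam) := by
  refine Character.isGeneralizedCharacter_indFun H ?_
  rw [phi_eq_sub]
  exact isGen_sub (of_irr _) (of_irr _)

theorem bigD_apply_one (H : Subgroup G) (lam : H →* ℂˣ) : bigD H lam 1 = 0 := by
  rw [bigD, indFun_one, phi_apply_one, mul_zero]

theorem bigD_eq_zero_on (K H : Subgroup G) (lam : K →* ℂˣ)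
    (hdisj : ∀ g : G, ∀ x ∈ H, g⁻¹ * x * g ∈ K → x = 1) {x : G} (hx : x ∈ H) :
    bigD K lam x = 0 := by
  by_cases h1 : x = 1
  · subst h1; exact bigD_apply_one K lam
  · exact indFun_eq_zero_of_forall_not_mem K _ fun g hg => h1 (hdisj g x hx hg)

theorem bigD_smul (H : Subgroup G) (n : nml H) (lam : H →* ℂˣ) :
    bigD H (n • lam) = bigD H lam := by
  funext g
  simp only [bigD, Cfsg.indFun]
  congr 1
  refine Fintype.sum_equiv (Equiv.mulRight (n : G)) _ _ fun x => ?_
  have hy : (x * (n : G))⁻¹ * g * (x * n) = (n : G)⁻¹ * (x⁻¹ * g * x) * n := by group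
  show Cfsg.extendByZero H _ (x⁻¹ * g * x) = Cfsg.extendByZero H _ ((x * n)⁻¹ * g * (x * n))
  rw [hy]
  by_cases hm : x⁻¹ * g * x ∈ H
  · have hm' : (n : G)⁻¹ * (x⁻¹ * g * x) * n ∈ H := by simpa using conj_mem n⁻¹ hm
    rw [extendByZero_of_mem H _ hm, extendByZero_of_mem H _ hm']
    simp only [phi, smul_apply]
    congr 4
    exact Subtype.ext (by simp [coe_conjAut])
  · have hm' : (n : G)⁻¹ * (x⁻¹ * g * x) * n ∉ H := fun h => hm (by
      simpa [mul_assoc] using conj_mem n h)
    rw [extendByZero_of_not_mem H _ hm, extendByZero_of_not_mem H _ hm']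

theorem conj_bigD (H : Subgroup G) (lam : H →* ℂˣ) (g : G) :
    conj (bigD H lam g) = bigD H lam⁻¹ g := by
  rw [bigD, indFun_conj_fun]
  refine congrArg (fun θ => Cfsg.indFun H θ g) (funext fun x => ?_)
  have h := apply_inv (isCharacter_irr (linChar lam)) x
  simp only [linChar_apply] at h
  simp only [phi, map_sub, map_one, ← h, MonoidHom.inv_apply, map_inv]

theorem classInner_bigD_one (H : Subgroup G) [Fintype H] (lam : H →* ℂˣ) (hlam : lam ≠ 1) :
    Cfsg.classInner (bigD H lam) (oneChar G : G → ℂ) = 1 := by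
  rw [bigD, frobenius_reciprocity H _ (isClassFunction_irr _), phi_eq_sub]
  have e : (fun x : H => (oneChar G : G → ℂ) x) = (linChar (1 : H →* ℂˣ) : H → ℂ) := by
    funext x; simp [oneChar_apply, linChar_apply]
  rw [e, classInner_sub_left, classInner_irr, classInner_irr, if_pos rfl,
    if_neg (fun e' => hlam (linChar_injective e'))]
  simp

/-- The values of `bigD` on `H`. -/
theorem bigD_apply_mem (H : Subgroup G) [Fintype (nml H)]
    (hTI : ∀ g : G, g ∉ nml H → ∀ x ∈ H, g * x * g⁻¹ ∈ H → x = 1) (lam : H →* ℂˣ) (x : H) :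
    bigD H lam x = (Nat.card H : ℂ)⁻¹ * ∑ n : nml H, phi (n • lam) x := by
  classical
  by_cases h1 : x = 1
  · subst h1
    simp [bigD_apply_one, phi_apply_one]
  have hx1 : (x : G) ≠ 1 := fun e => h1 (Subtype.ext e)
  simp only [bigD, Cfsg.indFun]
  congr 1
  symm
  refine Finset.sum_of_injOn (fun n : nml H => (n : G)) Subtype.val_injective.injOn
    (fun _ _ => Finset.mem_univ _) (fun g _ hg => ?_) (fun n _ => ?_)
  · refine extendByZero_of_not_mem H _ fun hmem => hx1 ?_
    have hgN : g⁻¹ ∉ nml H := fun h => hg ⟨⟨g, by simpa using (nml H).inv_mem h⟩, by simp, rfl⟩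
    exact hTI g⁻¹ hgN x x.2 (by simpa using hmem)
  · have hm : (n : G)⁻¹ * x * n ∈ H := by simpa using conj_mem n⁻¹ x.2
    rw [extendByZero_of_mem H _ hm]
    simp only [phi, smul_apply]
    congr 4
    exact Subtype.ext (by simp [coe_conjAut])

omit [Fintype G] in
theorem card_subgroupOf (H : Subgroup G) : Nat.card (H.subgroupOf (nml H)) = Nat.card H :=
  Nat.card_congr (Subgroup.subgroupOfEquivOfLe Subgroup.le_normalizer).toEquiv

theorem stabilizer_eq (H : Subgroup G)
    (hcent : ∀ x ∈ H, x ≠ 1 → Subgroup.centralizer ({x} : Set G) ≤ H)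
    {lam : H →* ℂˣ} (hlam : lam ≠ 1) :
    MulAction.stabilizer (nml H) lam = H.subgroupOf (nml H) := by
  ext n
  rw [MulAction.mem_stabilizer_iff, Subgroup.mem_subgroupOf]
  exact ⟨mem_of_smul_eq H hcent n lam hlam, fun h => smul_eq_of_mem H n h lam⟩

/-- The inner product of two functions `(1 - λ)^G`. -/
theorem classInner_bigD (H : Subgroup G)
    (hTI : ∀ g : G, g ∉ nml H → ∀ x ∈ H, g * x * g⁻¹ ∈ H → x = 1)
    (hcent : ∀ x ∈ H, x ≠ 1 → Subgroup.centralizer ({x} : Set G) ≤ H)
    (r s : Rep H) [Decidable (r = s)] :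
    Cfsg.classInner (bigD H (rep r)) (bigD H (rep s)) =
      ((H.subgroupOf (nml H)).index : ℂ) + if r = s then 1 else 0 := by
  classical
  have := Fintype.ofFinite H
  have := Fintype.ofFinite (nml H)
  have hres : (fun x : H => bigD H (rep s) x) =
      (Nat.card H : ℂ)⁻¹ • ∑ n : nml H, phi (n • rep s) := by
    funext x
    rw [bigD_apply_mem H hTI]
    simp [Finset.sum_apply]
  rw [show bigD H (rep r) = Cfsg.indFun H (phi (rep r)) from rfl,
    frobenius_reciprocity H _ (isClassFunction_of_isGen (isGen_bigD H _)), hres,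
    classInner_smul_right, classInner_sum_right, map_inv₀, map_natCast]
  have hterm : ∀ n : nml H, Cfsg.classInner (phi (rep r)) (phi (n • rep s)) =
      1 + if n • rep s = rep r then 1 else 0 := by
    intro n
    rw [phi_eq_sub, phi_eq_sub, classInner_sub_left, classInner_sub_right, classInner_sub_right]
    simp only [classInner_irr, linChar_injective.eq_iff]
    simp only [if_true, if_neg (Ne.symm (smul_ne_one n (rep_ne_one s))), if_neg (rep_ne_one r),
      eq_comm (a := n • rep s)]
    ring
  simp only [hterm, Finset.sum_add_distrib, Finset.sum_const, Finset.card_univ, nsmul_eq_mul,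
    mul_one, Finset.sum_boole]
  have hh : (Nat.card H : ℂ) ≠ 0 := Nat.cast_ne_zero.mpr Nat.card_pos.ne'
  have hN : (Fintype.card (nml H) : ℂ) =
      ((H.subgroupOf (nml H)).index : ℂ) * (Nat.card H : ℂ) := by
    rw [← Nat.card_eq_fintype_card, ← (H.subgroupOf (nml H)).index_mul_card, card_subgroupOf,
      Nat.cast_mul]
  have hcnt : ((Finset.univ.filter fun n : nml H => n • rep s = rep r).card : ℂ) =
      if r = s then (Nat.card H : ℂ) else 0 := by
    split_ifs with hrs
    · subst hrs
      rw [← card_subgroupOf H, ← stabilizer_eq H hcent (rep_ne_one r), Nat.card_eq_fintype_card,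
        Fintype.card_subtype]
      exact congrArg Nat.cast (congrArg Finset.card (Finset.filter_congr fun n _ => Iff.rfl))
    · rw [Finset.filter_false_of_mem fun n _ h => hrs (eq_of_smul_rep n h), Finset.card_empty,
        Nat.cast_zero]
  rw [hN, hcnt]
  split_ifs <;> field_simp
  all_goals ring

/-- The number of linear characters. -/
theorem card_linHom (H : Subgroup G)
    (hcent : ∀ x ∈ H, x ≠ 1 → Subgroup.centralizer ({x} : Set G) ≤ H) :
    (commutator H).index = (H.subgroupOf (nml H)).index * Nat.card (Rep H) + 1 := by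
  classical
  rw [← card_linear (G := H), ← Nat.card_congr (linEquiv H),
    Nat.card_congr (MulAction.selfEquivSigmaOrbits' (nml H) (H →* ℂˣ))]
  have : Finite (H →* ℂˣ) := Finite.of_injective (fun lam => linChar lam) linChar_injective
  have : Finite (MulAction.orbitRel.Quotient (nml H) (H →* ℂˣ)) := Quotient.finite _
  have := Fintype.ofFinite (MulAction.orbitRel.Quotient (nml H) (H →* ℂˣ))
  rw [Nat.card_sigma, ← Finset.add_sum_erase _ _
    (Finset.mem_univ (Quotient.mk (MulAction.orbitRel (nml H) (H →* ℂˣ)) 1)), add_comm]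
  congr 1
  · have hsz : ∀ ω ∈ Finset.univ.erase (Quotient.mk (MulAction.orbitRel (nml H) (H →* ℂˣ)) 1),
        Nat.card (MulAction.orbitRel.Quotient.orbit ω) = (H.subgroupOf (nml H)).index := by
      intro ω hω
      rw [MulAction.orbitRel.Quotient.orbit_eq_orbit_out ω Quotient.out_eq,
        Nat.card_coe_set_eq, ← MulAction.index_stabilizer,
        stabilizer_eq H hcent (lam := ω.out)
          (rep_ne_one (⟨ω, (Finset.mem_erase.mp hω).1⟩ : Rep H))]
    rw [Finset.sum_congr rfl hsz, Finset.sum_const, smul_eq_mul, mul_comm]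
    congr 1
    rw [Nat.card_eq_fintype_card, Fintype.card_subtype]
    congr 1
    ext ω
    simp
  · rw [MulAction.orbitRel.Quotient.orbit_mk, Nat.card_coe_set_eq]
    rw [show MulAction.orbit (nml H) (1 : H →* ℂˣ) = {1} from Set.eq_singleton_iff_unique_mem.mpr
      ⟨MulAction.mem_orbit_self _, fun lam h => by
        obtain ⟨n, rfl⟩ := h
        exact smul_one_hom H n⟩]
    exact Set.ncard_singleton _

end

end Cfsg.Agent.Lib.Induced.CNFamily
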