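import Cfsg.Agent.Lib.Induced.CNArith
import Cfsg.Agent.Lib.Induced.CNCoeff
import Cfsg.Agent.Lib.Induced.CNFamily
import Cfsg.Agent.Lib.Characters.Indicator
import Cfsg.Agent.S0198

/-!
# The character-theoretic part of the Feit-Hall-Thompson theorem

`not_nilpotent_TI_partition`: a group of odd order is not covered by the conjugates of
nilpotent TI subgroups of pairwise coprime orders, each containing the centralisers of its
nontrivial elements and each properly contained in its normalizer.
-/

namespace Cfsg.Agent.Lib.Induced.CNContradiction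

open Cfsg.Agent.Lib.Induced.Basic Cfsg.Agent.Lib.Induced.Generalized
  Cfsg.Agent.Lib.Characters.Basic Cfsg.Agent.Lib.Characters.Linear CNFamily
open scoped ComplexConjugate

universe u v

attribute [local instance] CNFamily.linAct

variable {G : Type u} [Group G]

/-- A finite nilpotent group whose abelianisation has prime order is abelian, so its
commutator subgroup is trivial. -/
theorem commutator_eq_bot_of_index_prime [Finite G] [Group.IsNilpotent G]
    (hp : (commutator G).index.Prime) : commutator G = ⊥ := by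
  obtain ⟨x, hx⟩ : ∃ x, x ∉ commutator G := by
    by_contra hne
    push Not at hne
    rw [(Subgroup.eq_top_iff' _).mpr hne, Subgroup.index_top] at hp
    exact Nat.not_prime_one hp
  by_cases htop : Subgroup.zpowers x = ⊤
  · rw [commutator_def, eq_bot_iff, Subgroup.commutator_le]
    intro a _ b _
    have ha : a ∈ Subgroup.zpowers x := htop ▸ Subgroup.mem_top a
    have hb : b ∈ Subgroup.zpowers x := htop ▸ Subgroup.mem_top b
    obtain ⟨i, rfl⟩ := Subgroup.mem_zpowers_iff.mp ha
    obtain ⟨j, rfl⟩ := Subgroup.mem_zpowers_iff.mp hb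
    rw [Subgroup.mem_bot, commutatorElement_eq_one_iff_commute]
    exact (Commute.refl x).zpow_zpow i j
  · exfalso
    obtain ⟨M, hM, hxM⟩ := (eq_top_or_exists_le_coatom (Subgroup.zpowers x)).resolve_left htop
    have : M.Normal := Subgroup.NormalizerCondition.normal_of_coatom M Group.normalizerCondition_of_isNilpotent hM
    obtain ⟨y, hy⟩ : ∃ y, y ∉ M := by
      by_contra hne
      push Not at hne
      exact hM.1 ((Subgroup.eq_top_iff' _).mpr hne)
    have hsup : M ⊔ Subgroup.zpowers y = ⊤ :=
      hM.2 _ (lt_of_le_of_ne le_sup_left fun h =>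
        hy (h.symm ▸ Subgroup.mem_sup_right (Subgroup.mem_zpowers y)))
    have hle : commutator G ≤ M :=
      Subgroup.Normal.commutator_le_of_self_sup_commutative_eq_top hsup inferInstance
    -- `M` properly contains the commutator subgroup, of prime index
    have hxM' : x ∈ M := hxM (Subgroup.mem_zpowers x)
    have hdvd := Subgroup.index_dvd_of_le hle
    rcases (Nat.dvd_prime hp).mp hdvd with h | h
    · exact hM.1 (Subgroup.index_eq_one.mp h)
    · have h2 := Subgroup.relIndex_mul_index hle
      rw [h] at h2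
      have h3 : (commutator G).relIndex M = 1 := by
        have := hp.pos
        exact Nat.eq_of_mul_eq_mul_right this (by rw [h2, one_mul])
      exact hx (Subgroup.relIndex_eq_one.mp h3 hxM')

/-- An element in the normalizer sends the TI subgroup to itself; otherwise to a disjoint one. -/
theorem card_conjugators (H : Subgroup G) [Fintype G]
    (hTI : ∀ g : G, g ∉ nml H → ∀ x ∈ H, g * x * g⁻¹ ∈ H → x = 1) {y : G} (hy : y ≠ 1)
    [DecidablePred fun c : G => c⁻¹ * y * c ∈ H] {c₀ : G} (hc₀ : c₀⁻¹ * y * c₀ ∈ H) :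
    (Finset.univ.filter fun c : G => c⁻¹ * y * c ∈ H).card = Nat.card (nml H) := by
  rw [← Fintype.card_subtype, ← Nat.card_eq_fintype_card]
  refine Nat.card_congr
    { toFun := fun c => ⟨c₀⁻¹ * c.1, ?_⟩
      invFun := fun n => ⟨c₀ * n.1, ?_⟩
      left_inv := fun c => by simp
      right_inv := fun n => by simp }
  · by_contra hnot
    have hcy : c.1⁻¹ * y * c.1 ≠ 1 := fun e => hy (by
      have := congrArg (fun t => c.1 * t * c.1⁻¹) e
      simpa [mul_assoc] using this)
    refine hcy (hTI _ hnot _ c.2 ?_)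
    have e : c₀⁻¹ * c.1 * (c.1⁻¹ * y * c.1) * (c₀⁻¹ * c.1)⁻¹ = c₀⁻¹ * y * c₀ := by group
    rw [e]; exact hc₀
  · have e : (c₀ * n.1)⁻¹ * y * (c₀ * n.1) = n.1⁻¹ * (c₀⁻¹ * y * c₀) * n.1 := by group
    show (c₀ * n.1)⁻¹ * y * (c₀ * n.1) ∈ H
    rw [e]
    simpa using conj_mem n⁻¹ hc₀

/-- The class equation of a partition by TI subgroups. -/
theorem sum_counting [Fintype G] {ι : Type v} [Fintype ι] (H : ι → Subgroup G)
    (hTI : ∀ i, ∀ g : G, g ∉ nml (H i) → ∀ x ∈ H i, g * x * g⁻¹ ∈ H i → x = 1)
    (hcop : Pairwise fun i l => (Nat.card (H i)).Coprime (Nat.card (H l)))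
    (hcover : ∀ x : G, x ≠ 1 → ∃ i, ∃ g : G, g * x * g⁻¹ ∈ H i) :
    ∑ i, (1 / (((H i).subgroupOf (nml (H i))).index : ℚ)) * (1 - 1 / (Nat.card (H i) : ℚ)) =
      1 - 1 / (Nat.card G : ℚ) := by
  classical
  let T : ι → G → Finset G := fun i y => Finset.univ.filter fun c => c⁻¹ * y * c ∈ H i
  have hsum1 : ∀ i, (∑ y ∈ Finset.univ.erase 1, ((T i y).card : ℚ)) =
      (Nat.card G : ℚ) * ((Nat.card (H i) : ℚ) - 1) := by
    intro i
    simp only [T, Finset.card_filter, Nat.cast_sum, Nat.cast_ite, Nat.cast_one, Nat.cast_zero]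
    rw [Finset.sum_comm]
    have hc : ∀ c : G, (∑ y ∈ Finset.univ.erase 1, if c⁻¹ * y * c ∈ H i then (1 : ℚ) else 0) =
        (Nat.card (H i) : ℚ) - 1 := by
      intro c
      have hall : (∑ y : G, if c⁻¹ * y * c ∈ H i then (1 : ℚ) else 0) = (Nat.card (H i) : ℚ) := by
        rw [Finset.sum_boole, ← Fintype.card_subtype, ← Nat.card_eq_fintype_card]
        congr 1
        exact Nat.card_congr
          { toFun := fun y => ⟨c⁻¹ * y.1 * c, y.2⟩
            invFun := fun x => ⟨c * x.1 * c⁻¹, by simp [mul_assoc]⟩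
            left_inv := fun y => by simp [mul_assoc]
            right_inv := fun x => by simp [mul_assoc] }
      rw [← Finset.add_sum_erase _ _ (Finset.mem_univ (1 : G)), if_pos (by simp)] at hall
      linarith
    simp only [hc, Finset.sum_const, Finset.card_univ, nsmul_eq_mul, Nat.card_eq_fintype_card]
  have hsum2 : ∀ y : G, y ≠ 1 → ∑ i, ((T i y).card : ℚ) / (Nat.card (nml (H i)) : ℚ) = 1 := by
    intro y hy
    obtain ⟨j, g, hg⟩ := hcover y hy
    rw [Finset.sum_eq_single j]
    · rw [show (T j y).card = Nat.card (nml (H j)) from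
        card_conjugators (H j) (hTI j) hy (c₀ := g⁻¹) (by simpa using hg)]
      exact div_self (Nat.cast_ne_zero.mpr Nat.card_pos.ne')
    · intro i _ hij
      rw [Finset.card_eq_zero.mpr (Finset.filter_eq_empty_iff.mpr fun c _ hc => hy ?_)]
      · simp
      · have h1 : orderOf y ∣ Nat.card (H i) := by
          have := Subgroup.orderOf_dvd_natCard _ hc
          have e : orderOf (c⁻¹ * y * c) = orderOf y := by
            simpa using orderOf_injective (MulAut.conj c⁻¹).toMonoidHom
              (MulAut.conj c⁻¹).injective y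
          rwa [e] at this
        have h2 : orderOf y ∣ Nat.card (H j) := by
          have := Subgroup.orderOf_dvd_natCard _ hg
          have e : orderOf (g * y * g⁻¹) = orderOf y :=
            orderOf_injective (MulAut.conj g).toMonoidHom (MulAut.conj g).injective y
          rwa [e] at this
        exact orderOf_eq_one_iff.mp (Nat.eq_one_of_dvd_coprimes (hcop hij) h1 h2)
    · simp
  have key : ∑ i, (Nat.card G : ℚ) * ((Nat.card (H i) : ℚ) - 1) / (Nat.card (nml (H i)) : ℚ) =
      (Nat.card G : ℚ) - 1 := by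
    simp only [← hsum1, Finset.sum_div]
    rw [Finset.sum_comm, Finset.sum_congr rfl (fun y hy => hsum2 y (Finset.mem_erase.mp hy).1),
      Finset.sum_const, nsmul_eq_mul, mul_one, Finset.card_erase_of_mem (Finset.mem_univ _),
      Finset.card_univ, Nat.card_eq_fintype_card, Nat.cast_sub Fintype.card_pos]
    simp
  have hg : (Nat.card G : ℚ) ≠ 0 := Nat.cast_ne_zero.mpr Nat.card_pos.ne'
  rw [show (1 : ℚ) - 1 / (Nat.card G : ℚ) = ((Nat.card G : ℚ) - 1) / (Nat.card G : ℚ) by
    field_simp, ← key, Finset.sum_div]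
  refine Finset.sum_congr rfl fun i _ => ?_
  have hN : (Nat.card (nml (H i)) : ℚ) =
      (((H i).subgroupOf (nml (H i))).index : ℚ) * (Nat.card (H i) : ℚ) := by
    rw [← Nat.cast_mul, ← card_subgroupOf (H i), Subgroup.index_mul_card]
  have he : (((H i).subgroupOf (nml (H i))).index : ℚ) ≠ 0 :=
    Nat.cast_ne_zero.mpr Subgroup.index_ne_zero_of_finite
  have hh : (Nat.card (H i) : ℚ) ≠ 0 := Nat.cast_ne_zero.mpr Nat.card_pos.ne'
  rw [hN]
  field_simp

/-- **Character-theoretic part of the CN theorem for odd order.** -/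
theorem not_nilpotent_TI_partition [Finite G] [Nontrivial G] (hodd : Odd (Nat.card G))
    {ι : Type v} [Finite ι] (H : ι → Subgroup G) (hnil : ∀ i, Group.IsNilpotent (H i))
    (hne : ∀ i, H i ≠ ⊥)
    (hTI : ∀ i, ∀ g : G, g ∉ Subgroup.normalizer (H i : Set G) → ∀ x ∈ H i,
      g * x * g⁻¹ ∈ H i → x = 1)
    (hcent : ∀ i, ∀ x ∈ H i, x ≠ 1 → Subgroup.centralizer ({x} : Set G) ≤ H i)
    (hN : ∀ i, Subgroup.normalizer (H i : Set G) ≠ H i)
    (hcop : Pairwise fun i l => (Nat.card (H i)).Coprime (Nat.card (H l)))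
    (hcover : ∀ x : G, x ≠ 1 → ∃ i, ∃ g : G, g * x * g⁻¹ ∈ H i) : False := by
  classical
  have := Fintype.ofFinite G
  have := Fintype.ofFinite ι
  have := Fintype.ofFinite (Cfsg.IrrCharacter G)
  have hι : Nonempty ι := by
    obtain ⟨x, hx⟩ := exists_ne (1 : G)
    exact ⟨(hcover x hx).choose⟩
  have := fun i => Fintype.ofFinite (Rep (H i))
  let e : ι → ℕ := fun i => ((H i).subgroupOf (nml (H i))).index
  let W : ι → ℕ := fun i => Fintype.card (Rep (H i))
  have hA : ∀ i, (commutator (H i)).index = e i * W i + 1 := fun i => by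
    rw [card_linHom (H i) (hcent i), Nat.card_eq_fintype_card]
  have hoddA : ∀ i, Odd (e i * W i + 1) := fun i => by
    refine Odd.of_dvd_nat hodd ?_
    rw [← hA i]
    exact (Subgroup.index_dvd_card _).trans (Subgroup.card_subgroup_dvd_card _)
  have heodd : ∀ i, Odd (e i) := fun i =>
    Odd.of_dvd_nat hodd ((Subgroup.index_dvd_card _).trans (Subgroup.card_subgroup_dvd_card _))
  have he3 : ∀ i, 3 ≤ e i := fun i => by
    have h1 : e i ≠ 1 := fun h => hN i (le_antisymm
      (fun x hx => by
        have := Subgroup.index_eq_one.mp h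
        exact (this ▸ Subgroup.mem_top (⟨x, hx⟩ : nml (H i)) :
          (⟨x, hx⟩ : nml (H i)) ∈ (H i).subgroupOf (nml (H i))))
      Subgroup.le_normalizer)
    obtain ⟨k, hk⟩ := heodd i
    omega
  have hWeven : ∀ i, Even (W i) := fun i => by
    have h := hoddA i
    rw [Nat.odd_add_one, Nat.not_odd_iff_even, Nat.even_mul] at h
    exact h.resolve_left (Nat.not_even_iff_odd.mpr (heodd i))
  have hW2 : ∀ i, 2 ≤ W i := fun i => by
    have hW0 : W i ≠ 0 := fun h0 => by
      have hA' := hA i
      rw [h0, mul_zero, zero_add] at hA'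
      have : Nontrivial (H i) := (Subgroup.nontrivial_iff_ne_bot _).mpr (hne i)
      have := hnil i
      exact (Group.IsSolvable.commutator_lt_top_of_nontrivial (H i)).ne (Subgroup.index_eq_one.mp hA')
    obtain ⟨k, hk⟩ := hWeven i
    omega
  -- coefficient vectors
  choose a haθ _ _ using fun (p : Σ i, Rep (H i)) => exists_coeff (isGen_bigD (H p.1) (rep p.2))
  let X := Cfsg.IrrCharacter G
  have hpars : ∀ (p q : Σ i, Rep (H i)),
      Cfsg.classInner (bigD (H p.1) (rep p.2)) (bigD (H q.1) (rep q.2)) =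
        ((∑ χ : X, a p χ * a q χ : ℤ) : ℂ) := by
    intro p q
    rw [classInner_eq_sum (isGen_bigD _ _)]
    push_cast
    refine Finset.sum_congr rfl fun χ _ => ?_
    rw [haθ, haθ, map_intCast]
  have hone : ∀ p, a p (oneChar G) = 1 := fun p => by
    have := haθ p (oneChar G)
    rw [classInner_bigD_one _ _ (rep_ne_one p.2)] at this
    exact_mod_cast this.symm
  have hexc : ∀ i, ∃ ε : ℤ, (ε = 1 ∨ ε = -1) ∧ ∃ Θ : Rep (H i) → X, Function.Injective Θ ∧
      ∀ r t χ, a ⟨i, r⟩ χ - a ⟨i, t⟩ χ =
        ε * ((if χ = Θ t then 1 else 0) - (if χ = Θ r then 1 else 0)) := by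
    intro i
    let q := (Fintype.equivFin (Rep (H i))).symm
    have hpos : 0 < W i := lt_of_lt_of_le Nat.zero_lt_two (hW2 i)
    let i₀ : Fin (W i) := ⟨0, hpos⟩
    let τ : Fin (W i) → G → ℂ := fun k => bigD (H i) (rep (q i₀)) - bigD (H i) (rep (q k))
    obtain ⟨ε, hε, μ, hμ, hμinj, hτ⟩ := S0198.result (W i) i₀ τ (sub_self _)
      (fun k => isGen_sub (isGen_bigD _ _) (isGen_bigD _ _))
      (fun k => by simp [τ, bigD_apply_one])
      (fun k l hk hl => by
        simp only [τ, classInner_sub_left, classInner_sub_right,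
          classInner_bigD (H i) (hTI i) (hcent i), EmbeddingLike.apply_eq_iff_eq, if_true,
          if_neg hk, if_neg (Ne.symm hl)]
        split_ifs <;> ring)
    obtain ⟨εz, hεz, hεeq⟩ : ∃ z : ℤ, (z = 1 ∨ z = -1) ∧ ε = (z : ℂ) := by
      rcases hε with h | h
      · exact ⟨1, Or.inl rfl, by simp [h]⟩
      · exact ⟨-1, Or.inr rfl, by simp [h]⟩
    refine ⟨εz, hεz, fun r => ⟨μ (q.symm r), hμ _⟩,
      fun r s h => q.symm.injective (hμinj (congrArg Subtype.val h)), fun r t χ => ?_⟩
    have hd : bigD (H i) (rep r) - bigD (H i) (rep t) = ε • (μ (q.symm t) - μ (q.symm r)) := by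
      have h1 := hτ (q.symm t)
      have h2 := hτ (q.symm r)
      simp only [τ, Equiv.apply_symm_apply] at h1 h2
      have e : bigD (H i) (rep r) - bigD (H i) (rep t) =
          (bigD (H i) (rep (q i₀)) - bigD (H i) (rep t)) -
            (bigD (H i) (rep (q i₀)) - bigD (H i) (rep r)) := by abel
      rw [e, h1, h2, ← smul_sub, sub_sub_sub_cancel_right]
    have h3 := congrArg (fun f => Cfsg.classInner f (χ : G → ℂ)) hd
    simp only [classInner_sub_left, classInner_smul_left] at h3
    rw [haθ ⟨i, r⟩, haθ ⟨i, t⟩] at h3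
    have h4 : ∀ k, Cfsg.classInner (μ k) (χ : G → ℂ) = if χ = ⟨μ k, hμ k⟩ then 1 else 0 := by
      intro k
      have := classInner_irr (⟨μ k, hμ k⟩ : X) χ
      rw [this]
      simp only [eq_comm]
    rw [h4, h4, hεeq] at h3
    apply Int.cast_injective (α := ℂ)
    push_cast
    exact h3
  choose ε hε Θ hΘ hdiff using hexc
  have hsame : ∀ i r s, ∑ χ : X, a ⟨i, r⟩ χ * a ⟨i, s⟩ χ = (e i : ℤ) + if r = s then 1 else 0 := by
    intro i r s
    apply Int.cast_injective (α := ℂ)
    rw [← hpars, classInner_bigD (H i) (hTI i) (hcent i)]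
    split_ifs <;> simp [e]
  have hother : ∀ i l, i ≠ l → ∀ r s, ∑ χ : X, a ⟨i, r⟩ χ * a ⟨l, s⟩ χ = 0 := by
    intro i l hil r s
    apply Int.cast_injective (α := ℂ)
    rw [← hpars]
    have := Fintype.ofFinite (H i)
    rw [Int.cast_zero, show bigD (H i) (rep r) = Cfsg.indFun (H i) (phi (rep r)) from rfl,
      frobenius_reciprocity _ _ (isClassFunction_of_isGen (isGen_bigD _ _))]
    have hz : (fun x : H i => bigD (H l) (rep s) x) = 0 := by
      funext x
      refine bigD_eq_zero_on (H l) (H i) _ (fun g y hy hgy => ?_) x.2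
      have h1 : orderOf y ∣ Nat.card (H i) := Subgroup.orderOf_dvd_natCard _ hy
      have h2 : orderOf y ∣ Nat.card (H l) := by
        have := Subgroup.orderOf_dvd_natCard _ hgy
        have e : orderOf (g⁻¹ * y * g) = orderOf y := by
          simpa using orderOf_injective (MulAut.conj g⁻¹).toMonoidHom (MulAut.conj g⁻¹).injective y
        rwa [e] at this
      exact orderOf_eq_one_iff.mp (Nat.eq_one_of_dvd_coprimes (hcop hil) h1 h2)
    rw [hz, classInner_zero_right]
  have hbar : Function.Involutive (conjChar (G := G)) := conjChar_conjChar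
  have hfix : ∀ χ : X, conjChar χ = χ ↔ χ = oneChar G := fun χ => by
    refine ⟨fun h => Characters.Indicator.eq_oneChar_of_real hodd χ
      ((Characters.Indicator.conjChar_eq_self_iff χ).mp h), ?_⟩
    rintro rfl
    exact (Characters.Indicator.conjChar_eq_self_iff _).mpr fun g => by simp [oneChar_apply]
  have hconj : ∀ i (χ : X), ∑ r, a ⟨i, r⟩ (conjChar χ) = ∑ r, a ⟨i, r⟩ χ := by
    intro i χ
    have hσ : Function.Bijective (invRep (H := H i)) :=
      Finite.injective_iff_bijective.mp invRep_injective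
    refine Fintype.sum_equiv (Equiv.ofBijective _ hσ) _ _ fun r => ?_
    show a ⟨i, r⟩ (conjChar χ) = a ⟨i, invRep r⟩ χ
    obtain ⟨n, hn⟩ := Quotient.mk_out (s := MulAction.orbitRel (nml (H i)) (H i →* ℂˣ)) (rep r)⁻¹
    have hD : bigD (H i) (rep (invRep r)) = fun g => conj (bigD (H i) (rep r) g) := by
      funext g
      rw [conj_bigD, ← bigD_smul (H i) n (rep r)⁻¹]
      exact congrFun (congrArg (bigD (H i)) hn.symm) g
    apply Int.cast_injective (α := ℂ)
    rw [← haθ, ← haθ, hD]
    have hreal : Cfsg.classInner (fun g => conj (bigD (H i) (rep r) g)) (χ : G → ℂ) =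
        conj (Cfsg.classInner (bigD (H i) (rep r)) (conjChar χ : G → ℂ)) := by
      simp only [Cfsg.classInner, map_mul, map_inv₀, map_natCast, map_sum, conjChar_apply,
        Complex.conj_conj]
    rw [hreal, haθ, map_intCast]
  obtain ⟨m, hI, hII, hIII⟩ := CNCoeff.coeff_core (oneChar G) (conjChar (G := G)) hbar hfix
    (fun i => Rep (H i)) e (fun i r χ => a ⟨i, r⟩ χ) Θ ε hε hΘ hWeven hW2
    (fun i r => hone ⟨i, r⟩) hsame hother hdiff hconj
  have hseven : ∀ i, e i = 3 → W i = 2 → Nat.card (H i) = 7 := by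
    intro i h3 h2
    have := hnil i
    have h7 : (commutator (H i)).index = 7 := by rw [hA i, h3, h2]
    have hb := commutator_eq_bot_of_index_prime (G := H i) (by rw [h7]; norm_num)
    rwa [hb, Subgroup.index_bot] at h7
  exact CNArith.arith_contradiction (Nat.card G) e W (fun i => Nat.card (H i)) m hodd heodd he3
    hWeven hW2 (fun i => hA i ▸ Subgroup.index_dvd_card _)
    (fun i => Subgroup.card_subgroup_dvd_card _) hcop hI hII hIII
    (sum_counting H hTI hcop hcover) hseven

end Cfsg.Agent.Lib.Induced.CNContradiction
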