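import Cfsg.Agent.Lib.Induced.Generalized
import Cfsg.Agent.Lib.Induced.Burnside
import Cfsg.Prelude.Def_Solvable

/-!
# Frobenius' kernel theorem

A subgroup meeting its conjugates trivially has a normal complement, namely the identity
together with the elements outside all its conjugates.
-/

namespace Cfsg.Agent.Lib.Induced.FrobeniusKernel

open scoped ComplexConjugate Pointwise
open Cfsg.Agent.Lib
open Cfsg.Agent.Lib.Induced.Basic

universe u

variable {G : Type u} [Group G]

section TI

variable {H : Subgroup G} (hTI : ∀ g : G, g ∉ H → ∀ h ∈ H, g * h * g⁻¹ ∈ H → h = 1)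
include hTI

/-- Induction restricted to `H` of a function vanishing at `1` gives back the function. -/
theorem indFun_apply_mem [Fintype G] {α : H → ℂ} (hα : Cfsg.IsClassFunction H α) (h1 : α 1 = 0)
    (h : H) : Cfsg.indFun H α (h : G) = α h := by
  classical
  rcases eq_or_ne h 1 with rfl | hne
  · rw [OneMemClass.coe_one, indFun_one, h1, mul_zero]
  have key : ∀ x : G, Cfsg.extendByZero H α (x⁻¹ * h * x) = if x ∈ H then α h else 0 := by
    intro x
    split_ifs with hx
    · have hh : x⁻¹ * h * x = x⁻¹ * h * (x⁻¹)⁻¹ := by rw [inv_inv]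
      rw [hh, extendByZero_conj_of_mem H hα (H.inv_mem hx), extendByZero_coe]
    · refine extendByZero_of_not_mem H α fun hmem => hne (Subtype.ext ?_)
      exact hTI x⁻¹ (fun h' => hx (by simpa using H.inv_mem h')) h h.2 (by rwa [inv_inv])
  simp only [Cfsg.indFun, key]
  rw [← Finset.sum_filter, Finset.sum_const, nsmul_eq_mul, ← Fintype.card_subtype,
    Fintype.card_eq_nat_card, ← mul_assoc]
  rw [show Nat.card {x // x ∈ H} = Nat.card H from rfl, inv_mul_cancel₀ (subgroup_card_ne_zero H),
    one_mul]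

/-- Every irreducible character of `H` extends to one of `G` which is constant off the
conjugates of `H`. -/
theorem exists_extension [Fintype G] (χ : Cfsg.IrrCharacter H) :
    ∃ θ : Cfsg.IrrCharacter G, (∀ h : H, (θ : G → ℂ) h = (χ : H → ℂ) h) ∧
      ∀ x : G, (∀ g : G, g * x * g⁻¹ ∉ H) → (θ : G → ℂ) x = (χ : H → ℂ) 1 := by
  classical
  by_cases hχ1 : χ = Characters.Basic.oneChar H
  · subst hχ1
    exact ⟨Characters.Basic.oneChar G, fun h => rfl, fun x _ => rfl⟩
  have := Fintype.ofFinite H
  obtain ⟨d, hdpos, hd⟩ := Characters.Basic.exists_degree_pos χ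
  set α : H → ℂ := (χ : H → ℂ) - (d : ℂ) • (Characters.Basic.oneChar H : H → ℂ) with hα
  have hαg : Cfsg.IsGeneralizedCharacter H α := by
    rw [hα, show (d : ℂ) = ((d : ℤ) : ℂ) by simp]
    exact Generalized.isGen_sub (Generalized.of_irr χ)
      (Generalized.isGen_zsmul (Generalized.of_irr _) _)
  have hα1 : α 1 = 0 := by
    simp [hα, hd, Characters.Basic.oneChar_apply]
  set θ : G → ℂ := Cfsg.indFun H α + (d : ℂ) • (Characters.Basic.oneChar G : G → ℂ) with hθ
  have hθH : ∀ h : H, θ h = (χ : H → ℂ) h := by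
    intro h
    simp only [hθ, Pi.add_apply, Pi.smul_apply, Characters.Basic.oneChar_apply,
      indFun_apply_mem hTI (Generalized.isClassFunction_of_isGen hαg) hα1, smul_eq_mul, mul_one]
    simp [hα, Characters.Basic.oneChar_apply]
  have hθout : ∀ x : G, (∀ g : G, g * x * g⁻¹ ∉ H) → θ x = (χ : H → ℂ) 1 := by
    intro x hx
    simp only [hθ, Pi.add_apply, Pi.smul_apply, Characters.Basic.oneChar_apply, smul_eq_mul,
      mul_one, hd]
    rw [indFun_eq_zero_of_forall_not_mem H α, zero_add]
    intro g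
    simpa using hx g⁻¹
  have hone : (fun g : H => (Characters.Basic.oneChar G : G → ℂ) g) =
      (Characters.Basic.oneChar H : H → ℂ) := rfl
  have h00 : Cfsg.classInner (χ : H → ℂ) (Characters.Basic.oneChar H : H → ℂ) = 0 :=
    Characters.Basic.classInner_irr_of_ne hχ1
  have h00' : Cfsg.classInner (Characters.Basic.oneChar H : H → ℂ) (χ : H → ℂ) = 0 :=
    Characters.Basic.classInner_irr_of_ne (Ne.symm hχ1)
  have hsq : Cfsg.classInner α α = 1 + (d : ℂ) * d := by
    simp only [hα, classInner_sub_left, classInner_sub_right, classInner_smul_left,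
      classInner_smul_right, h00, h00', Characters.Basic.classInner_self_irr, map_natCast]
    ring
  have ha1 : Cfsg.classInner α (Characters.Basic.oneChar H : H → ℂ) = -(d : ℂ) := by
    simp only [hα, classInner_sub_left, classInner_smul_left, h00,
      Characters.Basic.classInner_self_irr]
    ring
  have hind : Cfsg.classInner (Cfsg.indFun H α) (Cfsg.indFun H α) = 1 + (d : ℂ) * d := by
    rw [frobenius_reciprocity H α (isClassFunction_indFun H α), ← hsq]
    congr 1
    funext h
    exact indFun_apply_mem hTI (Generalized.isClassFunction_of_isGen hαg) hα1 h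
  have hindone : Cfsg.classInner (Cfsg.indFun H α) (Characters.Basic.oneChar G : G → ℂ) =
      -(d : ℂ) := by
    rw [frobenius_reciprocity H α (Characters.Basic.isClassFunction_irr _), hone, ha1]
  have honeind : Cfsg.classInner (Characters.Basic.oneChar G : G → ℂ) (Cfsg.indFun H α) =
      -(d : ℂ) := by
    rw [← classInner_conj_symm, hindone, map_neg, map_natCast]
  have hnorm : Cfsg.classInner θ θ = 1 := by
    simp only [hθ, classInner_add_left, classInner_add_right, classInner_smul_left,
      classInner_smul_right, hind, hindone, honeind, Characters.Basic.classInner_self_irr,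
      map_natCast]
    ring
  have hirr : Cfsg.IsIrrCharacter G θ := by
    refine Generalized.isIrrCharacter_of_norm_one ?_ hnorm ?_
    · rw [hθ, show (d : ℂ) = ((d : ℤ) : ℂ) by simp]
      exact Generalized.isGen_add (Character.isGeneralizedCharacter_indFun H hαg)
        (Generalized.isGen_zsmul (Generalized.of_irr _) _)
    · have h1 : θ 1 = (d : ℂ) := by rw [← hd, ← hθH 1, OneMemClass.coe_one]
      rw [h1, Complex.natCast_re]
      exact_mod_cast hdpos
  exact ⟨⟨θ, hirr⟩, hθH, hθout⟩

/-- Frobenius' kernel theorem. -/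
theorem exists_normal_complement [Finite G] :
    ∃ K : Subgroup G, K.Normal ∧ Subgroup.IsComplement' K H ∧
      ∀ x : G, x ∈ K ↔ x = 1 ∨ ∀ g : G, g * x * g⁻¹ ∉ H := by
  classical
  haveI := Fintype.ofFinite G
  haveI := Fintype.ofFinite H
  choose θ hθH hθout using exists_extension hTI
  choose n ρ hρ hchar using fun χ : Cfsg.IrrCharacter H => (θ χ).2
  let K : Subgroup G := ⨅ χ : Cfsg.IrrCharacter H, MonoidHom.ker (ρ χ)
  have hK : ∀ x, x ∈ K ↔ ∀ χ, (θ χ : G → ℂ) x = (θ χ : G → ℂ) 1 := by
    intro x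
    simp only [K, Subgroup.mem_iInf, MonoidHom.mem_ker, ← hchar]
    refine forall_congr' fun χ => ⟨fun h => ?_, fun h => ?_⟩
    · rw [Representation.character, h, Representation.character, map_one (ρ χ)]
    · exact Integral.eq_id_of_character_eq (ρ χ) (h.trans (Representation.char_one _))
  haveI hnormal : K.Normal := Subgroup.normal_iInf_normal fun χ => MonoidHom.normal_ker _
  have hKout : ∀ x : G, (∀ g : G, g * x * g⁻¹ ∉ H) → x ∈ K := by
    intro x hx
    rw [hK]
    intro χ
    rw [hθout χ x hx]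
    exact ((congrArg _ (OneMemClass.coe_one H).symm).trans (hθH χ 1)).symm
  have hKH : ∀ x, x ∈ K → x ∈ H → x = 1 := by
    intro x hxK hxH
    by_contra hne
    have hval : ∀ χ : Cfsg.IrrCharacter H, (χ : H → ℂ) ⟨x, hxH⟩ = (χ : H → ℂ) 1 := by
      intro χ
      rw [← hθH χ, ← hθH χ 1, OneMemClass.coe_one]
      exact (hK x).mp hxK χ
    haveI := Fintype.ofFinite (Cfsg.IrrCharacter H)
    have hzero := Burnside.sum_degree_mul_eq_zero (G := H) (g := ⟨x, hxH⟩)
      fun h => hne (congrArg Subtype.val h)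
    simp only [hval] at hzero
    choose d hdpos hd using fun χ : Cfsg.IrrCharacter H => Characters.Basic.exists_degree_pos χ
    simp only [hd, ← Nat.cast_mul, ← Nat.cast_sum, Nat.cast_eq_zero,
      Finset.sum_eq_zero_iff, Finset.mem_univ, forall_true_left, mul_eq_zero, or_self] at hzero
    exact (hdpos (Characters.Basic.oneChar H)).ne' (hzero _)
  have hmem : ∀ x : G, x ∈ K ↔ x = 1 ∨ ∀ g : G, g * x * g⁻¹ ∉ H := by
    refine fun x => ⟨fun hx => or_iff_not_imp_left.mpr fun hx1 g hg => hx1 ?_, ?_⟩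
    · simpa using hKH _ (hnormal.conj_mem x hx g) hg
    · rintro (rfl | hx)
      · exact K.one_mem
      · exact hKout x hx
  refine ⟨K, hnormal, ?_, hmem⟩
  -- counting the elements outside `K`
  have hout : ∀ (q : G ⧸ H) (h : {h : H // h ≠ 1}),
      ¬ (q.out * (h.1 : G) * q.out⁻¹ ∈ K) := by
    intro q h hK'
    apply h.2
    rcases (hmem _).mp hK' with h' | h'
    · exact Subtype.ext (by simpa using h')
    · exact absurd h.1.2 (by simpa [mul_assoc] using h' q.out⁻¹)
  let Ψ : (G ⧸ H) × {h : H // h ≠ 1} → {x : G // ¬ x ∈ K} := fun q =>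
    ⟨q.1.out * (q.2.1 : G) * q.1.out⁻¹, hout q.1 q.2⟩
  have hΨ : Function.Bijective Ψ := by
    refine ⟨fun q q' e => ?_, fun x => ?_⟩
    · have e' : q.1.out * (q.2.1 : G) * q.1.out⁻¹ = q'.1.out * (q'.2.1 : G) * q'.1.out⁻¹ :=
        congrArg Subtype.val e
      have ec : (q'.1.out⁻¹ * q.1.out) * (q.2.1 : G) * (q'.1.out⁻¹ * q.1.out)⁻¹ = q'.2.1 := by
        calc (q'.1.out⁻¹ * q.1.out) * (q.2.1 : G) * (q'.1.out⁻¹ * q.1.out)⁻¹
            = q'.1.out⁻¹ * (q.1.out * (q.2.1 : G) * q.1.out⁻¹) * q'.1.out := by group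
          _ = q'.2.1 := by rw [e']; group
      have hc : q'.1.out⁻¹ * q.1.out ∈ H := by
        by_contra hc
        exact q.2.2 (Subtype.ext (hTI _ hc _ q.2.1.2 (by rw [ec]; exact q'.2.1.2)))
      have hq : q.1 = q'.1 := by
        rw [← q.1.out_eq', ← q'.1.out_eq']
        exact (QuotientGroup.eq.mpr hc).symm
      refine Prod.ext hq (Subtype.ext (Subtype.ext ?_))
      rw [hq] at e'
      exact mul_left_cancel (mul_right_cancel e')
    · obtain ⟨g, hg⟩ : ∃ g : G, g * x.1 * g⁻¹ ∈ H := by
        have := mt (hmem x.1).mpr x.2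
        push Not at this
        exact this.2
      obtain ⟨k, hk⟩ := QuotientGroup.mk_out_eq_mul H g⁻¹
      refine ⟨((g⁻¹ : G), ⟨⟨(k : G)⁻¹ * (g * x.1 * g⁻¹) * k,
        H.mul_mem (H.mul_mem (H.inv_mem k.2) hg) k.2⟩, fun h1 => x.2 ?_⟩), Subtype.ext ?_⟩
      · have h1' : (k : G)⁻¹ * (g * x.1 * g⁻¹) * k = 1 := congrArg Subtype.val h1
        have hx1 : x.1 = 1 := by
          calc x.1 = g⁻¹ * k * ((k : G)⁻¹ * (g * x.1 * g⁻¹) * k) * (g⁻¹ * k)⁻¹ := by group
            _ = 1 := by rw [h1']; group
        rw [hx1]; exact K.one_mem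
      · show (QuotientGroup.mk g⁻¹ : G ⧸ H).out * ((k : G)⁻¹ * (g * x.1 * g⁻¹) * k) *
          ((QuotientGroup.mk g⁻¹ : G ⧸ H).out)⁻¹ = x.1
        rw [hk]; group
  refine Subgroup.isComplement'_of_card_mul_and_disjoint ?_ ?_
  · have hc : H.index * (Nat.card H - 1) = Nat.card G - Nat.card K := by
      have := Nat.card_congr (Equiv.ofBijective Ψ hΨ)
      have e1 : Nat.card {h : H // h ≠ 1} = Nat.card H - 1 := by
        rw [Nat.card_eq_fintype_card, Nat.card_eq_fintype_card, Fintype.card_subtype_compl,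
          Fintype.card_subtype_eq]
      have e2 : Nat.card {x : G // ¬ x ∈ K} = Nat.card G - Nat.card K := by
        rw [Nat.card_eq_fintype_card, Nat.card_eq_fintype_card, Fintype.card_subtype_compl,
          Nat.card_eq_fintype_card]
      rwa [Nat.card_prod, e1, e2] at this
    have hle : Nat.card K ≤ Nat.card G := Nat.le_of_dvd Nat.card_pos K.card_subgroup_dvd_card
    rw [Nat.mul_sub, mul_one, mul_comm H.index, H.card_mul_index] at hc
    have hile : H.index ≤ Nat.card G := Nat.le_of_dvd Nat.card_pos H.index_dvd_card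
    have hKidx : Nat.card K = H.index := by omega
    rw [hKidx, mul_comm, H.card_mul_index]
  · exact Subgroup.disjoint_def.mpr fun {x} => hKH x

end TI

/-- The kernel theorem for `Cfsg.IsFrobeniusComplement`. -/
theorem exists_frobeniusKernel_subgroup [Finite G] {H : Subgroup G}
    (hH : Cfsg.IsFrobeniusComplement H) :
    ∃ K : Subgroup G, K.Normal ∧ (K : Set G) = Cfsg.frobeniusKernel H ∧
      Subgroup.IsComplement' K H := by
  have hTI : ∀ g : G, g ∉ H → ∀ h ∈ H, g * h * g⁻¹ ∈ H → h = 1 := by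
    intro g hg h hh hgh
    have hmem : g * h * g⁻¹ ∈ H ⊓ MulAut.conj g • H :=
      ⟨hgh, (Subgroup.mem_pointwise_smul_iff_inv_smul_mem).mpr (by simpa [mul_assoc] using hh)⟩
    rw [hH.2.2 g hg, Subgroup.mem_bot] at hmem
    simpa using hmem
  obtain ⟨K, hK, hc, hmem⟩ := exists_normal_complement hTI
  refine ⟨K, hK, Set.ext fun x => ?_, hc⟩
  rw [SetLike.mem_coe, hmem, Cfsg.frobeniusKernel, Set.mem_setOf_eq]
  refine or_congr_right ⟨fun h g => ?_, fun h g => ?_⟩
  · rw [Subgroup.mem_pointwise_smul_iff_inv_smul_mem]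
    simpa [mul_assoc] using h g⁻¹
  · have := h g⁻¹
    rw [Subgroup.mem_pointwise_smul_iff_inv_smul_mem] at this
    simpa [mul_assoc] using this

end Cfsg.Agent.Lib.Induced.FrobeniusKernel
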