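import Cfsg.Agent.Lib.Induced.Integral
import Cfsg.Agent.Lib.Characters.Linear
import Cfsg.Agent.Lib.Clifford.Basic

/-!
# Divisibility of irreducible degrees into indices

* the degree divides the index of every subgroup acting by scalars (hence of the centre);
* Ito's theorem: the degree divides the index of every abelian normal subgroup.
-/

namespace Cfsg.Agent.Lib.Induced.DegreeIndex

open scoped ComplexConjugate
open Cfsg.Agent.Lib

universe u v

variable {G : Type u} [Group G] [Finite G] {V : Type v} [AddCommGroup V] [Module ℂ V]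
  [FiniteDimensional ℂ V]

/-- The degree divides the index of a subgroup acting by scalars. -/
theorem finrank_dvd_index_of_scalar (ρ : Representation ℂ G V) [ρ.IsIrreducible]
    (Z : Subgroup G) (hZ : ∀ z ∈ Z, ∃ c : ℂ, ρ z = c • (1 : Module.End ℂ V)) :
    Module.finrank ℂ V ∣ Z.index := by
  classical
  haveI := Fintype.ofFinite G
  haveI := Fintype.ofFinite (G ⧸ Z)
  have hdpos := Characters.Basic.finrank_pos_of_isIrreducible ρ
  have hd : (Module.finrank ℂ V : ℂ) ≠ 0 := Nat.cast_ne_zero.mpr hdpos.ne'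
  haveI : Nontrivial V := Module.finrank_pos_iff.mp hdpos
  have hinj : Function.Injective (fun a : ℂ => a • (1 : Module.End ℂ V)) :=
    smul_left_injective ℂ one_ne_zero
  let f : G → Module.End ℂ V := fun g => ρ.character g⁻¹ • ρ g
  have hf : ∀ (g : G) (z : G), z ∈ Z → f (g * z) = f g := by
    intro g z hz
    obtain ⟨c, hc⟩ := hZ z hz
    obtain ⟨c', hc'⟩ := hZ z⁻¹ (Z.inv_mem hz)
    have hprod : ρ z⁻¹ * ρ z = 1 := by rw [← map_mul, inv_mul_cancel, map_one]
    rw [hc, hc', smul_mul_smul_comm, one_mul] at hprod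
    have hcc : c' * c = 1 := hinj (by
      show (c' * c) • (1 : Module.End ℂ V) = (1 : ℂ) • 1
      rw [one_smul]; exact hprod)
    have hchar : ρ.character (g * z)⁻¹ = c' * ρ.character g⁻¹ := by
      rw [mul_inv_rev, Representation.character, map_mul, hc', smul_mul_assoc, one_mul, map_smul,
        smul_eq_mul, Representation.character]
    show ρ.character (g * z)⁻¹ • ρ (g * z) = ρ.character g⁻¹ • ρ g
    rw [hchar, map_mul, hc, mul_smul_comm, mul_one, smul_smul]
    congr 1
    calc c' * ρ.character g⁻¹ * c = c' * c * ρ.character g⁻¹ := by ring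
      _ = ρ.character g⁻¹ := by rw [hcc, one_mul]
  let U : Module.End ℂ V := ∑ g : G, f g
  let S : Module.End ℂ V := ∑ q : G ⧸ Z, f q.out
  have hUS : U = (Nat.card Z : ℂ) • S := by
    simp only [U, S, Finset.smul_sum]
    rw [← Finset.sum_fiberwise (Finset.univ : Finset G) (fun g => (g : G ⧸ Z))]
    refine Finset.sum_congr rfl fun q _ => ?_
    rw [Finset.sum_congr rfl (g := fun _ => f q.out) fun g hg => ?_, Finset.sum_const,
      Nat.cast_smul_eq_nsmul]
    · congr 1
      rw [← Fintype.card_subtype, ← Nat.card_eq_fintype_card]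
      refine Nat.card_congr ?_
      exact
        { toFun := fun g => ⟨q.out⁻¹ * g.1, QuotientGroup.eq.mp (by rw [QuotientGroup.out_eq' q]; exact g.2.symm)⟩
          invFun := fun z => ⟨q.out * z, by
            rw [QuotientGroup.mk_mul_of_mem _ z.2]; exact QuotientGroup.out_eq' q⟩
          left_inv := fun g => Subtype.ext (mul_inv_cancel_left _ _)
          right_inv := fun z => Subtype.ext (inv_mul_cancel_left _ _) }
    · have hmem : q.out⁻¹ * g ∈ Z := QuotientGroup.eq.mp (by
        rw [QuotientGroup.out_eq' q]; exact (Finset.mem_filter.mp hg).2.symm)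
      rw [← hf q.out _ hmem, mul_inv_cancel_left]
  have hcomm : ∀ h : G, U * ρ h = ρ h * U := by
    intro h
    simp only [U, Finset.sum_mul, Finset.mul_sum]
    refine Fintype.sum_equiv (MulAut.conj h⁻¹).toEquiv _ _ fun g => ?_
    show ρ.character g⁻¹ • ρ g * ρ h = ρ h * (ρ.character ((MulAut.conj h⁻¹) g)⁻¹ • ρ ((MulAut.conj h⁻¹) g))
    rw [smul_mul_assoc, mul_smul_comm, ← map_mul, ← map_mul]
    have h1 : ((MulAut.conj h⁻¹) g)⁻¹ = h⁻¹ * g⁻¹ * (h⁻¹)⁻¹ := by simp [mul_assoc]
    rw [h1, Representation.char_conj]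
    simp [mul_assoc]
  let F : Representation.IntertwiningMap ρ ρ :=
    { toLinearMap := U, isIntertwining' := fun h => hcomm h }
  obtain ⟨u, hu⟩ :=
    (Representation.IsIrreducible.algebraMap_intertwiningMap_bijective_of_isAlgClosed (ρ := ρ)).2 F
  have hU : U = algebraMap ℂ (Module.End ℂ V) u :=
    (congrArg Representation.IntertwiningMap.toLinearMap hu).symm
  have htr : u * (Module.finrank ℂ V : ℂ) = (Nat.card G : ℂ) := by
    have h1 := congrArg (LinearMap.trace ℂ V) hU
    rw [Algebra.algebraMap_eq_smul_one, map_smul, LinearMap.trace_one, smul_eq_mul] at h1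
    rw [← h1]
    simp only [U, f, map_sum, map_smul, smul_eq_mul]
    have hnorm := Characters.Basic.classInner_self_irr (Characters.Basic.irrChar ρ)
    rw [Cfsg.classInner, inv_mul_eq_iff_eq_mul₀ Basic.natCard_ne_zero, mul_one] at hnorm
    rw [← hnorm]
    refine Finset.sum_congr rfl fun g _ => ?_
    rw [Characters.Basic.coe_irrChar, Characters.Diag.char_inv_eq_conj]
    exact mul_comm _ _
  have hint : IsIntegral ℤ S := by
    let R : Subalgebra ℤ ℂ := Algebra.adjoin ℤ (Set.range ρ.character)
    haveI : Module.Finite ℤ R := Module.Finite.iff_fg.mpr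
      (fg_adjoin_of_finite (Set.finite_range _) fun x ⟨g, hg⟩ =>
        hg ▸ Characters.Diag.isIntegral_char ρ g)
    haveI : Module.Finite ℤ (MonoidAlgebra R G) := Module.Finite.trans R _
    have hS : S = (MonoidAlgebra.lift R (Module.End ℂ V) G ρ).restrictScalars ℤ
        (∑ q : G ⧸ Z, MonoidAlgebra.single q.out
          (⟨ρ.character q.out⁻¹, Algebra.subset_adjoin (Set.mem_range_self _)⟩ : R)) := by
      simp only [AlgHom.restrictScalars_apply, map_sum, MonoidAlgebra.lift_single]
      rfl
    rw [hS]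
    exact (IsIntegral.of_finite ℤ _).map _
  have hS' : S = algebraMap ℂ (Module.End ℂ V) ((Z.index : ℂ) / Module.finrank ℂ V) := by
    have hZ0 : (Nat.card Z : ℂ) ≠ 0 := Basic.subgroup_card_ne_zero Z
    have : (Nat.card Z : ℂ) • S = (Nat.card Z : ℂ) •
        algebraMap ℂ (Module.End ℂ V) ((Z.index : ℂ) / Module.finrank ℂ V) := by
      rw [← hUS, hU, Algebra.algebraMap_eq_smul_one, Algebra.algebraMap_eq_smul_one, smul_smul]
      congr 1
      rw [← mul_div_assoc, ← Nat.cast_mul, Z.card_mul_index, eq_div_iff hd, htr]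
    exact smul_right_injective _ hZ0 this
  rw [hS', isIntegral_algebraMap_iff (algebraMap ℂ (Module.End ℂ V)).injective] at hint
  have hq : (Z.index : ℂ) / Module.finrank ℂ V =
      algebraMap ℚ ℂ ((Z.index : ℚ) / Module.finrank ℂ V) := by
    rw [map_div₀, map_natCast, map_natCast]
  rw [hq, isIntegral_algebraMap_iff (algebraMap ℚ ℂ).injective,
    IsIntegrallyClosed.isIntegral_iff] at hint
  obtain ⟨m, hm⟩ := hint
  rw [eq_intCast, eq_div_iff (by exact_mod_cast hdpos.ne')] at hm
  have h2 : (Module.finrank ℂ V : ℤ) ∣ (Z.index : ℤ) :=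
    ⟨m, by rw [mul_comm]; exact_mod_cast hm.symm⟩
  exact_mod_cast h2

/-- The degree divides the index of the centre. -/
theorem finrank_dvd_center_index (ρ : Representation ℂ G V) [ρ.IsIrreducible] :
    Module.finrank ℂ V ∣ (Subgroup.center G).index := by
  refine finrank_dvd_index_of_scalar ρ _ fun z hz => ?_
  let F : Representation.IntertwiningMap ρ ρ :=
    { toLinearMap := ρ z
      isIntertwining' := fun h => by
        show ρ z * ρ h = ρ h * ρ z
        rw [← map_mul, ← map_mul, Subgroup.mem_center_iff.mp hz h] }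
  obtain ⟨u, hu⟩ :=
    (Representation.IsIrreducible.algebraMap_intertwiningMap_bijective_of_isAlgClosed (ρ := ρ)).2 F
  exact ⟨u, (congrArg Representation.IntertwiningMap.toLinearMap hu).symm⟩

/-- Ito's theorem. -/
theorem finrank_dvd_index_of_abelian_normal (ρ : Representation ℂ G V) [ρ.IsIrreducible]
    (A : Subgroup G) [A.Normal] (hA : ∀ a ∈ A, ∀ b ∈ A, a * b = b * a) :
    Module.finrank ℂ V ∣ A.index := by
  classical
  haveI := Fintype.ofFinite G
  haveI := Fintype.ofFinite A
  have hχ := Characters.Basic.isIrrCharacter_character ρ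
  obtain ⟨θ, hθ⟩ := Clifford.Basic.exists_constituent_restrict A hχ
  have hθ1 : (θ : A → ℂ) 1 = 1 :=
    Characters.Linear.degree_eq_one_of_comm (fun x y => Subtype.ext (hA x x.2 y y.2)) θ
  set T := Clifford.Basic.inertia A (θ : A → ℂ) with hT
  have hAT : A ≤ T := Clifford.Basic.le_inertia A (Characters.Basic.isClassFunction_irr θ)
  haveI := Fintype.ofFinite T
  obtain ⟨ψ, ⟨n, σ, hσ, hσc⟩, hind, hres, -⟩ :=
    Clifford.Basic.exists_correspondent A hχ θ hθ T hT hAT
  have hnorm : ∀ a : A, ‖(θ : A → ℂ) a‖ = 1 := fun a => by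
    refine Complex.norm_eq_one_of_pow_eq_one (n := Nat.card A) ?_ Nat.card_pos.ne'
    rw [← Characters.Linear.degOneHom_apply (Characters.Basic.isCharacter_irr θ) hθ1,
      ← Units.val_pow_eq_pow_val, ← map_pow, pow_card_eq_one', map_one, Units.val_one]
  have hscal : ∀ z ∈ A.subgroupOf T, ∃ c : ℂ, σ z = c • (1 : Module.End ℂ (Fin n → ℂ)) := by
    intro z hz
    refine Integral.scalar_of_norm_character_eq σ ?_
    have h1 := congrFun hres ⟨(z : G), hz⟩
    have h0 := congrFun hres 1
    simp only [Pi.smul_apply, smul_eq_mul] at h1 h0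
    rw [hθ1, mul_one] at h0
    have h0' : σ.character 1 = Cfsg.classInner (fun n : A => ρ.character n) (θ : A → ℂ) := by
      rw [hσc, ← h0]; rfl
    rw [← h0', Representation.char_one] at h1
    have h1' : σ.character z = (Module.finrank ℂ (Fin n → ℂ) : ℂ) * (θ : A → ℂ) ⟨(z : G), hz⟩ := by
      rw [hσc, ← h1]
    rw [h1', norm_mul, hnorm, mul_one, Complex.norm_natCast]
  haveI := hσ
  have h1 := finrank_dvd_index_of_scalar σ (A.subgroupOf T) hscal
  have h2 : Module.finrank ℂ V = T.index * Module.finrank ℂ (Fin n → ℂ) := by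
    have h := congrFun hind 1
    rw [Basic.indFun_one, ← hσc, Representation.char_one, Representation.char_one] at h
    exact_mod_cast h.symm
  rw [h2, ← Subgroup.relIndex_mul_index hAT, mul_comm]
  exact Nat.mul_dvd_mul_right h1 _

end Cfsg.Agent.Lib.Induced.DegreeIndex
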