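import Cfsg.Agent.Lib.Clifford.Monomial
import Cfsg.Agent.Lib.Characters.Complete
import Cfsg.Agent.Lib.Induced.Integral
import Cfsg.Agent.Lib.Induced.Mackey
import Cfsg.Agent.Lib.Brauer.Monomial

/-!
# Monomial groups: nilpotent groups are monomial, monomial groups are solvable (Taketa)
-/

namespace Cfsg.Agent.Lib.Induced.Monomial

open scoped ComplexConjugate commutatorElement
open Cfsg.Agent.Lib
open Cfsg.Agent.Lib.Induced.Basic

universe u

variable {G : Type u} [Group G] [Fintype G]

/-- Every irreducible character is induced from a character of a subgroup whose restriction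
to every normal subgroup is homogeneous. -/
theorem exists_primitive_pair {χ : G → ℂ} (hχ : Cfsg.IsIrrCharacter G χ) :
    ∃ (U : Subgroup G) (ξ : Cfsg.IrrCharacter U), Cfsg.indFun U (ξ : U → ℂ) = χ ∧
      ∀ (A : Subgroup U) (_ : A.Normal) (_ : Fintype A) (φ : Cfsg.IrrCharacter A),
        Cfsg.classInner (fun a : A => (ξ : U → ℂ) a) φ ≠ 0 →
          ∀ u, Clifford.Basic.conjC A u φ = (φ : A → ℂ) := by
  classical
  have hex : ∃ (m : ℕ) (U : Subgroup G) (ξ : Cfsg.IrrCharacter U), Nat.card U = m ∧
      Cfsg.indFun U (ξ : U → ℂ) = χ := by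
    refine ⟨_, ⊤, ⟨χ ∘ (⊤ : Subgroup G).subtype,
      Characters.Basic.isIrrCharacter_comp _ (fun g => ⟨⟨g, Subgroup.mem_top g⟩, rfl⟩) hχ⟩,
      rfl, ?_⟩
    funext g
    exact Lib.Brauer.PermChar.indFun_top _ (Characters.Basic.isClassFunction_irr ⟨_,
      Characters.Basic.isIrrCharacter_comp _ (fun g => ⟨⟨g, Subgroup.mem_top g⟩, rfl⟩) hχ⟩) g
  obtain ⟨U, ξ, hcard, hind⟩ := Nat.find_spec hex
  refine ⟨U, ξ, hind, fun A _ _ φ hφ u => ?_⟩
  set T := Clifford.Basic.inertia A (φ : A → ℂ) with hT
  obtain ⟨ψ, hψ, hψind, -, -⟩ := Clifford.Basic.exists_correspondent A ξ.2 φ hφ T hT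
    (Clifford.Basic.le_inertia A (Characters.Basic.isClassFunction_irr φ))
  let e := T.equivMapOfInjective U.subtype Subtype.val_injective
  have h1 := Nat.find_min' hex ⟨T.map U.subtype,
    ⟨fun k => ψ (e.symm k),
      Characters.Basic.isIrrCharacter_comp e.symm.toMonoidHom e.symm.surjective hψ⟩, rfl, by
    show Cfsg.indFun (T.map U.subtype) (fun k => ψ (e.symm k)) = χ
    rw [← Lib.Brauer.PermChar.indFun_indFun U T ψ, hψind, hind]⟩
  rw [← hcard, Subgroup.card_subtype] at h1
  have h2 : T = ⊤ := Subgroup.eq_top_of_le_card T h1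
  exact (Clifford.Basic.mem_inertia A).mp
    (hT ▸ h2 ▸ Subgroup.mem_top u : u ∈ Clifford.Basic.inertia A (φ : A → ℂ))

/-- Irreducible characters of nilpotent groups are monomial. -/
theorem exists_linear_of_nilpotent [Group.IsNilpotent G] {χ : G → ℂ}
    (hχ : Cfsg.IsIrrCharacter G χ) :
    ∃ (U : Subgroup G) (lam : U →* ℂˣ), χ = Cfsg.indFun U (fun h => (lam h : ℂ)) := by
  classical
  obtain ⟨U, ⟨ξ, hξ⟩, hind, hhom⟩ := exists_primitive_pair hχ
  obtain ⟨n, ρ, hρ, hρc⟩ := id hξ
  haveI := Clifford.Rep.nontrivial_of_irreducible ρ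
  haveI : Fintype U := Fintype.ofFinite U
  let Z : Subgroup U :=
    { carrier := {u | ∃ c : ℂ, ρ u = c • (1 : Module.End ℂ (Fin n → ℂ))}
      one_mem' := ⟨1, by rw [map_one, one_smul]⟩
      mul_mem' := fun {a b} ⟨c, hc⟩ ⟨d, hd⟩ => ⟨c * d, by
        rw [map_mul, hc, hd, smul_mul_smul_comm, one_mul]⟩
      inv_mem' := fun {a} ⟨c, hc⟩ => ⟨c⁻¹, by
        have hinv : ρ a⁻¹ * ρ a = 1 := by rw [← map_mul, inv_mul_cancel, map_one]
        have hc0 : c ≠ 0 := by
          rintro rfl
          rw [hc, zero_smul, mul_zero] at hinv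
          exact zero_ne_one hinv
        rw [hc, mul_smul_comm, mul_one] at hinv
        rw [← hinv, smul_smul, inv_mul_cancel₀ hc0, one_smul]⟩ }
  haveI hZn : Z.Normal := ⟨fun z ⟨c, hc⟩ g => ⟨c, by
    rw [map_mul, map_mul, hc, mul_smul_comm, mul_one, smul_mul_assoc, ← map_mul, mul_inv_cancel,
      map_one]⟩⟩
  have hlin : ∀ (_ : Z = ⊤), ξ 1 = 1 := by
    intro hZ
    have hc : ∀ a b, ρ a * ρ b = ρ b * ρ a := fun a b => by
      obtain ⟨c, hc⟩ : a ∈ Z := hZ ▸ Subgroup.mem_top a
      rw [hc, smul_mul_assoc, mul_smul_comm, one_mul, mul_one]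
    haveI := hρ
    rw [← hρc, Representation.char_one, Clifford.Monomial.finrank_eq_one_of_commute ρ hc,
      Nat.cast_one]
  have hZtop : Z = ⊤ := by
    by_contra hne
    haveI : Nontrivial (U ⧸ Z) := QuotientGroup.nontrivial_iff.mpr hne
    haveI : Group.IsNilpotent (U ⧸ Z) := inferInstance
    haveI : Nontrivial (Subgroup.center (U ⧸ Z)) := (Subgroup.nontrivial_iff_ne_bot _).mpr
      fun h0 => by
        have := Lib.Brauer.Monomial.eq_bot_of_inf_center (G := U ⧸ Z) (N := ⊤)
          (by rw [h0, inf_bot_eq])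
        exact top_ne_bot this
    obtain ⟨w, hw⟩ := exists_ne (1 : Subgroup.center (U ⧸ Z))
    obtain ⟨x, hx⟩ := QuotientGroup.mk'_surjective Z (w : U ⧸ Z)
    let A : Subgroup U := Z ⊔ Subgroup.zpowers x
    have hxc : ∀ u : U, ⁅u, x⁆ ∈ Z := fun u => by
      rw [← QuotientGroup.eq_one_iff]
      show QuotientGroup.mk' Z ⁅u, x⁆ = 1
      rw [map_commutatorElement, hx, commutatorElement_eq_one_iff_mul_comm]
      exact Subgroup.mem_center_iff.mp w.2 _
    haveI hAn : A.Normal := by
      refine ⟨fun a ha u => ?_⟩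
      obtain ⟨z, hz, y, hy, rfl⟩ := Subgroup.mem_sup_of_normal_left.mp ha
      obtain ⟨i, rfl⟩ := Subgroup.mem_zpowers_iff.mp hy
      have h1 : u * x * u⁻¹ ∈ A := by
        have : u * x * u⁻¹ = ⁅u, x⁆ * x := by rw [commutatorElement_def]; group
        rw [this]
        exact A.mul_mem (Subgroup.mem_sup_left (hxc u))
          (Subgroup.mem_sup_right (Subgroup.mem_zpowers x))
      have : u * (z * x ^ i) * u⁻¹ = (u * z * u⁻¹) * (u * x * u⁻¹) ^ i := by
        rw [conj_zpow]; group
      rw [this]
      exact A.mul_mem (Subgroup.mem_sup_left (hZn.conj_mem z hz u)) (A.zpow_mem h1 i)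
    haveI : Fintype A := Fintype.ofFinite A
    obtain ⟨φ, hφ⟩ := Clifford.Basic.exists_constituent_restrict A hξ
    have hcomm : ∀ a b : A, ρ a * ρ b = ρ b * ρ a := by
      have hmem : ∀ a ∈ A, ∃ (c : ℂ) (i : ℤ), ρ a = c • ρ (x ^ i) := by
        intro a ha
        obtain ⟨z, ⟨c, hc⟩, y, hy, rfl⟩ := Subgroup.mem_sup_of_normal_left.mp ha
        obtain ⟨i, rfl⟩ := Subgroup.mem_zpowers_iff.mp hy
        exact ⟨c, i, by rw [map_mul, hc, smul_mul_assoc, one_mul]⟩
      rintro ⟨a, ha⟩ ⟨b, hb⟩
      obtain ⟨c, i, hc⟩ := hmem a ha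
      obtain ⟨d, j, hd⟩ := hmem b hb
      show ρ a * ρ b = ρ b * ρ a
      rw [hc, hd, smul_mul_smul_comm, smul_mul_smul_comm, ← map_mul, ← map_mul, ← zpow_add,
        ← zpow_add, mul_comm c, add_comm]
    haveI := hρ
    obtain ⟨-, hsc⟩ := Clifford.Monomial.scalar_of_commute ρ A φ (by rw [hρc]; exact hφ)
      (hhom A hAn inferInstance φ hφ) hcomm
    obtain ⟨c, hc⟩ := hsc ⟨x, Subgroup.mem_sup_right (Subgroup.mem_zpowers x)⟩
    apply hw
    apply Subtype.ext
    show (w : U ⧸ Z) = 1
    rw [← hx]
    exact (QuotientGroup.eq_one_iff x).mpr ⟨c, hc⟩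
  refine ⟨U, Characters.Linear.degOneHom
    (Characters.Basic.IsCharacter_of_isIrrCharacter hξ) (hlin hZtop), ?_⟩
  rw [← hind]
  rfl

/-- Taketa's theorem. -/
theorem isSolvable_of_monomial
    (hM : ∀ χ : G → ℂ, Cfsg.IsIrrCharacter G χ → ∃ (H : Subgroup G) (lam : H →* ℂˣ),
      χ = Cfsg.indFun H (fun h => (lam h : ℂ))) : Group.IsSolvable G := by
  classical
  have key : ∀ d : ℕ, ∀ χ : Cfsg.IrrCharacter G, ∀ e : ℕ, (χ : G → ℂ) 1 = e → e ≤ d →
      ∀ g ∈ derivedSeries G d, (χ : G → ℂ) g = (χ : G → ℂ) 1 := by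
    intro d
    induction d with
    | zero =>
      intro χ e he hle
      exact absurd (by rw [he, Nat.le_zero.mp hle, Nat.cast_zero])
        (Characters.Basic.apply_one_ne_zero χ)
    | succ d ih =>
      intro χ e he hle g hg
      rcases Nat.lt_or_ge d e with hde | hde
      swap
      · exact ih χ e he hde g (derivedSeries_antitone G (Nat.le_succ d) hg)
      obtain ⟨H, lam, hχ⟩ := hM χ χ.2
      have hidx : H.index = d + 1 := by
        have h := congrFun hχ 1
        rw [indFun_one, map_one, Units.val_one, mul_one, he] at h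
        have : e = H.index := by exact_mod_cast h
        omega
      set D := derivedSeries G d
      have hD : D ≤ H := by
        rcases eq_or_ne H ⊤ with hH | hH
        · rw [hH]; exact le_top
        set π : G → ℂ := Cfsg.indFun H (fun _ => 1)
        have hπ : Cfsg.IsCharacter G π :=
          Character.isCharacter_indFun H Characters.Basic.isCharacter_one
        have h1 : Cfsg.classInner π (Characters.Basic.oneChar G : G → ℂ) = 1 := by
          haveI := Fintype.ofFinite H
          rw [frobenius_reciprocity H _ (Characters.Basic.isClassFunction_irr _)]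
          exact Characters.Basic.classInner_self_irr (Characters.Basic.oneChar H)
        obtain ⟨m, r, hr, hm, hr1, hdec⟩ :=
          Clifford.Basic.exists_eq_nsmul_add hπ (Characters.Basic.oneChar G)
        have hm1 : m = 1 := by
          rw [h1] at hm
          exact_mod_cast hm.symm
        rw [hm1, one_smul] at hdec
        obtain ⟨s, hs⟩ := Characters.Basic.exists_multiset_sum hr
        intro x hx
        have hsv : ∀ y, r y = (s.map fun ψ : Cfsg.IrrCharacter G => (ψ : G → ℂ) y).sum := by
          intro y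
          rw [hs]
          generalize s = t
          induction t using Multiset.induction_on with
          | empty => simp
          | cons c t iht => simp [iht]
        choose deg hdeg0 hdeg using fun ψ : Cfsg.IrrCharacter G =>
          Characters.Basic.exists_degree_pos ψ
        have hr1' : r 1 = ((s.map deg).sum : ℂ) := by
          rw [hsv]
          simp only [hdeg]
          simp [Nat.cast_multiset_sum, Multiset.map_map, Function.comp_def]
        have hrd : (s.map deg).sum = d := by
          have h := congrFun hdec 1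
          rw [show π 1 = (H.index : ℂ) * 1 from indFun_one H _, mul_one, Pi.add_apply, Characters.Basic.oneChar_apply, hidx, hr1', Nat.cast_add,
            Nat.cast_one] at h
          have : ((s.map deg).sum : ℂ) = (d : ℂ) := by linear_combination -h
          exact_mod_cast this
        have hrx : r x = r 1 := by
          rw [hsv, hsv]
          congr 1
          refine Multiset.map_congr rfl fun ψ hψ => ih ψ (deg ψ) (hdeg ψ) ?_ x hx
          rw [← hrd]
          exact Multiset.le_sum_of_mem (Multiset.mem_map_of_mem deg hψ)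
        have hπx : π x = π 1 := by
          rw [hdec, Pi.add_apply, Pi.add_apply, hrx, Characters.Basic.oneChar_apply,
            Characters.Basic.oneChar_apply]
        by_contra hxH
        have hlt : (∑ a : G, if a⁻¹ * x * a ∈ H then (1 : ℝ) else 0) < ∑ a : G, (1 : ℝ) :=
          Finset.sum_lt_sum (fun a _ => by split_ifs <;> norm_num)
            ⟨1, Finset.mem_univ _, by simp [hxH]⟩
        have e1 : π x = (Nat.card H : ℂ)⁻¹ *
            ((∑ a : G, if a⁻¹ * x * a ∈ H then (1 : ℝ) else 0 : ℝ) : ℂ) := by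
          rw [show π x = Cfsg.indFun H (fun _ => 1) x from rfl, indFun_apply,
            Complex.ofReal_sum]
          congr 1
          exact Finset.sum_congr rfl fun a _ => by split_ifs <;> simp
        have e2 : π 1 = (Nat.card H : ℂ)⁻¹ * ((∑ a : G, (1 : ℝ) : ℝ) : ℂ) := by
          rw [show π 1 = Cfsg.indFun H (fun _ => 1) 1 from rfl, indFun_one, mul_one,
            Complex.ofReal_sum, Finset.sum_congr rfl fun a _ => Complex.ofReal_one,
            Finset.sum_const, Finset.card_univ, nsmul_eq_mul, mul_one, Fintype.card_eq_nat_card,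
            ← H.card_mul_index, Nat.cast_mul, ← mul_assoc,
            inv_mul_cancel₀ (subgroup_card_ne_zero H), one_mul]
        rw [e1, e2] at hπx
        exact hlt.ne (Complex.ofReal_injective
          (mul_left_cancel₀ (inv_ne_zero (subgroup_card_ne_zero H)) hπx))
      have hker : ∀ y ∈ derivedSeries G (d + 1), ∀ hy : y ∈ H, lam ⟨y, hy⟩ = 1 := by
        intro y hy hyH
        have hle' : derivedSeries G (d + 1) ≤ (MonoidHom.ker lam).map H.subtype := by
          rw [derivedSeries_succ, Subgroup.commutator_le]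
          intro a ha b hb
          refine ⟨⁅(⟨a, hD ha⟩ : H), ⟨b, hD hb⟩⁆, ?_, map_commutatorElement _ _ _⟩
          rw [SetLike.mem_coe, MonoidHom.mem_ker, map_commutatorElement,
            commutatorElement_eq_one_iff_mul_comm]
          exact mul_comm _ _
        obtain ⟨z, hz, hzy⟩ := hle' hy
        have : z = ⟨y, hyH⟩ := Subtype.ext hzy
        rw [← this]
        exact hz
      have hval : ∀ a : G, Cfsg.extendByZero H (fun h => (lam h : ℂ)) (a⁻¹ * g * a) = 1 := by
        intro a
        have hmem : a⁻¹ * g * a ∈ derivedSeries G (d + 1) := by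
          simpa using (derivedSeries_normal G (d + 1)).conj_mem g hg a⁻¹
        have hH : a⁻¹ * g * a ∈ H := hD (derivedSeries_antitone G (Nat.le_succ d) hmem)
        rw [extendByZero_of_mem H _ hH, hker _ hmem hH, Units.val_one]
      rw [hχ, indFun_one, map_one, Units.val_one, mul_one]
      simp only [Cfsg.indFun, hval, Finset.sum_const, Finset.card_univ, nsmul_eq_mul, mul_one,
        Fintype.card_eq_nat_card]
      rw [← H.card_mul_index, Nat.cast_mul, ← mul_assoc,
        inv_mul_cancel₀ (subgroup_card_ne_zero H), one_mul]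
  haveI := Fintype.ofFinite (Cfsg.IrrCharacter G)
  choose deg _ hdeg using fun ψ : Cfsg.IrrCharacter G => Characters.Basic.exists_degree_pos ψ
  refine ⟨⟨∑ ψ, deg ψ, ?_⟩⟩
  rw [eq_bot_iff]
  intro g hg
  rw [Subgroup.mem_bot]
  exact Characters.Complete.eq_one_of_forall_irr fun χ =>
    key _ χ (deg χ) (hdeg χ)
      (Finset.single_le_sum (fun ψ _ => Nat.zero_le (deg ψ)) (Finset.mem_univ χ)) g hg

end Cfsg.Agent.Lib.Induced.Monomial
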