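import Cfsg.Agent.Lib.Brauer.Monomial
import Cfsg.Agent.Lib.Characters.Complete
import Mathlib

/-!
# Brauer's splitting field theorem

Every character of a finite group of exponent `m` is afforded over `ℚ(ζ_m)`.
-/

namespace Cfsg.Agent.Lib.Induced.SplittingField

open scoped ComplexConjugate
open Cfsg.Agent.Lib
open Cfsg.Agent.Lib.Induced.Basic

universe u v

variable {G : Type u} [Group G]

/-- The field generated by the roots of unity of order the exponent. -/
noncomputable abbrev cycl (G : Type u) [Group G] : IntermediateField ℚ ℂ :=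
  IntermediateField.adjoin ℚ {Complex.exp (2 * Real.pi * Complex.I / (Monoid.exponent G : ℂ))}

section anyField

variable {K : Type v} [Field K]

/-- Equality of characters along an isomorphism intertwining two representations. -/
theorem char_eq_of_equiv {V W : Type*} [AddCommGroup V] [Module K V] [AddCommGroup W] [Module K W]
    (σ : Representation K G V) (τ : Representation K G W) (e : V ≃ₗ[K] W)
    (h : ∀ g v, e (σ g v) = τ g (e v)) : σ.character = τ.character := by
  funext g
  have : τ g = e.conj (σ g) := LinearMap.ext fun w => by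
    rw [LinearEquiv.conj_apply, LinearMap.comp_apply, LinearMap.comp_apply, LinearEquiv.coe_coe,
      LinearEquiv.coe_coe, h, LinearEquiv.apply_symm_apply]
  rw [Representation.character, Representation.character, this, LinearMap.trace_conj']

/-- Transport to coordinates. -/
theorem exists_fin {V : Type*} [AddCommGroup V] [Module K V] [FiniteDimensional K V]
    (σ : Representation K G V) :
    ∃ τ : Representation K G (Fin (Module.finrank K V) → K), τ.character = σ.character := by
  let e := (Module.finBasis K V).equivFun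
  let τ : Representation K G (Fin (Module.finrank K V) → K) :=
    { toFun := fun g => e.conj (σ g)
      map_one' := by ext v; simp [LinearEquiv.conj_apply]
      map_mul' := fun g g' => by ext v; simp [LinearEquiv.conj_apply] }
  exact ⟨τ, (char_eq_of_equiv σ τ e fun g v => by simp [τ, LinearEquiv.conj_apply]).symm⟩

theorem char_prod {V W : Type*} [AddCommGroup V] [Module K V] [FiniteDimensional K V]
    [AddCommGroup W] [Module K W] [FiniteDimensional K W]
    (σ : Representation K G V) (τ : Representation K G W) :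
    (σ.prod τ).character = σ.character + τ.character :=
  funext fun g => LinearMap.trace_prodMap' (σ g) (τ g)

theorem char_add_of_isCompl {V : Type*} [AddCommGroup V] [Module K V] [FiniteDimensional K V]
    (ρ : Representation K G V) (p q : Subrepresentation ρ)
    (h : IsCompl p.toSubmodule q.toSubmodule) :
    ρ.character = p.toRepresentation.character + q.toRepresentation.character := by
  rw [← char_prod]
  refine (char_eq_of_equiv _ ρ (Submodule.prodEquivOfIsCompl _ _ h) fun g y => ?_).symm
  rw [Submodule.coe_prodEquivOfIsCompl' _ _ h, Submodule.coe_prodEquivOfIsCompl' _ _ h, map_add]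
  rfl

open scoped Classical in
/-- A linear character extended by zero. -/
noncomputable def ext0 (H : Subgroup G) (lam : H →* K) (x : G) : K :=
  if hx : x ∈ H then lam ⟨x, hx⟩ else 0

theorem ext0_of_mem (H : Subgroup G) (lam : H →* K) {x : G} (hx : x ∈ H) :
    ext0 H lam x = lam ⟨x, hx⟩ := by
  rw [ext0, dif_pos hx]

theorem ext0_mul (H : Subgroup G) (lam : H →* K) {x y : G} (hx : x ∈ H) (hy : y ∈ H) :
    ext0 H lam (x * y) = ext0 H lam x * ext0 H lam y := by
  rw [ext0_of_mem H lam hx, ext0_of_mem H lam hy, ext0_of_mem H lam (H.mul_mem hx hy), ← map_mul]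
  rfl

theorem out_inv_mul_mem (H : Subgroup G) (g : G) (q : G ⧸ H) :
    q.out⁻¹ * g * (g⁻¹ • q).out ∈ H := by
  rw [mul_assoc]
  apply QuotientGroup.eq.mp
  rw [← smul_eq_mul g, ← MulAction.Quotient.smul_mk, QuotientGroup.out_eq',
    QuotientGroup.out_eq', smul_inv_smul]

/-- Monomial representation induced from a linear character. -/
noncomputable def monRep (H : Subgroup G) (lam : H →* K) : Representation K G (G ⧸ H → K) where
  toFun g :=
    { toFun := fun f q => ext0 H lam (q.out⁻¹ * g * (g⁻¹ • q).out) * f (g⁻¹ • q)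
      map_add' := fun f f' => by ext q; simp [mul_add]
      map_smul' := fun c f => by ext q; simp [mul_left_comm] }
  map_one' := by
    refine LinearMap.ext fun f => funext fun q => ?_
    show ext0 H lam (q.out⁻¹ * 1 * ((1 : G)⁻¹ • q).out) * f ((1 : G)⁻¹ • q) = f q
    rw [inv_one, one_smul, mul_one, inv_mul_cancel, ext0_of_mem H lam H.one_mem]
    show lam 1 * f q = f q
    rw [map_one, one_mul]
  map_mul' g g' := by
    refine LinearMap.ext fun f => funext fun q => ?_
    show ext0 H lam (q.out⁻¹ * (g * g') * ((g * g')⁻¹ • q).out) * f ((g * g')⁻¹ • q) =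
      ext0 H lam (q.out⁻¹ * g * (g⁻¹ • q).out) *
        (ext0 H lam ((g⁻¹ • q).out⁻¹ * g' * (g'⁻¹ • g⁻¹ • q).out) * f (g'⁻¹ • g⁻¹ • q))
    rw [← mul_assoc (ext0 H lam _), ← ext0_mul H lam (out_inv_mul_mem H g q)
      (out_inv_mul_mem H g' (g⁻¹ • q)), mul_inv_rev g g', mul_smul]
    congr 2
    group

theorem monRep_character [Finite G] (H : Subgroup G) [DecidablePred (· ∈ H)] (lam : H →* K)
    [Fintype (G ⧸ H)] (g : G) :
    (monRep H lam).character g = ∑ q : G ⧸ H,
      if hq : q.out⁻¹ * g * q.out ∈ H then lam ⟨_, hq⟩ else 0 := by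
  classical
  rw [Representation.character, LinearMap.trace_eq_matrix_trace K (Pi.basisFun K (G ⧸ H)),
    Matrix.trace]
  refine Finset.sum_congr rfl fun q _ => ?_
  rw [Matrix.diag_apply, LinearMap.toMatrix_apply, Pi.basisFun_repr, Pi.basisFun_apply]
  show ext0 H lam (q.out⁻¹ * g * (g⁻¹ • q).out) *
    (Pi.single q (1 : K) : G ⧸ H → K) (g⁻¹ • q) = _
  have hiff : g⁻¹ • q = q ↔ q.out⁻¹ * g * q.out ∈ H := by
    rw [inv_smul_eq_iff, mul_assoc, ← QuotientGroup.eq, ← smul_eq_mul g,
      ← MulAction.Quotient.smul_mk, QuotientGroup.out_eq']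
  by_cases hq : g⁻¹ • q = q
  · have hmem := hiff.mp hq
    rw [hq, Pi.single_eq_same, mul_one, dif_pos hmem, ext0_of_mem H lam hmem]
  · rw [dif_neg (mt hiff.mpr hq), Pi.single_eq_of_ne hq, mul_zero]

end anyField

/-- The induced function as a sum over cosets. -/
theorem indFun_eq_sum_out [Fintype G] (H : Subgroup G) [Fintype (G ⧸ H)] {θ : H → ℂ}
    (hθ : Cfsg.IsClassFunction H θ) (g : G) :
    Cfsg.indFun H θ g = ∑ q : G ⧸ H, Cfsg.extendByZero H θ (q.out⁻¹ * g * q.out) := by
  classical
  rw [Cfsg.indFun, ← Finset.sum_fiberwise (Finset.univ : Finset G) (fun x => (x : G ⧸ H)),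
    Finset.mul_sum]
  refine Finset.sum_congr rfl fun q _ => ?_
  rw [Finset.sum_congr rfl (g := fun _ => Cfsg.extendByZero H θ (q.out⁻¹ * g * q.out))
    fun x hx => ?_, Finset.sum_const, nsmul_eq_mul, ← mul_assoc]
  · rw [← Fintype.card_subtype, ← Nat.card_eq_fintype_card,
      Nat.card_congr (α := {x : G // (x : G ⧸ H) = q}) (β := H)
        { toFun := fun x => ⟨q.out⁻¹ * x.1,
            QuotientGroup.eq.mp (by rw [QuotientGroup.out_eq' q]; exact x.2.symm)⟩
          invFun := fun z => ⟨q.out * z, by
            rw [QuotientGroup.mk_mul_of_mem _ z.2]; exact QuotientGroup.out_eq' q⟩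
          left_inv := fun x => Subtype.ext (mul_inv_cancel_left _ _)
          right_inv := fun z => Subtype.ext (inv_mul_cancel_left _ _) },
      inv_mul_cancel₀ (subgroup_card_ne_zero H), one_mul]
  · have hmem : x⁻¹ * q.out ∈ H := QuotientGroup.eq.mp (by
      rw [QuotientGroup.out_eq' q]; exact (Finset.mem_filter.mp hx).2)
    rw [← extendByZero_conj_of_mem H hθ hmem (q.out⁻¹ * g * q.out)]
    congr 1
    group

variable [Finite G]

theorem isPrimitiveRoot_zeta :
    IsPrimitiveRoot (Complex.exp (2 * Real.pi * Complex.I / (Monoid.exponent G : ℂ)))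
      (Monoid.exponent G) :=
  Complex.isPrimitiveRoot_exp _ Monoid.exponent_ne_zero_of_finite

theorem cycl_toSubalgebra :
    (cycl G).toSubalgebra = Algebra.adjoin ℚ
      {Complex.exp (2 * Real.pi * Complex.I / (Monoid.exponent G : ℂ))} := by
  refine IntermediateField.adjoin_simple_toSubalgebra_of_isAlgebraic (IsIntegral.isAlgebraic ?_)
  exact (isPrimitiveRoot_zeta (G := G)).isIntegral
    (Nat.pos_of_ne_zero Monoid.exponent_ne_zero_of_finite) |>.tower_top

theorem hom_mem_cycl (H : Subgroup G) (l : H →* ℂ) (h : H) : l h ∈ cycl G := by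
  have h1 : (h : H) ^ Monoid.exponent G = 1 :=
    Subtype.ext (by simp [Monoid.pow_exponent_eq_one])
  haveI : NeZero (Monoid.exponent G) := ⟨Monoid.exponent_ne_zero_of_finite⟩
  obtain ⟨i, -, hi⟩ := (isPrimitiveRoot_zeta (G := G)).eq_pow_of_pow_eq_one (ξ := l h)
    (by rw [← map_pow, h1, map_one])
  rw [← hi]
  exact pow_mem (IntermediateField.subset_adjoin ℚ _ (Set.mem_singleton _)) i

/-- `χ` is the character of a representation over `ℚ(ζ)`. -/
def IsReal' (χ : G → ℂ) : Prop :=
  ∃ (n : ℕ) (σ : Representation (cycl G) G (Fin n → cycl G)),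
    χ = fun g => ((σ.character g : cycl G) : ℂ)

omit [Finite G] in
theorem IsReal'.of_rep {V : Type*} [AddCommGroup V] [Module (cycl G) V]
    [FiniteDimensional (cycl G) V] (σ : Representation (cycl G) G V) :
    IsReal' (fun g => ((σ.character g : cycl G) : ℂ)) := by
  obtain ⟨τ, hτ⟩ := exists_fin σ
  exact ⟨_, τ, by rw [hτ]⟩

omit [Finite G] in
theorem IsReal'.zero : IsReal' (0 : G → ℂ) := by
  refine ⟨0, 1, funext fun g => ?_⟩
  rw [Representation.character, Subsingleton.elim ((1 : Representation (cycl G) G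
    (Fin 0 → cycl G)) g) 0, map_zero]
  rfl

omit [Finite G] in
theorem IsReal'.add {χ ψ : G → ℂ} (h : IsReal' χ) (h' : IsReal' ψ) : IsReal' (χ + ψ) := by
  obtain ⟨n, σ, rfl⟩ := h
  obtain ⟨m, τ, rfl⟩ := h'
  have := IsReal'.of_rep (σ.prod τ)
  rw [char_prod] at this
  convert this using 2 with g
  simp

theorem isReal'_indFun [Fintype G] (H : Subgroup G) (l : H →* ℂ) :
    IsReal' (Cfsg.indFun H l) := by
  classical
  haveI := Fintype.ofFinite (G ⧸ H)
  let l' : H →* cycl G :=
    { toFun := fun h => ⟨l h, hom_mem_cycl H l h⟩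
      map_one' := Subtype.ext (map_one l)
      map_mul' := fun a b => Subtype.ext (map_mul l a b) }
  convert IsReal'.of_rep (monRep H l') using 1
  funext g
  have hl : Cfsg.IsClassFunction H l := fun a b => by
    rw [map_mul, map_mul, mul_comm (l b), mul_assoc, ← map_mul, mul_inv_cancel, map_one, mul_one]
  rw [indFun_eq_sum_out H hl, monRep_character]
  push_cast
  refine Finset.sum_congr rfl fun q _ => ?_
  by_cases hq : q.out⁻¹ * g * q.out ∈ H
  · rw [extendByZero_of_mem H _ hq, dif_pos hq]
    rfl
  · rw [extendByZero_of_not_mem H _ hq, dif_neg hq]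
    rfl

/-- Difference of two realisable characters. -/
theorem exists_sub {χ : G → ℂ} (hχ : Cfsg.IsCharacter G χ) :
    ∃ a b : G → ℂ, IsReal' a ∧ IsReal' b ∧ χ = a - b := by
  haveI := Fintype.ofFinite G
  let S : AddSubgroup (G → ℂ) :=
    { carrier := {f | ∃ a b : G → ℂ, IsReal' a ∧ IsReal' b ∧ f = a - b}
      zero_mem' := ⟨0, 0, IsReal'.zero, IsReal'.zero, (sub_zero 0).symm⟩
      add_mem' := by
        rintro _ _ ⟨a, b, ha, hb, rfl⟩ ⟨a', b', ha', hb', rfl⟩
        exact ⟨a + a', b + b', ha.add ha', hb.add hb', by abel⟩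
      neg_mem' := by
        rintro _ ⟨a, b, ha, hb, rfl⟩
        exact ⟨b, a, hb, ha, neg_sub a b⟩ }
  suffices Submodule.span ℤ (Brauer.Elementary.monoSet (Brauer.Elementary.IsElem (G := G))) ≤
      AddSubgroup.toIntSubmodule S from this (Brauer.Monomial.char_mem hχ)
  rw [Submodule.span_le]
  rintro _ ⟨H, -, l, rfl⟩
  exact ⟨_, 0, isReal'_indFun H l, IsReal'.zero, (sub_zero _).symm⟩

set_option maxHeartbeats 1000000 in
/-- An irreducible character is afforded over `ℚ(ζ)`. -/
theorem isReal'_irr (χ : Cfsg.IrrCharacter G) : IsReal' (χ : G → ℂ) := by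
  classical
  haveI := Fintype.ofFinite G
  have hex : ∃ k : ℕ, ∃ (n m : ℕ) (σ : Representation (cycl G) G (Fin n → cycl G))
      (τ : Representation (cycl G) G (Fin m → cycl G)), n + m = k ∧
      (χ : G → ℂ) = (fun g => ((σ.character g : cycl G) : ℂ)) -
        (fun g => ((τ.character g : cycl G) : ℂ)) := by
    obtain ⟨a, b, ⟨n, σ, rfl⟩, ⟨m, τ, rfl⟩, h⟩ :=
      exists_sub (Characters.Basic.isCharacter_irr χ)
    exact ⟨_, n, m, σ, τ, rfl, h⟩
  obtain ⟨n, m, σ, τ, hk, hχ⟩ := Nat.find_spec hex
  have hne : NeZero (Nat.card G : cycl G) := ⟨Nat.cast_ne_zero.mpr Nat.card_pos.ne'⟩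
  letI : Invertible (Nat.card G : cycl G) := invertibleOfNonzero hne.out
  -- no common constituent
  have hzero : Subsingleton (Representation.IntertwiningMap σ τ) := by
    by_contra hns
    rw [not_subsingleton_iff_nontrivial] at hns
    obtain ⟨f, hf⟩ := exists_ne (0 : Representation.IntertwiningMap σ τ)
    have hint : ∀ g v, f.toLinearMap (σ g v) = τ g (f.toLinearMap v) := fun g v =>
      congrArg (fun F : (Fin n → cycl G) →ₗ[cycl G] (Fin m → cycl G) => F v) (f.isIntertwining' g)
    let k : Subrepresentation σ := ⟨LinearMap.ker f.toLinearMap, fun g v hv => by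
      rw [LinearMap.mem_ker] at hv ⊢
      rw [hint, hv, map_zero]⟩
    let r : Subrepresentation τ := ⟨LinearMap.range f.toLinearMap, by
      rintro g _ ⟨v, rfl⟩
      exact ⟨σ g v, hint g v⟩⟩
    obtain ⟨c, hc⟩ := exists_isCompl k
    obtain ⟨d, hd⟩ := exists_isCompl r
    have hc' : IsCompl k.toSubmodule c.toSubmodule :=
      ⟨disjoint_iff.mpr (congrArg Subrepresentation.toSubmodule hc.1.eq_bot),
        codisjoint_iff.mpr (congrArg Subrepresentation.toSubmodule hc.2.eq_top)⟩
    have hd' : IsCompl r.toSubmodule d.toSubmodule :=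
      ⟨disjoint_iff.mpr (congrArg Subrepresentation.toSubmodule hd.1.eq_bot),
        codisjoint_iff.mpr (congrArg Subrepresentation.toSubmodule hd.2.eq_top)⟩
    let F : c.toSubmodule →ₗ[cycl G] r.toSubmodule :=
      (f.toLinearMap.comp c.toSubmodule.subtype).codRestrict r.toSubmodule fun v => ⟨_, rfl⟩
    have hF : Function.Bijective F := by
      constructor
      · rw [injective_iff_map_eq_zero]
        intro v hv
        have hv' : f.toLinearMap v = 0 := congrArg Subtype.val hv
        exact Subtype.ext ((Submodule.mem_bot _).mp (hc'.disjoint.le_bot ⟨hv', v.2⟩))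
      · rintro ⟨_, v, rfl⟩
        obtain ⟨a, ha, b, hb, rfl⟩ := Submodule.mem_sup.mp
          (hc'.codisjoint.eq_top ▸ Submodule.mem_top (x := v))
        refine ⟨⟨b, hb⟩, Subtype.ext ?_⟩
        show f.toLinearMap b = f.toLinearMap (a + b)
        rw [map_add, LinearMap.mem_ker.mp ha, zero_add]
    have hcr : c.toRepresentation.character = r.toRepresentation.character :=
      char_eq_of_equiv _ _ (LinearEquiv.ofBijective F hF) fun g v => Subtype.ext (hint g v)
    obtain ⟨σ', hσ'⟩ := exists_fin k.toRepresentation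
    obtain ⟨τ', hτ'⟩ := exists_fin d.toRepresentation
    refine Nat.find_min hex (m := Module.finrank (cycl G) k.toSubmodule +
      Module.finrank (cycl G) d.toSubmodule) ?_ ⟨_, _, σ', τ', rfl, ?_⟩
    · rw [← hk]
      have h1 := Submodule.finrank_add_eq_of_isCompl hd'
      have h2 := Submodule.finrank_le k.toSubmodule
      rw [Module.finrank_fin_fun] at h1 h2
      have h3 : 0 < Module.finrank (cycl G) r.toSubmodule := by
        refine Nat.pos_of_ne_zero fun h0 => hf ?_
        have h4 : LinearMap.range f.toLinearMap = ⊥ := Submodule.finrank_eq_zero.mp h0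
        exact Representation.IntertwiningMap.ext (LinearMap.range_eq_bot.mp h4)
      omega
    · rw [hχ, hσ', hτ', char_add_of_isCompl σ k c hc', char_add_of_isCompl τ r d hd', hcr]
      funext g
      simp only [Pi.sub_apply, Pi.add_apply]
      push_cast
      ring
  -- norms
  have hS : ∀ {p q : ℕ} (a : Representation (cycl G) G (Fin p → cycl G))
      (b : Representation (cycl G) G (Fin q → cycl G)),
      (Nat.card G : ℂ)⁻¹ * ∑ g : G, ((b.character g : cycl G) : ℂ) *
        ((a.character g⁻¹ : cycl G) : ℂ) =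
        (Module.finrank (cycl G) (Representation.IntertwiningMap a b) : ℂ) := by
    intro p q a b
    have h := congrArg (fun x : cycl G => (x : ℂ))
      (Representation.card_inv_mul_sum_char_mul_char_eq_finrank a b)
    push_cast at h
    exact h
  have hst : ∑ g : G, ((τ.character g : cycl G) : ℂ) * ((σ.character g⁻¹ : cycl G) : ℂ) = 0 := by
    have h := hS σ τ
    rw [Module.finrank_zero_of_subsingleton, Nat.cast_zero, mul_eq_zero] at h
    exact h.resolve_left (inv_ne_zero natCard_ne_zero)
  have hts : ∑ g : G, ((σ.character g : cycl G) : ℂ) * ((τ.character g⁻¹ : cycl G) : ℂ) = 0 := by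
    rw [← hst]
    exact Fintype.sum_equiv (Equiv.inv G) _ _ fun g => by simp [mul_comm]
  have hnorm : (1 : ℂ) = (Module.finrank (cycl G) (Representation.IntertwiningMap σ σ) : ℂ) +
      (Module.finrank (cycl G) (Representation.IntertwiningMap τ τ) : ℂ) := by
    rw [← Characters.Basic.classInner_self_irr χ, ← hS σ σ, ← hS τ τ, ← mul_add,
      ← Finset.sum_add_distrib, Cfsg.classInner]
    congr 1
    have e : ∀ g, (χ : G → ℂ) g * conj ((χ : G → ℂ) g) =
        ((σ.character g : cycl G) : ℂ) * ((σ.character g⁻¹ : cycl G) : ℂ) +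
        ((τ.character g : cycl G) : ℂ) * ((τ.character g⁻¹ : cycl G) : ℂ) -
        ((τ.character g : cycl G) : ℂ) * ((σ.character g⁻¹ : cycl G) : ℂ) -
        ((σ.character g : cycl G) : ℂ) * ((τ.character g⁻¹ : cycl G) : ℂ) := by
      intro g
      rw [← Characters.Basic.apply_inv (Characters.Basic.isCharacter_irr χ), hχ]
      simp only [Pi.sub_apply]
      ring
    rw [Finset.sum_congr rfl fun g _ => e g, Finset.sum_sub_distrib, Finset.sum_sub_distrib,
      hst, hts, sub_zero, sub_zero]
  have hpos : ∀ {p : ℕ} (a : Representation (cycl G) G (Fin p → cycl G)), p ≠ 0 →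
      0 < Module.finrank (cycl G) (Representation.IntertwiningMap a a) := by
    intro p a hp
    haveI : Nontrivial (Fin p → cycl G) :=
      Module.nontrivial_of_finrank_pos (R := cycl G) (by
        rw [Module.finrank_fin_fun]; exact Nat.pos_of_ne_zero hp)
    obtain ⟨x, hx⟩ := exists_ne (0 : Fin p → cycl G)
    rw [Module.finrank_pos_iff]
    exact ⟨Representation.IntertwiningMap.id _, 0, fun h0 => hx (congrArg (fun f => f x) h0)⟩
  have hsum : Module.finrank (cycl G) (Representation.IntertwiningMap σ σ) +
      Module.finrank (cycl G) (Representation.IntertwiningMap τ τ) = 1 := by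
    exact_mod_cast hnorm.symm
  obtain ⟨d, hd0, hd⟩ := Characters.Basic.exists_degree_pos χ
  have h1 := congrFun hχ 1
  simp only [Pi.sub_apply, Representation.char_one, Module.finrank_fin_fun, hd] at h1
  push_cast at h1
  have hdeg : d + m = n := by
    have : (d : ℂ) + (m : ℂ) = (n : ℂ) := by rw [h1]; ring
    exact_mod_cast this
  have hm : m = 0 := by
    by_contra hm
    have := hpos τ hm
    have := hpos σ (by omega)
    omega
  subst hm
  refine ⟨n, σ, ?_⟩
  rw [hχ]
  funext g
  rw [Pi.sub_apply, Representation.character, Representation.character,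
    Subsingleton.elim (τ g) 0, map_zero]
  simp

theorem isReal'_character {χ : G → ℂ} (hχ : Cfsg.IsCharacter G χ) : IsReal' χ :=
  Characters.Basic.character_induction IsReal'.zero
    (fun a _ _ h => (isReal'_irr a).add h) hχ

/-- Brauer's splitting field theorem. -/
theorem exists_rep_cycl (n : ℕ) (ρ : Representation ℂ G (Fin n → ℂ)) :
    ∃ σ : Representation ℂ G (Fin n → ℂ), Nonempty (ρ.Equiv σ) ∧ ∀ g : G, ∀ i j : Fin n,
      LinearMap.toMatrix' (σ g) i j ∈ Algebra.adjoin ℚ
        ({Complex.exp (2 * Real.pi * Complex.I / (Monoid.exponent G : ℂ))} : Set ℂ) := by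
  obtain ⟨m, σ, hσ⟩ := isReal'_character (χ := ρ.character) ⟨n, ρ, rfl⟩
  have h1 := congrFun hσ 1
  rw [Representation.char_one, Representation.char_one, Module.finrank_fin_fun,
    Module.finrank_fin_fun] at h1
  push_cast at h1
  obtain rfl : n = m := Nat.cast_injective h1
  let φ : cycl G →+* ℂ := (cycl G).val
  let M : G → Matrix (Fin n) (Fin n) ℂ := fun g => φ.mapMatrix (LinearMap.toMatrix' (σ g))
  let σC : Representation ℂ G (Fin n → ℂ) :=
    { toFun := fun g => Matrix.toLin' (M g)
      map_one' := by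
        simp only [M, map_one, LinearMap.toMatrix'_one]
        exact Matrix.toLin'_one
      map_mul' := fun a b => by
        simp only [M, map_mul, LinearMap.toMatrix'_mul]
        exact Matrix.toLin'_mul _ _ }
  refine ⟨σC, Characters.Complete.nonempty_equiv_of_char_eq ρ σC ?_, fun g i j => ?_⟩
  · rw [hσ]
    funext g
    show _ = LinearMap.trace ℂ _ (Matrix.toLin' (M g))
    rw [Matrix.trace_toLin'_eq]
    show (cycl G).val (LinearMap.trace (cycl G) _ (σ g)) = _
    rw [LinearMap.trace_eq_matrix_trace (cycl G) (Pi.basisFun (cycl G) (Fin n)),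
      LinearMap.toMatrix_eq_toMatrix']
    exact AddMonoidHom.map_trace φ.toAddMonoidHom (LinearMap.toMatrix' (σ g))
  · rw [← cycl_toSubalgebra]
    show LinearMap.toMatrix' (Matrix.toLin' (M g)) i j ∈ cycl G
    rw [LinearMap.toMatrix'_toLin']
    exact (LinearMap.toMatrix' (σ g) i j).2

end Cfsg.Agent.Lib.Induced.SplittingField
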