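import Cfsg.Agent.Lib.Induced.CNContradiction
import Cfsg.Agent.Lib.CNGroup.MinSimple
import Cfsg.Agent.Lib.CNGroup.Quotient

/-!
# The Feit-Hall-Thompson theorem: CN-groups of odd order are solvable
-/

namespace Cfsg.Agent.Lib.Induced.CNTheorem

open Cfsg.Agent.Lib.CNGroup

universe u

theorem not_minSimple_cn {G : Type u} [Group G] [Finite G] (hG : Cfsg.IsMinSimpleOddOrder G)
    (hCN : Cfsg.IsCNGroup G) : False := by
  classical
  have : Nontrivial G := (hG.2.1).toNontrivial
  let r : {H : Subgroup G // MaxNilpotent.IsMaxNilpotent H} →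
      {H : Subgroup G // MaxNilpotent.IsMaxNilpotent H} → Prop :=
    fun H K => ∃ g : G, K.1 = H.1.map (MulAut.conj g).toMonoidHom
  have hmap : ∀ (K : Subgroup G) (a b : G),
      (K.map (MulAut.conj a).toMonoidHom).map (MulAut.conj b).toMonoidHom =
        K.map (MulAut.conj (b * a)).toMonoidHom := by
    intro K a b
    ext x
    simp only [MaxNilpotent.mem_conj_map, mul_inv_rev, mul_assoc]
  have hr : Equivalence r := by
    refine ⟨fun H => ⟨1, ?_⟩, fun {H K} h => ?_, fun {H K L} h h' => ?_⟩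
    · ext x; simp only [MaxNilpotent.mem_conj_map, inv_one, one_mul, mul_one]
    · obtain ⟨g, hg⟩ := h
      refine ⟨g⁻¹, ?_⟩
      ext x
      simp only [hg, MaxNilpotent.mem_conj_map]
      simp [mul_assoc]
    · obtain ⟨g, hg⟩ := h
      obtain ⟨g', hg'⟩ := h'
      exact ⟨g' * g, by rw [hg', hg, hmap]⟩
  let s : Setoid {H : Subgroup G // MaxNilpotent.IsMaxNilpotent H} := ⟨r, hr⟩
  have : Finite (Quotient s) := Quotient.finite s
  let H : Quotient s → Subgroup G := fun q => q.out.1
  have hH : ∀ q, MaxNilpotent.IsMaxNilpotent (H q) := fun q => q.out.2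
  refine CNContradiction.not_nilpotent_TI_partition hG.1 H (fun q => (hH q).1)
    (fun q => MinSimple.ne_bot hG (hH q)) (fun q g hg x hx hgx => ?_)
    (fun q x hx hx1 => MinSimple.centralizer_le hG hCN (hH q) hx hx1)
    (fun q => MinSimple.normalizer_ne_self hG hCN (hH q)) (fun q q' hne => ?_) (fun x _ => ?_)
  · have hne : (H q).map (MulAut.conj g).toMonoidHom ≠ H q :=
      fun h => hg (MinSimple.mem_normalizer_iff_map_eq.mpr h)
    have hmem : g * x * g⁻¹ ∈ H q ⊓ (H q).map (MulAut.conj g).toMonoidHom :=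
      ⟨hgx, MaxNilpotent.mem_conj_map.mpr (by simpa [mul_assoc] using hx)⟩
    rw [MinSimple.ti hG hCN (hH q) g hne, Subgroup.mem_bot] at hmem
    exact conj_eq_one_iff.mp hmem
  · by_contra hc
    obtain ⟨p, hp, hd1, hd2⟩ := Nat.Prime.not_coprime_iff_dvd.mp hc
    obtain ⟨g, hg⟩ := MinSimple.conj_of_common_prime hG hCN (hH q) (hH q') hp hd1 hd2
    exact hne (Quotient.out_equiv_out.mp ⟨g, hg⟩)
  · obtain ⟨K, hK, hle⟩ := MaxNilpotent.exists_maxNilpotent_ge
      (K := Subgroup.zpowers x) (Basic.isNilpotent_of_commute fun _ _ _ _ a b _ _ _ _ _ =>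
        (IsCyclic.commGroup (α := Subgroup.zpowers x)).mul_comm a b)
    obtain ⟨g, hg⟩ := Quotient.mk_out (s := s) ⟨K, hK⟩
    refine ⟨Quotient.mk s ⟨K, hK⟩, g⁻¹, ?_⟩
    have hx : x ∈ (H (Quotient.mk s ⟨K, hK⟩)).map (MulAut.conj g).toMonoidHom :=
      hg ▸ hle (Subgroup.mem_zpowers x)
    simpa using MaxNilpotent.mem_conj_map.mp hx

theorem isSolvable_aux : ∀ (n : ℕ) (G : Type u) [Group G] [Finite G], Nat.card G = n →
    Odd (Nat.card G) → Cfsg.IsCNGroup G → Group.IsSolvable G := by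
  intro n
  induction n using Nat.strong_induction_on with
  | _ n ih =>
  intro G _ _ hn hodd hCN
  subst hn
  have hsub : ∀ H : Subgroup G, H ≠ ⊤ → Group.IsSolvable H := by
    intro H hH
    refine ih _ ?_ H rfl (hodd.of_dvd_nat H.card_subgroup_dvd_card) (Basic.isCNGroup_subgroup hCN H)
    refine lt_of_le_of_ne (Nat.le_of_dvd Nat.card_pos H.card_subgroup_dvd_card) fun he => hH ?_
    exact Subgroup.eq_top_of_card_eq H he
  rcases subsingleton_or_nontrivial G with hss | hnt
  · exact Group.isSolvable_of_comm fun a b => Subsingleton.elim _ _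
  by_cases hsimple : ∃ N : Subgroup G, N.Normal ∧ N ≠ ⊥ ∧ N ≠ ⊤
  · obtain ⟨N, hN, hbot, htop⟩ := hsimple
    have hNs := hsub N htop
    have hquot : Nat.card (G ⧸ N) < Nat.card G := Cfsg.Agent.Lib.Hall.card_quotient_lt hbot
    have := ih _ hquot (G ⧸ N) rfl (hodd.of_dvd_nat (Subgroup.card_quotient_dvd_card N))
      (Quotient.isCNGroup_quotient hCN N hNs)
    exact Group.isSolvable_of_ker_le_range N.subtype (QuotientGroup.mk' N)
      (by rw [QuotientGroup.ker_mk', Subgroup.range_subtype])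
  · push Not at hsimple
    have hs : IsSimpleGroup G := ⟨fun N hN => by
      by_cases h : N = ⊥
      · exact Or.inl h
      · exact Or.inr (hsimple N hN h)⟩
    by_contra hns
    refine not_minSimple_cn ⟨hodd, hs, fun hc => hns ?_, hsub⟩ hCN
    exact Group.isSolvable_of_comm fun a b => hc.is_comm.comm a b

theorem isSolvable_of_odd_cn {G : Type u} [Group G] [Finite G] (hodd : Odd (Nat.card G))
    (hCN : Cfsg.IsCNGroup G) : Group.IsSolvable G :=
  isSolvable_aux _ G rfl hodd hCN

end Cfsg.Agent.Lib.Induced.CNTheorem
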