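import Cfsg.Agent.Lib.Induced.Generalized
import Cfsg.Agent.Lib.Characters.Linear

/-!
# Artin's induction theorem
-/

namespace Cfsg.Agent.Lib.Induced.ArtinInduction

open scoped ComplexConjugate
open Cfsg.Agent.Lib
open Cfsg.Agent.Lib.Induced.Basic

universe u

open scoped Classical in
/-- `|A|` on the generators of `A` and zero elsewhere. -/
noncomputable def genFun (A : Type u) [Group A] : A → ℂ :=
  fun a => if Subgroup.zpowers a = ⊤ then (Nat.card A : ℂ) else 0

theorem zpowers_eq_top_iff {G : Type u} [Group G] (B : Subgroup G) (b : B) :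
    Subgroup.zpowers b = ⊤ ↔ Subgroup.zpowers (b : G) = B := by
  rw [← (Subgroup.map_injective (Subgroup.subtype_injective B)).eq_iff, MonoidHom.map_zpowers,
    ← MonoidHom.range_eq_map, Subgroup.range_subtype]
  rfl

/-- The functions induced from `genFun` of all subgroups add up to the constant `|G|`. -/
theorem sum_indFun_genFun {G : Type u} [Group G] [Fintype G] [Fintype (Subgroup G)] (g : G) :
    ∑ B : Subgroup G, Cfsg.indFun B (genFun B) g = (Nat.card G : ℂ) := by
  classical
  have h : ∀ (B : Subgroup G) (x : G), Cfsg.extendByZero B (genFun B) (x⁻¹ * g * x) =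
      if Subgroup.zpowers (x⁻¹ * g * x) = B then (Nat.card B : ℂ) else 0 := by
    intro B x
    by_cases hx : x⁻¹ * g * x ∈ B
    · rw [extendByZero_of_mem B _ hx, genFun]
      simp only [zpowers_eq_top_iff]
    · rw [extendByZero_of_not_mem B _ hx, if_neg]
      intro e
      exact hx (by rw [← e]; exact Subgroup.mem_zpowers (x⁻¹ * g * x))
  simp only [Cfsg.indFun, h, Finset.mul_sum, mul_ite, mul_zero]
  rw [Finset.sum_comm]
  simp only [Finset.sum_ite_eq, Finset.mem_univ, if_true,
    inv_mul_cancel₀ (subgroup_card_ne_zero _), Finset.sum_const, Finset.card_univ, nsmul_eq_mul,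
    mul_one, Fintype.card_eq_nat_card]

/-- `genFun` is a generalized character. -/
theorem isGen_genFun : ∀ (A : Type u) [Group A] [Finite A],
    Cfsg.IsGeneralizedCharacter A (genFun A) := by
  suffices H : ∀ n, ∀ (A : Type u) [Group A] [Finite A], Nat.card A = n →
      Cfsg.IsGeneralizedCharacter A (genFun A) from fun A _ _ => H _ A rfl
  intro n
  induction n using Nat.strong_induction_on with
  | _ n ih =>
    intro A _ _ hA
    classical
    haveI := Fintype.ofFinite A
    haveI := Fintype.ofFinite (Subgroup A)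
    have htop : Cfsg.indFun (⊤ : Subgroup A) (genFun (⊤ : Subgroup A)) = genFun A := by
      funext a
      have h : ∀ x : A, Cfsg.extendByZero (⊤ : Subgroup A) (genFun (⊤ : Subgroup A))
          (x⁻¹ * a * x) = genFun A a := by
        intro x
        rw [extendByZero_of_mem _ _ (Subgroup.mem_top _), genFun, genFun, Subgroup.card_top]
        refine if_congr ?_ rfl rfl
        rw [zpowers_eq_top_iff]
        have h' := (Subgroup.map_injective (f := (MulAut.conj x⁻¹).toMonoidHom)
          (MulAut.conj x⁻¹).injective).eq_iff (a := Subgroup.zpowers a) (b := ⊤)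
        rw [MonoidHom.map_zpowers,
          Subgroup.map_top_of_surjective _ (MulAut.conj x⁻¹).surjective] at h'
        simpa [mul_assoc] using h' 
      simp only [Cfsg.indFun, h, Finset.sum_const, Finset.card_univ, nsmul_eq_mul,
        Subgroup.card_top, Fintype.card_eq_nat_card]
      rw [← mul_assoc, inv_mul_cancel₀ natCard_ne_zero, one_mul]
    have heq : genFun A = (fun _ => ((n : ℤ) : ℂ)) -
        ∑ B ∈ Finset.univ.erase (⊤ : Subgroup A), Cfsg.indFun B (genFun B) := by
      funext a
      have h := sum_indFun_genFun a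
      rw [← Finset.add_sum_erase _ _ (Finset.mem_univ (⊤ : Subgroup A)), htop, hA] at h
      rw [Pi.sub_apply, Finset.sum_apply, Int.cast_natCast, eq_sub_iff_add_eq, h]
    rw [heq]
    refine Generalized.isGen_sub (Generalized.isGen_const _)
      (Generalized.isGen_sum _ fun B hB => ?_)
    refine Character.isGeneralizedCharacter_indFun B (ih (Nat.card B) ?_ B rfl)
    rw [← hA]
    refine lt_of_le_of_ne (Nat.le_of_dvd Nat.card_pos B.card_subgroup_dvd_card) fun e => ?_
    exact Finset.ne_of_mem_erase hB (Subgroup.eq_top_of_card_eq B e)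

/-- Artin's induction theorem. -/
theorem artin {G : Type u} [Group G] [Fintype G] (χ : G → ℂ) (hχ : Cfsg.IsCharacter G χ) :
    ∃ l : List ((A : Subgroup G) × ((A →* ℂˣ) × ℤ)), (∀ t ∈ l, IsCyclic t.1) ∧
      (Nat.card G : ℂ) • χ =
        (l.map fun t => (t.2.2 : ℂ) • Cfsg.indFun t.1 (fun a => (t.2.1 a : ℂ))).sum := by
  classical
  haveI := Fintype.ofFinite (Subgroup G)
  let ok : ((A : Subgroup G) × ((A →* ℂˣ) × ℤ)) → Prop := fun t => IsCyclic t.1
  let val : List ((A : Subgroup G) × ((A →* ℂˣ) × ℤ)) → (G → ℂ) := fun l =>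
    (l.map fun t => (t.2.2 : ℂ) • Cfsg.indFun t.1 (fun a => (t.2.1 a : ℂ))).sum
  let P : (G → ℂ) → Prop := fun f => ∃ l, (∀ t ∈ l, ok t) ∧ f = val l
  have hP0 : P 0 := ⟨[], by simp, by simp [val]⟩
  have hPadd : ∀ f f', P f → P f' → P (f + f') := by
    rintro f f' ⟨l, hl, rfl⟩ ⟨l', hl', rfl⟩
    refine ⟨l ++ l', fun t ht => ?_, by simp [val]⟩
    rcases List.mem_append.mp ht with h | h
    · exact hl t h
    · exact hl' t h
  have hPsum : ∀ {ι : Type u} (s : Finset ι) (f : ι → G → ℂ), (∀ i ∈ s, P (f i)) →
      P (∑ i ∈ s, f i) := fun s f h => Finset.sum_induction f P hPadd hP0 h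
  have hmain : (Nat.card G : ℂ) • χ =
      ∑ B : Subgroup G, Cfsg.indFun B (fun b => genFun B b * χ b) := by
    funext g
    rw [Pi.smul_apply, smul_eq_mul, ← sum_indFun_genFun g, Finset.sum_apply, Finset.sum_mul]
    exact Finset.sum_congr rfl fun B _ => (congrFun (indFun_mul_restrict B (genFun B)
      (Characters.Basic.isClassFunction_of_isCharacter hχ)) g).symm
  suffices hgoal : P ((Nat.card G : ℂ) • χ) from hgoal
  rw [hmain]
  refine hPsum _ _ fun B _ => ?_
  by_cases hB : IsCyclic B
  · have hgen : Cfsg.IsGeneralizedCharacter B (fun b => genFun B b * χ b) :=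
      Generalized.isGen_mul (isGen_genFun B)
        (Generalized.isGen_comp B.subtype (Generalized.of_isCharacter hχ))
    haveI := Fintype.ofFinite B
    haveI := Fintype.ofFinite (Cfsg.IrrCharacter B)
    obtain ⟨c, -, hc, -⟩ := Generalized.exists_coeff hgen
    rw [hc, indFun_sum]
    refine hPsum _ _ fun ψ _ => ?_
    have hψ1 : (ψ : B → ℂ) 1 = 1 := Characters.Linear.degree_eq_one_of_comm (fun x y => by
      obtain ⟨z, hz⟩ := hB.exists_generator
      obtain ⟨i, hi⟩ := hz x
      obtain ⟨j, hj⟩ := hz y
      simp only at hi hj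
      rw [← hi, ← hj, ← zpow_add, ← zpow_add, add_comm]) ψ
    refine ⟨[⟨B, Characters.Linear.degOneHom (Characters.Basic.isCharacter_irr ψ) hψ1, c ψ⟩],
      by simpa [ok] using hB, ?_⟩
    simp only [val, List.map_cons, List.map_nil, List.sum_cons, List.sum_nil, add_zero,
      indFun_smul, Characters.Linear.degOneHom_apply]
  · have h0 : (fun b : B => genFun B b * χ b) = 0 := by
      funext b
      rw [genFun, if_neg, zero_mul]
      · rfl
      · intro h
        exact hB ⟨⟨b, fun x => by rw [Subgroup.eq_top_iff'] at h; exact h x⟩⟩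
    rw [h0, indFun_zero]
    exact hP0

end Cfsg.Agent.Lib.Induced.ArtinInduction
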