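import Mathlib

/-!
# Numerical core of an elementary proof of the odd order CN theorem

`W i` is the number of orbits of nontrivial linear characters of the `i`-th kernel, `e i` the
index of the kernel in its normalizer, `h i` its order and `m i l` the common multiplicity
parameter of the exceptional family of `l` at `i`.
-/

namespace Cfsg.Agent.Lib.Induced.CNArith

theorem arith_contradiction {ι : Type*} [Fintype ι] [DecidableEq ι] [Nonempty ι] (g : ℕ)
    (e W h : ι → ℕ) (m : ι → ι → ℤ) (hg : Odd g) (he : ∀ i, Odd (e i)) (he3 : ∀ i, 3 ≤ e i)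
    (hW : ∀ i, Even (W i)) (hW2 : ∀ i, 2 ≤ W i) (hdiv : ∀ i, e i * W i + 1 ∣ h i)
    (hhg : ∀ i, h i ∣ g) (hcop : Pairwise fun i l => (h i).Coprime (h l))
    (hI : ∀ i l, i ≠ l → m i l ≠ 0 ∨ m l i ≠ 0)
    (hII : ∀ i, ∑ l ∈ Finset.univ.erase i, (W l : ℤ) * m i l ^ 2 ≤ (e i : ℤ) - 1)
    (hIII : ∀ j, ∑ i ∈ Finset.univ.erase j, (W i : ℚ) / ((e i * W i + 1 : ℕ) : ℚ) * (m i j : ℚ) ^ 2
      ≤ (e j : ℚ) / ((e j * W j + 1 : ℕ) : ℚ))
    (hIV : ∑ i, (1 / (e i : ℚ)) * (1 - 1 / (h i : ℚ)) = 1 - 1 / (g : ℚ))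
    (hseven : ∀ i, e i = 3 → W i = 2 → h i = 7) : False := by
  classical
  obtain ⟨j, -, hmin⟩ := Finset.exists_min_image (Finset.univ : Finset ι) e Finset.univ_nonempty
  have hmin' : ∀ i, e j ≤ e i := fun i => hmin i (Finset.mem_univ i)
  set A : ι → ℕ := fun i => e i * W i + 1 with hA
  have hg0 : 0 < g := hg.pos
  have hh0 : ∀ i, 0 < h i := fun i => Nat.pos_of_dvd_of_pos (hhg i) hg0
  have hAg : ∀ i, A i ∣ g := fun i => (hdiv i).trans (hhg i)
  have hAcop : ∀ i l, i ≠ l → (A i).Coprime (A l) := fun i l hil =>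
    ((hcop hil).coprime_dvd_left (hdiv i)).coprime_dvd_right (hdiv l)
  have hAne : ∀ i l, i ≠ l → A i ≠ A l := fun i l hil hAA => by
    have := hAcop i l hil
    rw [hAA, Nat.coprime_self] at this
    have := Nat.mul_le_mul (he3 l) (hW2 l)
    simp only [hA] at *
    omega
  have hprod : ∀ i, i ≠ j → A j * A i ≤ g := fun i hij =>
    Nat.le_of_dvd hg0 ((hAcop j i (Ne.symm hij)).mul_dvd_of_dvd_of_dvd (hAg j) (hAg i))
  -- each summand is at most `1 / e`
  have hterm : ∀ i, (1 / (e i : ℚ)) * (1 - 1 / (h i : ℚ)) ≤ 1 / (e i : ℚ) := fun i => by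
    apply mul_le_of_le_one_right
    · positivity
    · have : (0 : ℚ) ≤ 1 / (h i : ℚ) := by positivity
      linarith
  have hsplit : (1 / (e j : ℚ)) * (1 - 1 / (h j : ℚ)) +
      ∑ i ∈ Finset.univ.erase j, (1 / (e i : ℚ)) * (1 - 1 / (h i : ℚ)) = 1 - 1 / (g : ℚ) := by
    rw [← hIV]
    exact Finset.add_sum_erase _ (fun i => (1 / (e i : ℚ)) * (1 - 1 / (h i : ℚ))) (Finset.mem_univ j)
  have hE : (3 : ℚ) ≤ (e j : ℚ) := by exact_mod_cast he3 j
  have hinvE : 1 / (e j : ℚ) ≤ 1 / 3 := by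
    gcongr
  -- there is a second kernel
  obtain ⟨k, hk⟩ : ∃ k, k ≠ j := by
    by_contra hne
    push Not at hne
    have h1 : Finset.univ.erase j = (∅ : Finset ι) := by
      ext i
      simp [hne i]
    rw [h1, Finset.sum_empty, add_zero] at hsplit
    have h7 : A j ≤ g := Nat.le_of_dvd hg0 (hAg j)
    have h7' : (7 : ℚ) ≤ (g : ℚ) := by
      have := Nat.mul_le_mul (he3 j) (hW2 j)
      have : 7 ≤ g := by simp only [hA] at h7; omega
      exact_mod_cast this
    have : 1 / (g : ℚ) ≤ 1 / 7 := by gcongr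
    have := hterm j
    linarith
  set s := Finset.univ.erase j with hs
  set sin := s.filter (fun i => m j i ≠ 0) with hsin
  set sout := s.filter (fun i => ¬ m j i ≠ 0) with hsout
  have hsum : ∑ i ∈ s, (1 / (e i : ℚ)) * (1 - 1 / (h i : ℚ)) ≤
      ∑ i ∈ sin, 1 / (e i : ℚ) + ∑ i ∈ sout, 1 / (e i : ℚ) := by
    rw [hsin, hsout, Finset.sum_filter_add_sum_filter_not]
    exact Finset.sum_le_sum fun i _ => hterm i
  -- the two estimates
  have hWin : ∑ i ∈ sin, (W i : ℚ) ≤ (e j : ℚ) - 1 := by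
    have hz : ∑ i ∈ sin, (W i : ℤ) ≤ (e j : ℤ) - 1 := by
      refine le_trans ?_ (hII j)
      refine le_trans (Finset.sum_le_sum fun i hi => ?_)
        (Finset.sum_le_sum_of_subset_of_nonneg (Finset.filter_subset _ _) fun i _ _ => by positivity)
      have hm : 0 < m j i ^ 2 := by
        have := (Finset.mem_filter.mp hi).2
        positivity
      exact le_mul_of_one_le_right (by positivity) hm
    exact_mod_cast hz
  have hWout : ∑ i ∈ sout, (W i : ℚ) / (A i : ℚ) ≤ (e j : ℚ) / (A j : ℚ) := by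
    refine le_trans ?_ (hIII j)
    refine le_trans (Finset.sum_le_sum fun i hi => ?_)
      (Finset.sum_le_sum_of_subset_of_nonneg (Finset.filter_subset _ _) fun i _ _ => by positivity)
    obtain ⟨his, hi'⟩ := Finset.mem_filter.mp hi
    have hij : i ≠ j := (Finset.mem_erase.mp his).1
    have hm : m i j ≠ 0 := (hI i j hij).resolve_right hi'
    have hm2 : (1 : ℚ) ≤ (m i j : ℚ) ^ 2 := by
      have : (1 : ℤ) ≤ m i j ^ 2 := by
        have : 0 < m i j ^ 2 := by positivity
        omega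
      exact_mod_cast this
    exact le_mul_of_one_le_right (by positivity) hm2
  -- bound `1 / e` by `W / A` times a factor
  have hout : ∀ B : ℕ, 2 ≤ B → (∀ i ∈ s, B ≤ A i) →
      ∑ i ∈ sout, 1 / (e i : ℚ) ≤ (B : ℚ) / ((B : ℚ) - 1) * ((e j : ℚ) / (A j : ℚ)) := by
    intro B hB hBA
    have hB' : (2 : ℚ) ≤ B := by exact_mod_cast hB
    have hfac : (0 : ℚ) ≤ (B : ℚ) / ((B : ℚ) - 1) := div_nonneg (by linarith) (by linarith)
    refine le_trans ?_ (mul_le_mul_of_nonneg_left hWout hfac)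
    rw [Finset.mul_sum]
    refine Finset.sum_le_sum fun i hi => ?_
    have hBi : (B : ℚ) ≤ (A i : ℚ) := by exact_mod_cast hBA i (Finset.mem_filter.mp hi).1
    have hei : (3 : ℚ) ≤ (e i : ℚ) := by exact_mod_cast he3 i
    have hWi : (2 : ℚ) ≤ (W i : ℚ) := by exact_mod_cast hW2 i
    have hAi : (A i : ℚ) = (e i : ℚ) * (W i : ℚ) + 1 := by simp [hA]
    have hne1 : (B : ℚ) - 1 ≠ 0 := by linarith
    rw [div_mul_div_comm, div_le_div_iff₀ (by linarith) (by nlinarith)]
    rw [hAi] at hBi ⊢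
    nlinarith
  have hk' : k ∈ s := Finset.mem_erase.mpr ⟨hk, Finset.mem_univ k⟩
  by_cases hWj : W j = 2
  · -- two orbits at `j`
    have hAj : A j = 2 * e j + 1 := by simp only [hA, hWj]; ring
    have hB : ∀ i ∈ s, 2 * e j + 3 ≤ A i := by
      intro i hi
      have hij : i ≠ j := (Finset.mem_erase.mp hi).1
      have h1 := hAne i j hij
      rw [hAj] at h1
      have h2 : e j * 2 ≤ e i * W i := Nat.mul_le_mul (hmin' i) (hW2 i)
      have h3 : Even (e i * W i) := (hW i).mul_left _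
      obtain ⟨t, ht⟩ := h3
      simp only [hA] at h1 ⊢
      omega
    have hin : ∑ i ∈ sin, 1 / (e i : ℚ) ≤ ((e j : ℚ) - 1) / (2 * (e j : ℚ) + 4) := by
      refine le_trans ?_ (div_le_div_of_nonneg_right hWin (by positivity))
      rw [Finset.sum_div]
      refine Finset.sum_le_sum fun i hi => ?_
      have his := (Finset.mem_filter.mp hi).1
      have hij : i ≠ j := (Finset.mem_erase.mp his).1
      have hei : (3 : ℚ) ≤ (e i : ℚ) := by exact_mod_cast he3 i
      rw [div_le_div_iff₀ (by linarith) (by positivity), one_mul]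
      have key : 2 * e j + 4 ≤ W i * e i := by
        rcases (hW i) with ⟨w, hw⟩
        by_cases hWi : W i = 2
        · have h1 := hAne i j hij
          simp only [hA, hWi, hWj] at h1
          have h2 := hmin' i
          obtain ⟨x, hx⟩ := he i
          obtain ⟨y, hy⟩ := he j
          rw [hWi]
          omega
        · have h4 : 4 ≤ W i := by have := hW2 i; omega
          have := Nat.mul_le_mul h4 (hmin' i)
          have := he3 j
          omega
      exact_mod_cast key
    have hout' := hout (2 * e j + 3) (by omega) hB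
    rw [hAj] at hout'
    push_cast at hout'
    have hgbound : (2 * (e j : ℚ) + 1) * (2 * (e j : ℚ) + 3) ≤ (g : ℚ) := by
      have h1 := hprod k hk
      have h2 := hB k hk'
      have h3 : (2 * e j + 1) * (2 * e j + 3) ≤ g := by
        refine le_trans ?_ h1
        rw [hAj]
        exact Nat.mul_le_mul_left _ h2
      exact_mod_cast h3
    have hginv : 1 / (g : ℚ) ≤ 1 / ((2 * (e j : ℚ) + 1) * (2 * (e j : ℚ) + 3)) :=
      one_div_le_one_div_of_le (by positivity) hgbound
    rcases (show e j = 3 ∨ 5 ≤ e j by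
      obtain ⟨x, hx⟩ := he j; have := he3 j; omega) with h3 | h5
    · have hh7 := hseven j h3 hWj
      rw [h3, hh7] at hsplit
      rw [h3] at hin hout' hginv
      norm_num at hsplit hin hout' hginv hsum
      linarith
    · have h5' : (5 : ℚ) ≤ (e j : ℚ) := by exact_mod_cast h5
      have hj := hterm j
      have ea : ((e j : ℚ) - 1) / (2 * (e j : ℚ) + 4) = 1 / 2 - 3 / (2 * (e j : ℚ) + 4) := by
        field_simp
        ring
      have eb : (2 * (e j : ℚ) + 3) / (2 * (e j : ℚ) + 3 - 1) * ((e j : ℚ) / (2 * (e j : ℚ) + 1))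
          = 1 / 2 - 1 / ((2 * (e j : ℚ) + 2) * (2 * (e j : ℚ) + 1)) := by
        rw [show 2 * (e j : ℚ) + 3 - 1 = 2 * (e j : ℚ) + 2 by ring]
        field_simp
        ring
      rw [ea] at hin
      rw [eb] at hout'
      have ec : 1 / (e j : ℚ) < 3 / (2 * (e j : ℚ) + 4) := by
        rw [div_lt_div_iff₀ (by linarith) (by linarith)]
        linarith
      have ed : 1 / ((2 * (e j : ℚ) + 1) * (2 * (e j : ℚ) + 3)) ≤
          1 / ((2 * (e j : ℚ) + 2) * (2 * (e j : ℚ) + 1)) :=
        one_div_le_one_div_of_le (by positivity) (by nlinarith)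
      linarith
  · -- at least four orbits at `j`
    have hWj4 : 4 ≤ W j := by
      obtain ⟨w, hw⟩ := hW j
      have := hW2 j
      omega
    have hAj : 4 * e j + 1 ≤ A j := by
      have := Nat.mul_le_mul_left (e j) hWj4
      simp only [hA]; omega
    have hB : ∀ i ∈ s, 2 * e j + 1 ≤ A i := by
      intro i _
      have h2 : e j * 2 ≤ e i * W i := Nat.mul_le_mul (hmin' i) (hW2 i)
      simp only [hA]; omega
    have hin : ∑ i ∈ sin, 1 / (e i : ℚ) ≤ ((e j : ℚ) - 1) / (2 * (e j : ℚ)) := by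
      refine le_trans ?_ (div_le_div_of_nonneg_right hWin (by positivity))
      rw [Finset.sum_div]
      refine Finset.sum_le_sum fun i hi => ?_
      have hei : (3 : ℚ) ≤ (e i : ℚ) := by exact_mod_cast he3 i
      rw [div_le_div_iff₀ (by linarith) (by positivity), one_mul]
      have key : 2 * e j ≤ W i * e i := Nat.mul_le_mul (hW2 i) (hmin' i)
      exact_mod_cast key
    have hout' := hout (2 * e j + 1) (by have := he3 j; omega) hB
    push_cast at hout'
    have hgbound : (91 : ℚ) ≤ (g : ℚ) := by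
      have h1 := hprod k hk
      have h2 := hB k hk'
      have h3 := he3 j
      have : 13 * 7 ≤ g := le_trans (Nat.mul_le_mul (by omega) (by omega)) h1
      exact_mod_cast this
    have hginv : 1 / (g : ℚ) ≤ 1 / 91 := one_div_le_one_div_of_le (by norm_num) hgbound
    have ea : ((e j : ℚ) - 1) / (2 * (e j : ℚ)) = 1 / 2 - (1 / (e j : ℚ)) / 2 := by
      field_simp
    have eb : (2 * (e j : ℚ) + 1) / (2 * (e j : ℚ) + 1 - 1) * ((e j : ℚ) / (A j : ℚ)) ≤ 7 / 26 := by
      have hAj' : 4 * (e j : ℚ) + 1 ≤ (A j : ℚ) := by exact_mod_cast hAj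
      rw [show 2 * (e j : ℚ) + 1 - 1 = 2 * (e j : ℚ) by ring]
      rw [show (2 * (e j : ℚ) + 1) / (2 * (e j : ℚ)) * ((e j : ℚ) / (A j : ℚ))
          = (2 * (e j : ℚ) + 1) / (2 * (A j : ℚ)) by field_simp]
      rw [div_le_div_iff₀ (by linarith) (by norm_num)]
      linarith
    have hj := hterm j
    linarith

end Cfsg.Agent.Lib.Induced.CNArith
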