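import Mathlib

/-!
# Counting in `GL(2,3)`

Matrices are coded as quadruples, so that the counts below are decided quickly.
-/

namespace Cfsg.Agent.Lib.Induced.GL23

/-- A matrix, as a quadruple. -/
abbrev T : Type := ZMod 3 × ZMod 3 × ZMod 3 × ZMod 3

/-- Multiplication of quadruples. -/
def mu (A B : T) : T :=
  (A.1 * B.1 + A.2.1 * B.2.2.1, A.1 * B.2.1 + A.2.1 * B.2.2.2,
    A.2.2.1 * B.1 + A.2.2.2 * B.2.2.1, A.2.2.1 * B.2.1 + A.2.2.2 * B.2.2.2)

/-- The identity quadruple. -/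
def oneT : T := (1, 0, 0, 1)

/-- The scalar `-1`. -/
def tT : T := (2, 0, 0, 2)

/-- A generator of a cyclic subgroup of order eight. -/
def uT : T := (1, 1, 1, 0)

/-- A generator of a cyclic subgroup of order six. -/
def wT : T := (2, 1, 0, 2)

/-- A reflection. -/
def sT : T := (1, 0, 0, 2)

/-- Powers. -/
def pw (A : T) : ℕ → T
  | 0 => oneT
  | n + 1 => mu (pw A n) A

/-- The invertible quadruples. -/
def inv : Finset T := Finset.univ.filter fun A => A.1 * A.2.2.2 - A.2.1 * A.2.2.1 ≠ 0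

/-- The involutions. -/
def invol : Finset T := inv.filter fun A => mu A A = oneT ∧ A ≠ oneT

/-- The five special classes: `-1`, `u²`, `w`, `u`, `u⁵`. -/
def special : Fin 5 → T := ![pw uT 4, pw uT 2, pw wT 1, pw uT 1, pw uT 5]

/-- Number of `g` with `x g = g y`. -/
def nConj (x y : T) : ℕ := (inv.filter fun g => mu x g = mu g y).card

/-- Number of involutions `a` with `a y` an involution. -/
def nInv (y : T) : ℕ := (invol.filter fun a => mu (mu a y) (mu a y) = oneT ∧ mu a y ≠ oneT).card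

theorem nConj_u : ∀ (i : Fin 5) (k : Fin 8), nConj (special i) (pw uT k) =
    ![![0, 0, 0, 0, 48, 0, 0, 0], ![0, 0, 8, 0, 0, 0, 8, 0], ![0, 0, 0, 0, 0, 0, 0, 0],
      ![0, 8, 0, 8, 0, 0, 0, 0], ![0, 0, 0, 0, 0, 8, 0, 8]] i k := by
  decide +kernel

theorem nConj_w : ∀ (i : Fin 5) (k : Fin 6), nConj (special i) (pw wT k) =
    ![![0, 0, 0, 48, 0, 0], ![0, 0, 0, 0, 0, 0], ![0, 6, 0, 0, 0, 6],
      ![0, 0, 0, 0, 0, 0], ![0, 0, 0, 0, 0, 0]] i k := by
  decide +kernel

theorem nInv_u : ∀ k : Fin 8, nInv (pw uT k) = ![13, 0, 4, 0, 12, 0, 4, 0] k := by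
  decide +kernel

theorem nInv_w : ∀ k : Fin 6, nInv (pw wT k) = ![13, 6, 6, 12, 6, 6] k := by
  decide +kernel

theorem pow_data : pw uT 8 = oneT ∧ pw uT 4 = tT ∧ pw wT 6 = oneT ∧ pw wT 3 = tT := by
  decide +kernel

theorem conj_data : (∃ g ∈ inv, mu (pw uT 1) g = mu g (pw uT 3)) ∧
    (∃ g ∈ inv, mu (pw uT 2) g = mu g (pw uT 6)) ∧
    (∃ g ∈ inv, mu (pw uT 5) g = mu g (pw uT 7)) ∧
    (∃ g ∈ inv, mu (pw wT 1) g = mu g (pw wT 5)) ∧
    (∃ g ∈ inv, mu (pw wT 2) g = mu g (pw wT 4)) := by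
  decide +kernel

theorem centralize_us : ∀ z ∈ inv, mu z uT = mu uT z → mu z sT = mu sT z →
    z = oneT ∨ z = tT := by
  decide +kernel

theorem invol_class : ∀ a ∈ invol, a = tT ∨ ∃ g ∈ inv, mu sT g = mu g a := by
  decide +kernel

theorem u_involutions : ∀ k : Fin 8, pw uT k ∈ invol → pw uT k = tT := by
  decide +kernel

theorem not_comm : mu uT sT ≠ mu sT uT := by decide +kernel

theorem sT_invol : sT ∈ invol ∧ sT ≠ tT := by decide +kernel

theorem card_inv : inv.card = 48 := by decide +kernel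

/-- The quadruple of a matrix. -/
def toT (A : Matrix.GeneralLinearGroup (Fin 2) (ZMod 3)) : T :=
  ((A : Matrix (Fin 2) (Fin 2) (ZMod 3)) 0 0, (A : Matrix (Fin 2) (Fin 2) (ZMod 3)) 0 1,
    (A : Matrix (Fin 2) (Fin 2) (ZMod 3)) 1 0, (A : Matrix (Fin 2) (Fin 2) (ZMod 3)) 1 1)

theorem toT_mul (A B : Matrix.GeneralLinearGroup (Fin 2) (ZMod 3)) :
    toT (A * B) = mu (toT A) (toT B) := by
  simp [toT, mu, Matrix.mul_apply, Fin.sum_univ_two]

theorem toT_one : toT 1 = oneT := by simp [toT, oneT]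

theorem toT_injective : Function.Injective toT := by
  intro A B h
  simp only [toT, Prod.mk.injEq] at h
  obtain ⟨h1, h2, h3, h4⟩ := h
  refine Units.ext (Matrix.ext fun i j => ?_)
  fin_cases i <;> fin_cases j <;> assumption

theorem toT_mem (A : Matrix.GeneralLinearGroup (Fin 2) (ZMod 3)) : toT A ∈ inv := by
  have h := (Matrix.GeneralLinearGroup.det A).ne_zero
  simp only [inv, Finset.mem_filter, Finset.mem_univ, true_and, toT]
  simpa [Matrix.det_fin_two] using h

theorem exists_toT_eq {x : T} (hx : x ∈ inv) :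
    ∃ A : Matrix.GeneralLinearGroup (Fin 2) (ZMod 3), toT A = x := by
  have h : (!![x.1, x.2.1; x.2.2.1, x.2.2.2]).det ≠ 0 := by
    rw [Matrix.det_fin_two_of]
    exact (Finset.mem_filter.mp hx).2
  refine ⟨Matrix.GeneralLinearGroup.mkOfDetNeZero _ h, ?_⟩
  simp [toT]

theorem toT_pow (A : Matrix.GeneralLinearGroup (Fin 2) (ZMod 3)) (n : ℕ) :
    toT (A ^ n) = pw (toT A) n := by
  induction n with
  | zero => rw [pow_zero, toT_one]; rfl
  | succ n ih => rw [pow_succ, toT_mul, ih]; rfl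

end Cfsg.Agent.Lib.Induced.GL23

namespace Cfsg.Agent.Lib.Induced.GL23

theorem invol_centralizer : ∀ a ∈ invol, a ≠ tT →
    (inv.filter fun z => mu z a = mu a z).card = 4 := by
  decide +kernel

/-- An exponent sending the corresponding special element to `-1`. -/
def specialExp : Fin 5 → ℕ := ![1, 2, 3, 4, 4]

theorem special_pow : ∀ i : Fin 5, pw (special i) (specialExp i) = tT := by decide +kernel

theorem special_target_u : ∀ (i : Fin 5) (k : Fin 8),
    pw (pw uT k) (specialExp i) ∈ invol → pw (pw uT k) (specialExp i) = tT := by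
  decide +kernel

theorem special_target_w : ∀ (i : Fin 5) (k : Fin 6),
    pw (pw wT k) (specialExp i) ∈ invol → pw (pw wT k) (specialExp i) = tT := by
  decide +kernel

theorem u_to_t : ∀ k : Fin 8, k ≠ 0 → ∃ m : Fin 5, pw (pw uT k) m = tT := by decide +kernel

theorem w_to_t : ∀ k : Fin 6, (k = 1 ∨ k = 3 ∨ k = 5) → ∃ m : Fin 4, pw (pw wT k) m = tT := by
  decide +kernel

theorem u_order : ∀ k : Fin 8, pw uT k = oneT → k = 0 := by decide +kernel

theorem w_order : ∀ k : Fin 6, pw wT k = oneT → k = 0 := by decide +kernel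

theorem uT_mem : uT ∈ inv ∧ wT ∈ inv ∧ sT ∈ inv := by decide +kernel

theorem oneT_ne_tT : oneT ≠ tT := by decide +kernel

end Cfsg.Agent.Lib.Induced.GL23
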