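import Mathlib

/-!
# The arithmetic behind the order of a simple group with `C(t) ≅ GL(2,3)`

`a₂`, `a₃`, `a₄`, `b₄`, `a₅` are the coefficient vectors of five generalized characters of `G`,
`d` is the degree and `v` the value at `t`.
-/

namespace Cfsg.Agent.Lib.Induced.GL23Arith

/-- The Diophantine conditions. -/
theorem order_eq (g p r : ℤ) (hg : ∃ o, g = 16 * o ∧ Odd o)
    (h1 : g * (p + 4) ^ 2 = 9216 * (p * (p + 1)))
    (h2 : g * (r - 2) ^ 2 = 4608 * (r * (r + 1))) : g = 5616 ∨ g = 7920 := by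
  obtain ⟨o, rfl, ho⟩ := hg
  have heven : ∀ x c : ℤ, o * x ^ 2 = 2 * c → 2 ∣ x := fun x c hx => by
    rcases Int.even_mul.mp (show Even (o * x ^ 2) from ⟨c, by rw [hx]; ring⟩) with h | h
    · exact absurd h (Int.not_even_iff_odd.mpr ho)
    · exact (Int.even_pow.mp h).1.two_dvd
  obtain ⟨d, rfl⟩ : ∃ d, p = d - 4 := ⟨p + 4, by ring⟩
  obtain ⟨d1, rfl⟩ := heven d (288 * ((d - 4) * (d - 3))) (by linarith)
  obtain ⟨d2, rfl⟩ := heven d1 (144 * ((d1 - 2) * (2 * d1 - 3))) (by linarith)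
  obtain ⟨d3, rfl⟩ := heven d2 (72 * ((d2 - 1) * (4 * d2 - 3))) (by linarith)
  obtain ⟨m, rfl⟩ := heven d3 (18 * ((2 * d3 - 1) * (8 * d3 - 3))) (by linarith)
  have e5 : o * m ^ 2 = 576 * m ^ 2 - 252 * m + 27 := by linarith
  have hm : m ∣ 27 := ⟨o * m - 576 * m + 252, by linear_combination -e5⟩
  have hle : m ≤ 27 := Int.le_of_dvd (by norm_num) hm
  have hge : -27 ≤ m := by
    have := Int.le_of_dvd (a := -m) (b := 27) (by norm_num) (by simpa using hm)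
    omega
  clear h1 hm heven
  interval_cases m <;> norm_num at e5 <;> first
    | omega
    | (exfalso
       have ha : o = 855 := by omega
       subst ha
       have b1 : r ≤ 8 := by nlinarith
       have b2 : -8 ≤ r := by nlinarith
       interval_cases r <;> norm_num at h2)
    | (exfalso
       have ha : o = 663 := by omega
       subst ha
       have b1 : r ≤ 20 := by nlinarith
       have b2 : -20 ≤ r := by nlinarith
       interval_cases r <;> norm_num at h2)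

section

variable {X : Type*} [Fintype X] [DecidableEq X]

theorem eq_zero_outside {n : ℤ} (f : X → ℤ) (hn : ∑ x, f x * f x = n) (s : Finset X)
    (hs : ∑ x ∈ s, f x * f x = n) {x : X} (hx : x ∉ s) : f x = 0 := by
  have h := Finset.sum_le_sum_of_subset_of_nonneg (f := fun y => f y * f y)
    (Finset.subset_univ (insert x s)) (fun y _ _ => mul_self_nonneg _)
  rw [Finset.sum_insert hx, hs, hn] at h
  nlinarith [mul_self_nonneg (f x)]

theorem exists_next {n : ℤ} (f : X → ℤ) (hn : ∑ x, f x * f x = n) (s : Finset X)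
    (hs : ∑ x ∈ s, f x * f x < n) (hs' : n < ∑ x ∈ s, f x * f x + 4) :
    ∃ Z, Z ∉ s ∧ f Z * f Z = 1 := by
  obtain ⟨Z, hZ, hZ0⟩ : ∃ Z, Z ∉ s ∧ f Z ≠ 0 := by
    by_contra h
    push Not at h
    rw [← Finset.sum_subset (Finset.subset_univ s) (fun x _ hx => by simp [h x hx])] at hn
    omega
  have h := Finset.sum_le_sum_of_subset_of_nonneg (f := fun y => f y * f y)
    (Finset.subset_univ (insert Z s)) (fun y _ _ => mul_self_nonneg _)
  rw [Finset.sum_insert hZ, hn] at h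
  have h1 : f Z ≤ 1 := by nlinarith
  have h2 : -1 ≤ f Z := by nlinarith
  refine ⟨Z, hZ, ?_⟩
  rcases (show f Z = -1 ∨ f Z = 1 by omega) with e | e <;> simp [e]

theorem sum_three (f : X → ℤ) {a b c : X} (hab : a ≠ b) (hac : a ≠ c) (hbc : b ≠ c) :
    ∑ x ∈ ({a, b, c} : Finset X), f x = f a + f b + f c := by
  rw [Finset.sum_insert (by simp [hab, hac]), Finset.sum_insert (by simp [hbc]),
    Finset.sum_singleton, add_assoc]

theorem sum_six {M : Type*} [AddCommMonoid M] (f : X → M) (x1 P Q R W Z : X)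
    (hn : [x1, P, Q, R, W, Z].Nodup)
    (hf : ∀ x, x ∉ [x1, P, Q, R, W, Z] → f x = 0) :
    ∑ x, f x = f x1 + f P + f Q + f R + f W + f Z := by
  rw [← Finset.sum_subset (Finset.subset_univ [x1, P, Q, R, W, Z].toFinset)
    (fun x _ hx => hf x (fun h => hx (List.mem_toFinset.mpr h))), List.sum_toFinset f hn]
  simp [add_assoc]

/-- The supports of `a₂`, `a₃`, `a₅` and their signs. -/
structure IsPattern (x1 : X) (a2 a3 a5 : X → ℤ) (P Q R W Z : X) : Prop where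
  nodup : [x1, P, Q, R, W, Z].Nodup
  sP : a5 P * a5 P = 1
  sQ : a5 Q * a5 Q = 1
  sR : a5 R * a5 R = 1
  sW : a3 W * a3 W = 1
  sZ : a2 Z * a2 Z = 1
  p2 : a2 P = a5 P ∧ a2 Q = 0 ∧ a2 R = 0 ∧ a2 W = 0
  p3 : a3 P = a5 P ∧ a3 Q = a5 Q ∧ a3 R = 0 ∧ a3 Z = 0
  p5 : a5 W = 0 ∧ a5 Z = 0
  out : ∀ x, x ∉ [x1, P, Q, R, W, Z] → a2 x = 0 ∧ a3 x = 0 ∧ a5 x = 0

theorem three_pattern (z1 z2 z3 : ℤ) (h1 : z1 * z1 ≤ 1) (h2 : z2 * z2 ≤ 1) (h3 : z3 * z3 ≤ 1)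
    (h : z1 + z2 + z3 = 2) : (z1 = 0 ∧ z2 = 1 ∧ z3 = 1) ∨ (z1 = 1 ∧ z2 = 0 ∧ z3 = 1) ∨
      (z1 = 1 ∧ z2 = 1 ∧ z3 = 0) := by
  have bd : ∀ z : ℤ, z * z ≤ 1 → z = -1 ∨ z = 0 ∨ z = 1 := fun z hz => by
    have : z ≤ 1 := by nlinarith
    have : -1 ≤ z := by nlinarith
    omega
  rcases bd _ h1 with e1 | e1 | e1 <;> rcases bd _ h2 with e2 | e2 | e2 <;>
    rcases bd _ h3 with e3 | e3 | e3 <;> omega

theorem four_pattern (bP bQ bR bW : ℤ) (h : bP ^ 2 + bQ ^ 2 + bR ^ 2 + bW ^ 2 ≤ 2)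
    (h1 : bP + bQ + bW = 1) (h2 : bP + bQ + bR = 1) :
    (bP = 1 ∧ bQ = 0 ∧ bR = 0 ∧ bW = 0) ∨ (bP = 0 ∧ bQ = 1 ∧ bR = 0 ∧ bW = 0) ∨
      (bP = 0 ∧ bQ = 0 ∧ bR = 1 ∧ bW = 1) := by
  have hR : bR = 1 - bP - bQ := by omega
  have hW : bW = 1 - bP - bQ := by omega
  subst hR hW
  have : bP ≤ 1 := by nlinarith [sq_nonneg bQ, sq_nonneg (1 - bP - bQ)]
  have : -1 ≤ bP := by nlinarith [sq_nonneg bQ, sq_nonneg (1 - bP - bQ)]
  have : bQ ≤ 1 := by nlinarith [sq_nonneg bP, sq_nonneg (1 - bP - bQ)]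
  have : -1 ≤ bQ := by nlinarith [sq_nonneg bP, sq_nonneg (1 - bP - bQ)]
  revert h
  interval_cases bP <;> interval_cases bQ <;> norm_num

theorem five_pattern (tP tQ tR tW tZ : ℤ) (h : tP ^ 2 + tQ ^ 2 + tR ^ 2 + tW ^ 2 + tZ ^ 2 ≤ 2)
    (q1 : tP + tZ = 0) (q2 : tP + tQ + tW = 0) (q3 : tP + tQ + tR = 1) :
    tP = 0 ∧ tZ = 0 ∧ ((tQ = 1 ∧ tR = 0 ∧ tW = -1) ∨ (tQ = 0 ∧ tR = 1 ∧ tW = 0)) := by
  have hZ : tZ = -tP := by omega
  have hW : tW = -tP - tQ := by omega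
  have hR : tR = 1 - tP - tQ := by omega
  subst hZ hW hR
  have : tP ≤ 1 := by nlinarith [sq_nonneg tQ, sq_nonneg (1 - tP - tQ), sq_nonneg (-tP - tQ)]
  have : -1 ≤ tP := by nlinarith [sq_nonneg tQ, sq_nonneg (1 - tP - tQ), sq_nonneg (-tP - tQ)]
  have : tQ ≤ 1 := by nlinarith [sq_nonneg tP, sq_nonneg (1 - tP - tQ), sq_nonneg (-tP - tQ)]
  have : -1 ≤ tQ := by nlinarith [sq_nonneg tP, sq_nonneg (1 - tP - tQ), sq_nonneg (-tP - tQ)]
  revert h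
  interval_cases tP <;> interval_cases tQ <;> norm_num

theorem exists_pattern (x1 : X) (d : X → ℕ) (hd : ∀ x, 0 < d x) (hd1 : d x1 = 1)
    (a2 a3 a5 : X → ℤ) (o2 : a2 x1 = 1) (o3 : a3 x1 = 0) (o5 : a5 x1 = 1)
    (h22 : ∑ x, a2 x * a2 x = 3) (h33 : ∑ x, a3 x * a3 x = 3) (h55 : ∑ x, a5 x * a5 x = 4)
    (h23 : ∑ x, a2 x * a3 x = 1) (h25 : ∑ x, a2 x * a5 x = 2) (h35 : ∑ x, a3 x * a5 x = 2)
    (hdeg2 : ∑ x, a2 x * (d x : ℤ) = 0) (hdeg3 : ∑ x, a3 x * (d x : ℤ) = 0)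
    (hdeg5 : ∑ x, a5 x * (d x : ℤ) = 0) :
    ∃ P Q R W Z, IsPattern x1 a2 a3 a5 P Q R W Z := by
  obtain ⟨u1, n1, s1⟩ := exists_next a5 h55 {x1} (by simp [o5]) (by simp [o5])
  obtain ⟨u2, n2, s2⟩ := exists_next a5 h55 {u1, x1}
    (by rw [Finset.sum_insert n1]; simp [o5, s1]) (by rw [Finset.sum_insert n1]; simp [o5, s1])
  obtain ⟨u3, n3, s3⟩ := exists_next a5 h55 {u2, u1, x1}
    (by rw [Finset.sum_insert n2, Finset.sum_insert n1]; simp [o5, s1, s2])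
    (by rw [Finset.sum_insert n2, Finset.sum_insert n1]; simp [o5, s1, s2])
  simp only [Finset.mem_insert, Finset.mem_singleton, not_or] at n1 n2 n3
  have h5out : ∀ x, x ≠ x1 → x ≠ u1 → x ≠ u2 → x ≠ u3 → a5 x = 0 := fun x h h' h'' h''' => by
    refine eq_zero_outside a5 h55 {u3, u2, u1, x1} ?_ (by simp [h, h', h'', h'''])
    rw [Finset.sum_insert (by simp [n3]), Finset.sum_insert (by simp [n2]),
      Finset.sum_insert (by simp [n1])]
    simp [o5, s1, s2, s3]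
  have sq3 : ∀ x, a3 x * a3 x ≤ 3 := fun x => by
    have h := Finset.single_le_sum (s := Finset.univ) (f := fun x => a3 x * a3 x)
      (fun y _ => mul_self_nonneg _) (Finset.mem_univ x)
    rwa [h33] at h
  have h35' : a3 u1 * a5 u1 + a3 u2 * a5 u2 + a3 u3 * a5 u3 = 2 := by
    rw [← sum_three (fun x => a3 x * a5 x) (Ne.symm n2.1) (Ne.symm n3.2.1) (Ne.symm n3.1), ← h35]
    refine Finset.sum_subset (Finset.subset_univ _) fun x _ hx => ?_
    simp only [Finset.mem_insert, Finset.mem_singleton, not_or] at hx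
    by_cases h : x = x1
    · simp [h, o3]
    · simp [h5out x h hx.1 hx.2.1 hx.2.2]
  have hb : ∀ x, a5 x * a5 x = 1 → a3 x * a5 x * (a3 x * a5 x) ≤ 1 := fun x hx => by
    have e : a3 x * a5 x * (a3 x * a5 x) = a3 x * a3 x := by
      linear_combination (a3 x * a3 x) * hx
    have : a3 x ≤ 1 := by nlinarith [sq3 x]
    have : -1 ≤ a3 x := by nlinarith [sq3 x]
    rw [e]; nlinarith
  -- roles
  obtain ⟨P, Q, R, hPQ, hPR, hQR, hP1, hQ1, hR1, pP, pQ, pR, eP, eQ, eR, h5⟩ :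
      ∃ P Q R, P ≠ Q ∧ P ≠ R ∧ Q ≠ R ∧ P ≠ x1 ∧ Q ≠ x1 ∧ R ≠ x1 ∧ a5 P * a5 P = 1 ∧
        a5 Q * a5 Q = 1 ∧ a5 R * a5 R = 1 ∧ a3 P = a5 P ∧ a3 Q = a5 Q ∧ a3 R = 0 ∧
        ∀ x, x ≠ x1 → x ≠ P → x ≠ Q → x ≠ R → a5 x = 0 := by
    have one : ∀ x, a5 x * a5 x = 1 → a3 x * a5 x = 1 → a3 x = a5 x := fun x h h' => by
      linear_combination a5 x * h' - a3 x * h
    have zero : ∀ x, a5 x * a5 x = 1 → a3 x * a5 x = 0 → a3 x = 0 := fun x h h' => by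
      linear_combination a5 x * h' - a3 x * h
    rcases three_pattern _ _ _ (hb _ s1) (hb _ s2) (hb _ s3) h35' with ⟨a, b, c⟩ | ⟨a, b, c⟩ |
      ⟨a, b, c⟩
    · exact ⟨u2, u3, u1, Ne.symm n3.1, n2.1, n3.2.1, n2.2, n3.2.2, n1, s2, s3, s1, one _ s2 b,
        one _ s3 c, zero _ s1 a, fun x h h' h'' h''' => h5out x h h''' h' h''⟩
    · exact ⟨u1, u3, u2, Ne.symm n3.2.1, Ne.symm n2.1, n3.1, n1, n3.2.2, n2.2, s1, s3, s2,
        one _ s1 a, one _ s3 c, zero _ s2 b, fun x h h' h'' h''' => h5out x h h' h''' h''⟩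
    · exact ⟨u1, u2, u3, Ne.symm n2.1, Ne.symm n3.2.1, Ne.symm n3.1, n1, n2.2, n3.2.2, s1, s2, s3,
        one _ s1 a, one _ s2 b, zero _ s3 c, h5out⟩
  obtain ⟨W, nW, sW⟩ := exists_next a3 h33 {x1, P, Q}
    (by rw [sum_three _ hP1.symm hQ1.symm hPQ, o3, eP, eQ, pP, pQ]; norm_num)
    (by rw [sum_three _ hP1.symm hQ1.symm hPQ, o3, eP, eQ, pP, pQ]; norm_num)
  simp only [Finset.mem_insert, Finset.mem_singleton, not_or] at nW
  have hWR : W ≠ R := fun e => by rw [e, eR] at sW; norm_num at sW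
  have hW5 : a5 W = 0 := h5 W nW.1 nW.2.1 nW.2.2 hWR
  have h3 : ∀ x, x ≠ P → x ≠ Q → x ≠ W → a3 x = 0 := fun x h h' h'' => by
    refine eq_zero_outside a3 h33 {P, Q, W} ?_ (by simp [h, h', h''])
    rw [sum_three _ hPQ (Ne.symm nW.2.1) (Ne.symm nW.2.2), eP, eQ, pP, pQ, sW]
    norm_num
  have e23 : a2 P * a5 P + a2 Q * a5 Q + a2 W * a3 W = 1 := by
    rw [← h23, ← Finset.sum_subset (Finset.subset_univ {P, Q, W}) (fun x _ hx => by
      simp only [Finset.mem_insert, Finset.mem_singleton, not_or] at hx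
      simp [h3 x hx.1 hx.2.1 hx.2.2]),
      sum_three _ hPQ (Ne.symm nW.2.1) (Ne.symm nW.2.2), eP, eQ]
  have e25 : a2 P * a5 P + a2 Q * a5 Q + a2 R * a5 R = 1 := by
    have h := h25
    rw [← Finset.sum_subset (Finset.subset_univ {x1, P, Q, R}) (fun x _ hx => by
      simp only [Finset.mem_insert, Finset.mem_singleton, not_or] at hx
      simp [h5 x hx.1 hx.2.1 hx.2.2.1 hx.2.2.2]),
      Finset.sum_insert (by simp [hP1.symm, hQ1.symm, hR1.symm]),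
      sum_three _ hPQ hPR hQR, o2, o5] at h
    linarith
  have hnorm : (a2 P * a5 P) ^ 2 + (a2 Q * a5 Q) ^ 2 + (a2 R * a5 R) ^ 2 +
      (a2 W * a3 W) ^ 2 ≤ 2 := by
    have h := Finset.sum_le_sum_of_subset_of_nonneg (f := fun y => a2 y * a2 y)
      (Finset.subset_univ {x1, W, P, Q, R}) (fun y _ _ => mul_self_nonneg _)
    rw [Finset.sum_insert (by simp [hP1.symm, hQ1.symm, hR1.symm, Ne.symm nW.1]),
      Finset.sum_insert (by simp [nW.2.1, nW.2.2, hWR]), sum_three _ hPQ hPR hQR, h22, o2] at h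
    have e : ∀ y s : ℤ, s * s = 1 → (y * s) ^ 2 = y * y := fun y s hs => by
      linear_combination (y * y) * hs
    rw [e _ _ pP, e _ _ pQ, e _ _ pR, e _ _ sW]
    linarith
  have back : ∀ y s z : ℤ, s * s = 1 → y * s = z → y = z * s := fun y s z hs h => by
    subst h
    linear_combination -y * hs
  -- completion
  have finish : ∀ P Q : X, P ≠ Q → P ≠ R → Q ≠ R → P ≠ x1 → Q ≠ x1 → W ≠ P → W ≠ Q →
      a5 P * a5 P = 1 → a5 Q * a5 Q = 1 → a3 P = a5 P → a3 Q = a5 Q →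
      (∀ x, x ≠ x1 → x ≠ P → x ≠ Q → x ≠ R → a5 x = 0) →
      (∀ x, x ≠ P → x ≠ Q → x ≠ W → a3 x = 0) →
      a2 P = a5 P → a2 Q = 0 → a2 R = 0 → a2 W = 0 →
      ∃ P Q R W Z, IsPattern x1 a2 a3 a5 P Q R W Z := by
    intro P Q hPQ hPR hQR hP1 hQ1 hWP hWQ pP pQ eP eQ h5 h3 fP fQ fR fW
    have hs : ∑ x ∈ ({x1, W, P, Q, R} : Finset X), a2 x * a2 x = 2 := by
      rw [Finset.sum_insert (by simp [hP1.symm, hQ1.symm, hR1.symm, Ne.symm nW.1]),
        Finset.sum_insert (by simp [hWP, hWQ, hWR]), sum_three _ hPQ hPR hQR, o2, fP, fQ, fR, fW,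
        pP]
      norm_num
    obtain ⟨Z, nZ, sZ⟩ := exists_next a2 h22 {x1, W, P, Q, R} (by rw [hs]; norm_num)
      (by rw [hs]; norm_num)
    simp only [Finset.mem_insert, Finset.mem_singleton, not_or] at nZ
    obtain ⟨nZ1, nZW, nZP, nZQ, nZR⟩ := nZ
    refine ⟨P, Q, R, W, Z, ⟨?_, pP, pQ, pR, sW, sZ, ⟨fP, fQ, fR, fW⟩,
      ⟨eP, eQ, eR, h3 Z nZP nZQ nZW⟩, ⟨hW5, h5 Z nZ1 nZP nZQ nZR⟩, fun x hx => ?_⟩⟩
    · simp [hP1.symm, hQ1.symm, hR1.symm, Ne.symm nW.1, hPQ, hPR, hQR, hWP.symm, hWQ.symm,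
        hWR.symm, Ne.symm nZ1, Ne.symm nZP, Ne.symm nZQ, Ne.symm nZR, Ne.symm nZW]
    · simp only [List.mem_cons, List.not_mem_nil, or_false, not_or] at hx
      obtain ⟨g1, g2, g3, g4, g5, g6⟩ := hx
      refine ⟨eq_zero_outside a2 h22 {Z, x1, W, P, Q, R} ?_ (by simp [g1, g2, g3, g4, g5, g6]),
        h3 x g2 g3 g5, h5 x g1 g2 g3 g4⟩
      rw [Finset.sum_insert (by simp [nZ1, nZW, nZP, nZQ, nZR]), hs, sZ]
      norm_num
  rcases four_pattern _ _ _ _ hnorm e23 e25 with ⟨c1, c2, c3, c4⟩ | ⟨c1, c2, c3, c4⟩ |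
    ⟨c1, c2, c3, c4⟩
  · exact finish P Q hPQ hPR hQR hP1 hQ1 nW.2.1 nW.2.2 pP pQ eP eQ h5 h3
      (by rw [back _ _ _ pP c1, one_mul]) (by rw [back _ _ _ pQ c2, zero_mul])
      (by rw [back _ _ _ pR c3, zero_mul]) (by rw [back _ _ _ sW c4, zero_mul])
  · exact finish Q P hPQ.symm hQR hPR hQ1 hP1 nW.2.2 nW.2.1 pQ pP eQ eP
      (fun x a b c => h5 x a c b) (fun x a b => h3 x b a)
      (by rw [back _ _ _ pQ c2, one_mul]) (by rw [back _ _ _ pP c1, zero_mul])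
      (by rw [back _ _ _ pR c3, zero_mul]) (by rw [back _ _ _ sW c4, zero_mul])
  · exfalso
    have fR : a2 R = a5 R := by rw [back _ _ _ pR c3, one_mul]
    have fW : a2 W = a3 W := by rw [back _ _ _ sW c4, one_mul]
    have h2out : ∀ x, x ∉ ({x1, R, W} : Finset X) → a2 x = 0 := fun x hx =>
      eq_zero_outside a2 h22 _
        (by rw [sum_three _ hR1.symm (Ne.symm nW.1) hWR.symm, o2, fR, fW, pR, sW]; norm_num) hx
    have k2 := hdeg2
    rw [← Finset.sum_subset (Finset.subset_univ {x1, R, W})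
      (fun x _ hx => by simp [h2out x hx]),
      sum_three _ hR1.symm (Ne.symm nW.1) hWR.symm, o2, fR, fW, hd1] at k2
    have k3 := hdeg3
    rw [← Finset.sum_subset (Finset.subset_univ {P, Q, W}) (fun x _ hx => by
      simp only [Finset.mem_insert, Finset.mem_singleton, not_or] at hx
      simp [h3 x hx.1 hx.2.1 hx.2.2]),
      sum_three _ hPQ (Ne.symm nW.2.1) (Ne.symm nW.2.2), eP, eQ] at k3
    have k5 := hdeg5
    rw [← Finset.sum_subset (Finset.subset_univ {x1, P, Q, R}) (fun x _ hx => by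
      simp only [Finset.mem_insert, Finset.mem_singleton, not_or] at hx
      simp [h5 x hx.1 hx.2.1 hx.2.2.1 hx.2.2.2]),
      Finset.sum_insert (by simp [hP1.symm, hQ1.symm, hR1.symm]),
      sum_three _ hPQ hPR hQR, o5, hd1] at k5
    have hw : a3 W * (d W : ℤ) = 0 := by push_cast at k2 k5; linarith
    rcases mul_eq_zero.mp hw with h | h
    · rw [h] at sW; norm_num at sW
    · have := hd W; omega

/-- The values of `v` on the exceptional characters. -/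
theorem values (x1 P Q R W Z : X) (bar : X → X) (a2 a3 a4 a5 b4 : X → ℤ)
    (hp : IsPattern x1 a2 a3 a5 P Q R W Z) (o2 : a2 x1 = 1) (o3 : a3 x1 = 0) (o5 : a5 x1 = 1)
    (o4 : a4 x1 = 0) (o4' : b4 x1 = 0) (h44 : ∑ x, a4 x * a4 x = 2)
    (h44' : ∑ x, a4 x * b4 x = 1) (h24 : ∑ x, a2 x * a4 x = 0)
    (h34 : ∑ x, a3 x * a4 x = 0) (h54 : ∑ x, a5 x * a4 x = 1)
    (hbar : ∀ x, a2 (bar x) = a2 x ∧ a3 (bar x) = a3 x ∧ a5 (bar x) = a5 x ∧ a4 (bar x) = b4 x)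
    (v : X → ℤ) (hv : ∀ x, v x = 3 * (a2 x + a3 x) - 2 * (a5 x - a4 x - b4 x)) :
    v x1 = 1 ∧ v P = 4 * a5 P ∧ v Q = a5 Q ∧ v R = 2 * a5 R ∧ v W = 3 * a3 W ∧ v Z = 3 * a2 Z := by
  obtain ⟨hn, pP, pQ, pR, sW, sZ, ⟨fP, fQ, fR, fW⟩, ⟨eP, eQ, eR, eZ⟩, ⟨gW, gZ⟩, hout⟩ := hp
  have f24 := h24
  rw [sum_six _ x1 P Q R W Z hn (fun x hx => by simp [(hout x hx).1]), o2, o4, fP, fQ, fR,
    fW] at f24
  have f34 := h34
  rw [sum_six _ x1 P Q R W Z hn (fun x hx => by simp [(hout x hx).2.1]), o3, eP, eQ, eR, eZ] at f34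
  have f54 := h54
  rw [sum_six _ x1 P Q R W Z hn (fun x hx => by simp [(hout x hx).2.2]), o5, o4, gW, gZ] at f54
  have f44 : a4 P * a4 P + a4 Q * a4 Q + a4 R * a4 R + a4 W * a4 W + a4 Z * a4 Z ≤ 2 := by
    have h := Finset.sum_le_sum_of_subset_of_nonneg (f := fun x => a4 x * a4 x)
      (Finset.subset_univ [x1, P, Q, R, W, Z].toFinset) (fun x _ _ => mul_self_nonneg _)
    rw [h44, List.sum_toFinset _ hn] at h
    simp [o4] at h
    linarith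
  have e : ∀ s y : ℤ, s * s = 1 → (s * y) ^ 2 = y * y := fun s y h => by
    linear_combination (y * y) * h
  obtain ⟨hP0, hZ0, hcase⟩ := five_pattern (a5 P * a4 P) (a5 Q * a4 Q) (a5 R * a4 R) (a3 W * a4 W)
    (a2 Z * a4 Z) (by rw [e _ _ pP, e _ _ pQ, e _ _ pR, e _ _ sW, e _ _ sZ]; exact f44)
    (by linarith) (by linarith) (by linarith)
  have back : ∀ s y z : ℤ, s * s = 1 → s * y = z → y = s * z := fun s y z h h' => by
    subst h'
    linear_combination -y * h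
  have aP : a4 P = 0 := by rw [back _ _ _ pP hP0, mul_zero]
  have aZ : a4 Z = 0 := by rw [back _ _ _ sZ hZ0, mul_zero]
  -- `bar` fixes the five
  have ne0 : ∀ {z : ℤ}, z * z = 1 → z ≠ 0 := fun h h0 => by simp [h0] at h
  have six : ∀ y, a2 y ≠ 0 ∨ a3 y ≠ 0 ∨ a5 y ≠ 0 →
      y = x1 ∨ y = P ∨ y = Q ∨ y = R ∨ y = W ∨ y = Z := fun y hy => by
    by_contra h
    push Not at h
    obtain ⟨a, b, c⟩ := hout y (by simp [h.1, h.2.1, h.2.2.1, h.2.2.2.1, h.2.2.2.2.1, h.2.2.2.2.2])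
    simp [a, b, c] at hy
  have bP : bar P = P := by
    obtain ⟨c2, c3, c5, -⟩ := hbar P
    rw [fP] at c2
    rw [eP] at c3
    rcases six (bar P) (Or.inl (by rw [c2]; exact ne0 pP)) with h | h | h | h | h | h
    · rw [h, o3] at c3; exact absurd c3.symm (ne0 pP)
    · exact h
    · rw [h, fQ] at c2; exact absurd c2.symm (ne0 pP)
    · rw [h, fR] at c2; exact absurd c2.symm (ne0 pP)
    · rw [h, fW] at c2; exact absurd c2.symm (ne0 pP)
    · rw [h, eZ] at c3; exact absurd c3.symm (ne0 pP)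
  have bQ : bar Q = Q := by
    obtain ⟨c2, c3, c5, -⟩ := hbar Q
    rw [fQ] at c2
    rw [eQ] at c3
    rcases six (bar Q) (Or.inr (Or.inl (by rw [c3]; exact ne0 pQ))) with h | h | h | h | h | h
    · rw [h, o2] at c2; exact absurd c2 one_ne_zero
    · rw [h, fP] at c2; exact absurd c2 (ne0 pP)
    · exact h
    · rw [h, eR] at c3; exact absurd c3.symm (ne0 pQ)
    · rw [h, gW] at c5; exact absurd c5.symm (ne0 pQ)
    · rw [h, eZ] at c3; exact absurd c3.symm (ne0 pQ)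
  have bR : bar R = R := by
    obtain ⟨c2, c3, c5, -⟩ := hbar R
    rw [fR] at c2
    rw [eR] at c3
    rcases six (bar R) (Or.inr (Or.inr (by rw [c5]; exact ne0 pR))) with h | h | h | h | h | h
    · rw [h, o2] at c2; exact absurd c2 one_ne_zero
    · rw [h, fP] at c2; exact absurd c2 (ne0 pP)
    · rw [h, eQ] at c3; exact absurd c3 (ne0 pQ)
    · exact h
    · rw [h, gW] at c5; exact absurd c5.symm (ne0 pR)
    · rw [h, gZ] at c5; exact absurd c5.symm (ne0 pR)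
  have bW : bar W = W := by
    obtain ⟨c2, c3, c5, -⟩ := hbar W
    rw [gW] at c5
    rcases six (bar W) (Or.inr (Or.inl (by rw [c3]; exact ne0 sW))) with h | h | h | h | h | h
    · rw [h, o5] at c5; exact absurd c5 one_ne_zero
    · rw [h] at c5; exact absurd c5 (ne0 pP)
    · rw [h] at c5; exact absurd c5 (ne0 pQ)
    · rw [h] at c5; exact absurd c5 (ne0 pR)
    · exact h
    · rw [h, eZ] at c3; exact absurd c3.symm (ne0 sW)
  have bZ : bar Z = Z := by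
    obtain ⟨c2, c3, c5, -⟩ := hbar Z
    rw [gZ] at c5
    rcases six (bar Z) (Or.inl (by rw [c2]; exact ne0 sZ)) with h | h | h | h | h | h
    · rw [h, o5] at c5; exact absurd c5 one_ne_zero
    · rw [h] at c5; exact absurd c5 (ne0 pP)
    · rw [h] at c5; exact absurd c5 (ne0 pQ)
    · rw [h] at c5; exact absurd c5 (ne0 pR)
    · rw [h, fW] at c2; exact absurd c2.symm (ne0 sZ)
    · exact h
  have beq : ∀ y, bar y = y → b4 y = a4 y := fun y hy => by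
    have h := (hbar y).2.2.2
    rw [hy] at h
    exact h.symm
  rcases hcase with ⟨cQ, cR, cW⟩ | ⟨cQ, cR, cW⟩
  · exfalso
    have aQ : a4 Q = a5 Q := by rw [back _ _ _ pQ cQ, mul_one]
    have aR : a4 R = 0 := by rw [back _ _ _ pR cR, mul_zero]
    have aW : a4 W = -a3 W := by rw [back _ _ _ sW cW]; ring
    have hQW : Q ≠ W := by
      intro h
      subst h
      rw [gW] at pQ
      norm_num at pQ
    have hzero : ∀ x, x ∉ ({Q, W} : Finset X) → a4 x = 0 := fun x hx => by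
      refine eq_zero_outside a4 h44 _ ?_ hx
      rw [Finset.sum_insert (by simpa using hQW), Finset.sum_singleton, aQ, aW, pQ]
      linarith
    have h := h44'
    rw [← Finset.sum_subset (Finset.subset_univ {Q, W}) (fun x _ hx => by simp [hzero x hx]),
      Finset.sum_insert (by simpa using hQW), Finset.sum_singleton, beq Q bQ, beq W bW, aQ, aW,
      pQ] at h
    linarith
  · have aQ : a4 Q = 0 := by rw [back _ _ _ pQ cQ, mul_zero]
    have aR : a4 R = a5 R := by rw [back _ _ _ pR cR, mul_one]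
    have aW : a4 W = 0 := by rw [back _ _ _ sW cW, mul_zero]
    refine ⟨?_, ?_, ?_, ?_, ?_, ?_⟩
    · rw [hv, o2, o3, o5, o4, o4']; norm_num
    · rw [hv, fP, eP, beq P bP, aP]; ring
    · rw [hv, fQ, eQ, beq Q bQ, aQ]; ring
    · rw [hv, fR, eR, beq R bR, aR]; ring
    · rw [hv, fW, gW, beq W bW, aW]; ring
    · rw [hv, eZ, gZ, beq Z bZ, aZ]; ring

theorem term_eq (s k : ℤ) (n : ℕ) (hn : n ≠ 0) (hs : s * s = 1) :
    (s : ℚ) * ((k * s : ℤ) : ℚ) ^ 2 / (n : ℚ) = (k : ℚ) ^ 2 / ((s * (n : ℤ) : ℤ) : ℚ) := by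
  have hs' : (s : ℚ) * (s : ℚ) = 1 := by exact_mod_cast hs
  have hs0 : (s : ℚ) ≠ 0 := fun h => by simp [h] at hs'
  have hn0 : (n : ℚ) ≠ 0 := Nat.cast_ne_zero.mpr hn
  push_cast
  field_simp
  linear_combination ((k : ℚ) ^ 2 * ((s : ℚ) * s + 1)) * hs'

/-- Everything from the inner products, the degrees and the class multiplication sums. -/
theorem order_of_coeff (g : ℕ) (hg : ∃ o, g = 16 * o ∧ Odd o) (x1 : X) (bar : X → X) (d : X → ℕ)
    (hd : ∀ x, 0 < d x) (hd1 : d x1 = 1) (a2 a3 a4 a5 b4 : X → ℤ)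
    (o2 : a2 x1 = 1) (o3 : a3 x1 = 0) (o5 : a5 x1 = 1) (o4 : a4 x1 = 0) (o4' : b4 x1 = 0)
    (h22 : ∑ x, a2 x * a2 x = 3) (h33 : ∑ x, a3 x * a3 x = 3) (h55 : ∑ x, a5 x * a5 x = 4)
    (h23 : ∑ x, a2 x * a3 x = 1) (h25 : ∑ x, a2 x * a5 x = 2) (h35 : ∑ x, a3 x * a5 x = 2)
    (h44 : ∑ x, a4 x * a4 x = 2) (h44' : ∑ x, a4 x * b4 x = 1) (h24 : ∑ x, a2 x * a4 x = 0)
    (h34 : ∑ x, a3 x * a4 x = 0) (h54 : ∑ x, a5 x * a4 x = 1)
    (hbar : ∀ x, a2 (bar x) = a2 x ∧ a3 (bar x) = a3 x ∧ a5 (bar x) = a5 x ∧ a4 (bar x) = b4 x)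
    (hdeg2 : ∑ x, a2 x * (d x : ℤ) = 0) (hdeg3 : ∑ x, a3 x * (d x : ℤ) = 0)
    (hdeg5 : ∑ x, a5 x * (d x : ℤ) = 0) (v : X → ℤ)
    (hv : ∀ x, v x = 3 * (a2 x + a3 x) - 2 * (a5 x - a4 x - b4 x))
    (hm2 : (g : ℚ) * ∑ x, (a2 x : ℚ) * (v x : ℚ) ^ 2 / (d x : ℚ) = 9216)
    (hm3 : (g : ℚ) * ∑ x, (a3 x : ℚ) * (v x : ℚ) ^ 2 / (d x : ℚ) = 9216)
    (hm5 : (g : ℚ) * ∑ x, (a5 x : ℚ) * (v x : ℚ) ^ 2 / (d x : ℚ) = 13824) :
    g = 5616 ∨ g = 7920 := by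
  obtain ⟨P, Q, R, W, Z, hp⟩ := exists_pattern x1 d hd hd1 a2 a3 a5 o2 o3 o5 h22 h33 h55 h23 h25
    h35 hdeg2 hdeg3 hdeg5
  obtain ⟨v1, vP, vQ, vR, vW, vZ⟩ := values x1 P Q R W Z bar a2 a3 a4 a5 b4 hp o2 o3 o5 o4 o4'
    h44 h44' h24 h34 h54 hbar v hv
  obtain ⟨hn, pP, pQ, pR, sW, sZ, ⟨fP, fQ, fR, fW⟩, ⟨eP, eQ, eR, eZ⟩, ⟨gW, gZ⟩, hout⟩ := hp
  have n2 := hdeg2
  rw [sum_six _ x1 P Q R W Z hn (fun x hx => by simp [(hout x hx).1]), o2, fP, fQ, fR, fW,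
    hd1] at n2
  have n3 := hdeg3
  rw [sum_six _ x1 P Q R W Z hn (fun x hx => by simp [(hout x hx).2.1]), o3, eP, eQ, eR, eZ] at n3
  have n5 := hdeg5
  rw [sum_six _ x1 P Q R W Z hn (fun x hx => by simp [(hout x hx).2.2]), o5, gW, gZ, hd1] at n5
  push_cast at n2 n5
  rw [sum_six _ x1 P Q R W Z hn (fun x hx => by simp [(hout x hx).1]), o2, fP, fQ, fR, fW,
    v1, vP, vZ, hd1, term_eq _ _ _ (hd P).ne' pP, term_eq _ _ _ (hd Z).ne' sZ] at hm2
  rw [sum_six _ x1 P Q R W Z hn (fun x hx => by simp [(hout x hx).2.1]), o3, eP, eQ, eR, eZ,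
    vP, show v Q = 1 * a5 Q by rw [vQ, one_mul], vW, term_eq _ _ _ (hd P).ne' pP,
    term_eq _ _ _ (hd Q).ne' pQ, term_eq _ _ _ (hd W).ne' sW] at hm3
  rw [sum_six _ x1 P Q R W Z hn (fun x hx => by simp [(hout x hx).2.2]), o5, gW, gZ,
    v1, vP, show v Q = 1 * a5 Q by rw [vQ, one_mul], vR, hd1, term_eq _ _ _ (hd P).ne' pP,
    term_eq _ _ _ (hd Q).ne' pQ, term_eq _ _ _ (hd R).ne' pR] at hm5
  generalize hp' : a5 P * (d P : ℤ) = p at n2 n3 n5 hm2 hm3 hm5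
  generalize hr' : a5 R * (d R : ℤ) = r at n5 hm5
  generalize hw' : a3 W * (d W : ℤ) = w at n3 hm3
  generalize hz' : a2 Z * (d Z : ℤ) = z at n2 hm2
  have nz : ∀ (s : ℤ) (y : X), s * s = 1 → s * (d y : ℤ) ≠ 0 := fun s y hs h => by
    rcases mul_eq_zero.mp h with h | h
    · simp [h] at hs
    · have := hd y; omega
  have hp0 : (p : ℚ) ≠ 0 := by exact_mod_cast hp' ▸ nz _ P pP
  have hr0 : (r : ℚ) ≠ 0 := by exact_mod_cast hr' ▸ nz _ R pR
  have hw0 : (w : ℚ) ≠ 0 := by exact_mod_cast hw' ▸ nz _ W sW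
  have hz0 : (z : ℚ) ≠ 0 := by exact_mod_cast hz' ▸ nz _ Z sZ
  have hzp : (z : ℚ) = -1 - (p : ℚ) := by exact_mod_cast (show z = -1 - p by linarith)
  have hwr : (w : ℚ) = 1 + (r : ℚ) := by exact_mod_cast (show w = 1 + r by linarith)
  norm_num at hm2 hm3 hm5
  have E1 : (g : ℚ) * ((p : ℚ) + 4) ^ 2 = 9216 * ((p : ℚ) * ((p : ℚ) + 1)) := by
    field_simp at hm2
    rw [hzp] at hm2
    linear_combination -hm2
  have E2 : (g : ℚ) * ((r : ℚ) - 2) ^ 2 = 4608 * ((r : ℚ) * ((r : ℚ) + 1)) := by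
    have h' : (g : ℚ) * (1 + 4 / (r : ℚ) - 9 / (w : ℚ)) = 4608 := by
      linear_combination hm5 - hm3
    field_simp at h'
    rw [hwr] at h'
    linear_combination h'
  rcases order_eq (g : ℤ) p r
    (by obtain ⟨o, rfl, ho⟩ := hg; exact ⟨(o : ℤ), by push_cast; ring, by exact_mod_cast ho⟩)
    (by exact_mod_cast E1) (by exact_mod_cast E2) with h | h
  · exact Or.inl (by exact_mod_cast h)
  · exact Or.inr (by exact_mod_cast h)

end

end Cfsg.Agent.Lib.Induced.GL23Arith
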