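import Cfsg.Agent.Lib.Induced.GL23
import Cfsg.Agent.Lib.Induced.GL23Arith
import Cfsg.Agent.Lib.Induced.Generalized
import Cfsg.Agent.Lib.Induced.Character
import Cfsg.Agent.Lib.Characters.Linear
import Cfsg.Agent.Lib.H80.ClassMult
import Cfsg.Agent.Lib.Fusion.Thompson

/-!
# Simple groups with an involution centraliser `GL(2,3)`

The order is computed from five generalized characters induced from a cyclic subgroup of order
eight and one of order six.
-/

namespace Cfsg.Agent.Lib.Induced.GL23Exceptional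

open Cfsg.Agent.Lib.Induced.Basic Cfsg.Agent.Lib.Induced.Generalized
  Cfsg.Agent.Lib.Characters.Basic Cfsg.Agent.Lib.Characters.Linear GL23
open scoped ComplexConjugate Classical

universe u

variable {G : Type u} [Group G]

section cyc

variable [Fintype G]

/-- The number of `g` with `g⁻¹ x g = y`. -/
noncomputable def cnt (x y : G) : ℕ := (Finset.univ.filter fun g : G => g⁻¹ * x * g = y).card

theorem cast_cnt (x y : G) : (cnt x y : ℂ) = ∑ g : G, if g⁻¹ * x * g = y then 1 else 0 := by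
  rw [cnt, Finset.sum_boole]

/-- The function induced from `φ` on the powers of `u`. -/
noncomputable def cyc (u : G) {n : ℕ} (φ : Fin n → ℂ) : G → ℂ :=
  fun x => (n : ℂ)⁻¹ * ∑ k : Fin n, φ k * (cnt x (u ^ (k : ℕ)) : ℂ)

theorem cyc_add (u : G) {n : ℕ} (φ ψ : Fin n → ℂ) :
    cyc u (fun k => φ k + ψ k) = cyc u φ + cyc u ψ := by
  funext x
  simp only [cyc, Pi.add_apply, add_mul, Finset.sum_add_distrib, mul_add]

theorem cyc_sub (u : G) {n : ℕ} (φ ψ : Fin n → ℂ) :
    cyc u (fun k => φ k - ψ k) = cyc u φ - cyc u ψ := by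
  funext x
  simp only [cyc, Pi.sub_apply, sub_mul, Finset.sum_sub_distrib, mul_sub]

theorem isGen_cyc_pow {u : G} {n : ℕ} (hn : orderOf u = n) (ω : ℂ) (hω : ω ^ n = 1) :
    Cfsg.IsGeneralizedCharacter G (cyc u fun k : Fin n => ω ^ (k : ℕ)) := by
  have hn0 : n ≠ 0 := hn ▸ (orderOf_pos u).ne'
  let g₀ : Subgroup.zpowers u := ⟨u, Subgroup.mem_zpowers u⟩
  have hgen : ∀ x : Subgroup.zpowers u, x ∈ Subgroup.zpowers g₀ := by
    rintro ⟨x, hx⟩
    obtain ⟨i, rfl⟩ := Subgroup.mem_zpowers_iff.mp hx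
    exact ⟨i, Subtype.ext (by simp [g₀])⟩
  have hω0 : ω ≠ 0 := fun h => by simp [h, hn0] at hω
  have hord : orderOf (Units.mk0 ω hω0) ∣ orderOf g₀ := by
    rw [show orderOf g₀ = n by rw [← Subgroup.orderOf_coe]; exact hn]
    exact orderOf_dvd_of_pow_eq_one (Units.ext (by simp [hω]))
  let lam : Subgroup.zpowers u →* ℂˣ := monoidHomOfForallMemZpowers hgen hord
  have hlam : ∀ k : ℕ, (lam ⟨u ^ k, Subgroup.pow_mem _ (Subgroup.mem_zpowers u) k⟩ : ℂ) = ω ^ k := by
    intro k
    have e : (⟨u ^ k, Subgroup.pow_mem _ (Subgroup.mem_zpowers u) k⟩ : Subgroup.zpowers u) =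
        g₀ ^ k := Subtype.ext (by simp [g₀])
    rw [e, map_pow, monoidHomOfForallMemZpowers_apply_gen]
    simp
  have hind : cyc u (fun k : Fin n => ω ^ (k : ℕ)) =
      Cfsg.indFun (Subgroup.zpowers u) (linChar lam : Subgroup.zpowers u → ℂ) := by
    funext x
    simp only [cyc, Cfsg.indFun, Nat.card_zpowers, hn, cast_cnt, Finset.mul_sum]
    rw [Finset.sum_comm]
    refine Finset.sum_congr rfl fun g _ => ?_
    rw [← Finset.mul_sum]
    congr 1
    by_cases hmem : g⁻¹ * x * g ∈ Subgroup.zpowers u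
    · rw [extendByZero_of_mem _ _ hmem]
      obtain ⟨k, hk⟩ := (mem_powers_iff_mem_zpowers.mpr hmem : g⁻¹ * x * g ∈ Submonoid.powers u)
      have hk' : u ^ (k % n) = g⁻¹ * x * g := by rw [← hn, pow_mod_orderOf]; exact hk
      rw [Finset.sum_eq_single (⟨k % n, Nat.mod_lt _ (Nat.pos_of_ne_zero hn0)⟩ : Fin n)]
      · rw [if_pos hk'.symm, mul_one, ← hlam, linChar_apply]
        simp only [hk']
      · intro j _ hj
        rw [if_neg, mul_zero]
        intro he
        refine hj (Fin.ext ?_)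
        have := pow_inj_mod.mp (hk'.trans he)
        rw [hn, Nat.mod_mod, Nat.mod_eq_of_lt j.2] at this
        exact this.symm
      · simp
    · rw [extendByZero_of_not_mem _ _ hmem]
      refine Finset.sum_eq_zero fun j _ => ?_
      rw [if_neg, mul_zero]
      exact fun he => hmem (he ▸ Subgroup.pow_mem _ (Subgroup.mem_zpowers u) _)
  rw [hind]
  exact Character.isGeneralizedCharacter_indFun _ (of_irr _)

theorem classInner_cyc (u : G) {n : ℕ} (φ : Fin n → ℂ) {χ : G → ℂ}
    (hχ : Cfsg.IsClassFunction G χ) :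
    Cfsg.classInner (cyc u φ) χ = (n : ℂ)⁻¹ * ∑ k : Fin n, φ k * conj (χ (u ^ (k : ℕ))) := by
  have key : ∀ y : G, ∑ x : G, (cnt x y : ℂ) * conj (χ x) = (Nat.card G : ℂ) * conj (χ y) := by
    intro y
    simp only [cast_cnt, Finset.sum_mul]
    rw [Finset.sum_comm, Nat.card_eq_fintype_card, ← Finset.card_univ, ← nsmul_eq_mul,
      ← Finset.sum_const]
    refine Finset.sum_congr rfl fun g _ => ?_
    rw [Finset.sum_eq_single (g * y * g⁻¹)]
    · rw [if_pos (by group), one_mul, hχ y g]
    · intro x _ hx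
      rw [if_neg, zero_mul]
      intro he
      exact hx (by rw [← he]; group)
    · simp
  have hG : (Nat.card G : ℂ) ≠ 0 := Nat.cast_ne_zero.mpr Nat.card_pos.ne'
  simp only [Cfsg.classInner, cyc, Finset.mul_sum, Finset.sum_mul]
  rw [Finset.sum_comm]
  refine Finset.sum_congr rfl fun k _ => ?_
  have h := key (u ^ (k : ℕ))
  calc ∑ x, (Nat.card G : ℂ)⁻¹ * ((n : ℂ)⁻¹ * (φ k * (cnt x (u ^ (k : ℕ)) : ℂ)) * conj (χ x))
      = (Nat.card G : ℂ)⁻¹ * ((n : ℂ)⁻¹ * φ k) *
          ∑ x, (cnt x (u ^ (k : ℕ)) : ℂ) * conj (χ x) := by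
        rw [Finset.mul_sum]; exact Finset.sum_congr rfl fun x _ => by ring
    _ = _ := by rw [h]; field_simp

theorem cnt_one {y : G} (hy : y ≠ 1) : cnt (1 : G) y = 0 := by
  simp [cnt, Ne.symm hy]

theorem sum_cnt_conj (t y : G) :
    ∑ a : G, ∑ b : G, (cnt (a * t * a⁻¹ * (b * t * b⁻¹)) y : ℂ) =
      (Nat.card G : ℂ) * ∑ a : G, ∑ b : G, if a * t * a⁻¹ * (b * t * b⁻¹) = y then 1 else 0 := by
  simp only [cast_cnt]
  rw [Nat.card_eq_fintype_card, ← Finset.card_univ, ← nsmul_eq_mul, ← Finset.sum_const]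
  conv_lhs => enter [2, a]; rw [Finset.sum_comm]
  rw [Finset.sum_comm]
  refine Finset.sum_congr rfl fun g _ => (Fintype.sum_equiv (Equiv.mulLeft g) _ _ fun a => ?_).symm
  refine Fintype.sum_equiv (Equiv.mulLeft g) _ _ fun b => ?_
  simp only [Equiv.coe_mulLeft]
  congr 1
  simp [mul_assoc]

end cyc

section setup

variable [Finite G] {t : G}
  (e : Subgroup.centralizer ({t} : Set G) ≃* Matrix.GeneralLinearGroup (Fin 2) (ZMod 3))

/-- The quadruple of an element of the centralizer. -/
def q (c : Subgroup.centralizer ({t} : Set G)) : T := toT (e c)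

theorem q_mul (a b : Subgroup.centralizer ({t} : Set G)) : q e (a * b) = mu (q e a) (q e b) := by
  simp [q, toT_mul]

theorem q_one : q e 1 = oneT := by simp [q, toT_one]

theorem q_pow (a : Subgroup.centralizer ({t} : Set G)) (n : ℕ) : q e (a ^ n) = pw (q e a) n := by
  simp [q, toT_pow]

theorem q_injective : Function.Injective (q e) := fun _ _ h => e.injective (toT_injective h)

theorem q_mem (a : Subgroup.centralizer ({t} : Set G)) : q e a ∈ inv := toT_mem _

theorem exists_q {x : T} (hx : x ∈ inv) : ∃ c, q e c = x := by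
  obtain ⟨A, hA⟩ := exists_toT_eq hx
  exact ⟨e.symm A, by simp [q, hA]⟩

theorem t_mem : t ∈ Subgroup.centralizer ({t} : Set G) := Subgroup.mem_centralizer_singleton_iff.mpr rfl

theorem q_t (ht : orderOf t = 2) : q e ⟨t, t_mem⟩ = tT := by
  obtain ⟨cu, hu⟩ := exists_q e uT_mem.1
  obtain ⟨cs, hs⟩ := exists_q e uT_mem.2.2
  have hc : ∀ c : Subgroup.centralizer ({t} : Set G), ⟨t, t_mem⟩ * c = c * ⟨t, t_mem⟩ := fun c =>
    Subtype.ext (Subgroup.mem_centralizer_singleton_iff.mp c.2).symm
  rcases centralize_us _ (q_mem e ⟨t, t_mem⟩) (by rw [← hu, ← q_mul, ← q_mul, hc])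
    (by rw [← hs, ← q_mul, ← q_mul, hc]) with h | h
  · rw [← q_one e] at h
    have : t = 1 := congrArg Subtype.val (q_injective e h)
    simp [this] at ht
  · exact h

theorem q_mem_invol {a : Subgroup.centralizer ({t} : Set G)} :
    q e a ∈ invol ↔ orderOf (a : G) = 2 := by
  have hiff : orderOf (a : G) = 2 ↔ (a * a = 1 ∧ a ≠ 1) := by
    rw [Subgroup.orderOf_coe]
    constructor
    · intro h
      refine ⟨?_, fun h1 => by simp [h1] at h⟩
      rw [← pow_two, ← h, pow_orderOf_eq_one]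
    · rintro ⟨h1, h2⟩
      exact orderOf_eq_prime (by rw [pow_two]; exact h1) h2
  rw [hiff]
  simp only [invol, Finset.mem_filter, q_mem, true_and]
  rw [← q_mul, ← q_one e, (q_injective e).eq_iff, ne_eq, (q_injective e).eq_iff]

include e in
theorem card_centralizer : Nat.card (Subgroup.centralizer ({t} : Set G)) = 48 := by
  rw [← card_inv]
  refine (Nat.card_eq_of_bijective
    (fun c : Subgroup.centralizer ({t} : Set G) => (⟨q e c, q_mem e c⟩ : {x // x ∈ inv}))
    ⟨fun a b h => q_injective e (congrArg Subtype.val h), fun x => ?_⟩).trans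
    (by rw [Nat.card_eq_fintype_card, Fintype.card_coe])
  obtain ⟨c, hc⟩ := exists_q e x.2
  exact ⟨c, Subtype.ext hc⟩

theorem mem_of_conj_pow (ht : orderOf t = 2) {x y : Subgroup.centralizer ({t} : Set G)} {m : ℕ}
    (hx : pw (q e x) m = tT) (hy : pw (q e y) m ∈ invol → pw (q e y) m = tT) {g : G}
    (hg : g⁻¹ * (x : G) * g = y) : g ∈ Subgroup.centralizer ({t} : Set G) := by
  have hxm : (x : G) ^ m = t := by
    have : x ^ m = ⟨t, t_mem⟩ := q_injective e (by rw [q_pow, hx, q_t e ht])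
    exact congrArg Subtype.val this
  have hym : (y : G) ^ m = g⁻¹ * t * g := by
    have h := (map_pow (MulAut.conj g⁻¹) (x : G) m).symm
    simp only [MulAut.conj_apply, inv_inv] at h
    rw [← hg, h]
    exact congrArg (fun a => g⁻¹ * a * g) hxm
  have hord : orderOf ((y ^ m : Subgroup.centralizer ({t} : Set G)) : G) = 2 := by
    rw [Subgroup.coe_pow, hym, ← ht]
    simpa using MulEquiv.orderOf_eq (MulAut.conj g⁻¹) t
  have h1 := (q_mem_invol e).mpr hord
  rw [q_pow] at h1
  have h2 : y ^ m = ⟨t, t_mem⟩ := q_injective e (by rw [q_pow, hy h1, q_t e ht])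
  have h3 : g⁻¹ * t * g = t := by rw [← hym, ← Subgroup.coe_pow, h2]
  rw [Subgroup.mem_centralizer_singleton_iff]
  calc g * t = g * (g⁻¹ * t * g) := by rw [h3]
    _ = t * g := by group

theorem cnt_eq [Fintype G] (ht : orderOf t = 2) {x y : Subgroup.centralizer ({t} : Set G)} {m : ℕ}
    (hx : pw (q e x) m = tT) (hy : pw (q e y) m ∈ invol → pw (q e y) m = tT) :
    cnt (x : G) (y : G) = nConj (q e x) (q e y) := by
  refine Finset.card_bij (fun g hg => q e ⟨g, mem_of_conj_pow e ht hx hy (Finset.mem_filter.mp hg).2⟩)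
    (fun g hg => ?_) (fun g _ g' _ h => congrArg Subtype.val (q_injective e h)) (fun z hz => ?_)
  · refine Finset.mem_filter.mpr ⟨q_mem e _, ?_⟩
    rw [← q_mul, ← q_mul]
    refine congrArg (q e) (Subtype.ext ?_)
    show (x : G) * g = g * y
    rw [← (Finset.mem_filter.mp hg).2]; group
  · obtain ⟨hz1, hz2⟩ := Finset.mem_filter.mp hz
    obtain ⟨c, hc⟩ := exists_q e hz1
    rw [← hc, ← q_mul, ← q_mul, (q_injective e).eq_iff] at hz2
    refine ⟨c, Finset.mem_filter.mpr ⟨Finset.mem_univ _, ?_⟩, hc⟩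
    have h := congrArg Subtype.val hz2
    simp only [Subgroup.coe_mul] at h
    rw [mul_assoc, h]; group

/-- The involutions. -/
noncomputable def invols [Fintype G] : Finset G := Finset.univ.filter fun i => orderOf i = 2

theorem card_pair [Fintype G] (ht : orderOf t = 2) {y : Subgroup.centralizer ({t} : Set G)} {m : ℕ}
    (hy : pw (q e y) m = tT) :
    ((invols (G := G)).filter fun i => i * (y : G) ∈ invols).card = nInv (q e y) := by
  have hym : (y : G) ^ m = t := by
    have : y ^ m = ⟨t, t_mem⟩ := q_injective e (by rw [q_pow, hy, q_t e ht])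
    exact congrArg Subtype.val this
  have sq : ∀ {i : G}, orderOf i = 2 → i * i = 1 := fun h => by
    rw [← pow_two, ← h, pow_orderOf_eq_one]
  have hmem : ∀ i : G, i ∈ invols.filter (fun i => i * (y : G) ∈ invols) →
      i ∈ Subgroup.centralizer ({t} : Set G) := by
    intro i hi
    simp only [invols, Finset.mem_filter, Finset.mem_univ, true_and] at hi
    have h1 := sq hi.1
    have hinv : i⁻¹ = i := inv_eq_of_mul_eq_one_right h1
    have h2 : i * (y : G) * i⁻¹ = (y : G)⁻¹ := by
      rw [hinv]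
      refine eq_inv_of_mul_eq_one_left ?_
      rw [mul_assoc]; exact sq hi.2
    have h3 : i * t * i⁻¹ = t⁻¹ := by
      rw [← hym, ← inv_pow, ← h2]
      simpa using map_pow (MulAut.conj i) (y : G) m
    rw [inv_eq_of_mul_eq_one_right (sq ht)] at h3
    rw [Subgroup.mem_centralizer_singleton_iff]
    exact mul_inv_eq_iff_eq_mul.mp h3
  refine Finset.card_bij (fun i hi => q e ⟨i, hmem i hi⟩) (fun i hi => ?_)
    (fun i _ i' _ h => congrArg Subtype.val (q_injective e h)) (fun z hz => ?_)
  · simp only [invols, Finset.mem_filter, Finset.mem_univ, true_and] at hi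
    have h1 := (q_mem_invol e (a := ⟨i, hmem i (by simp [invols, hi])⟩)).mpr hi.1
    have h2 := (q_mem_invol e (a := ⟨i, hmem i (by simp [invols, hi])⟩ * y)).mpr hi.2
    rw [q_mul] at h2
    exact Finset.mem_filter.mpr ⟨h1, (Finset.mem_filter.mp h2).2⟩
  · obtain ⟨hz1, hz2⟩ := Finset.mem_filter.mp hz
    obtain ⟨c, hc⟩ := exists_q e (Finset.mem_filter.mp hz1).1
    subst hc
    have h2 : q e (c * y) ∈ invol := by
      refine Finset.mem_filter.mpr ⟨q_mem e _, ?_⟩
      rw [q_mul]; exact hz2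
    refine ⟨c, ?_, rfl⟩
    simp only [invols, Finset.mem_filter, Finset.mem_univ, true_and]
    exact ⟨(q_mem_invol e).mp hz1, (q_mem_invol e).mp h2⟩

include e in
theorem card_eq_sixteen_mul_odd (ht : orderOf t = 2) :
    ∃ o, Nat.card G = 16 * o ∧ Odd o := by
  have : Fact (Nat.Prime 2) := ⟨Nat.prime_two⟩
  set C := Subgroup.centralizer ({t} : Set G) with hC
  obtain ⟨S⟩ := (inferInstance : Nonempty (Sylow 2 C))
  have hS : Nat.card (S : Subgroup C) = 16 := by
    rw [Sylow.card_eq_multiplicity, card_centralizer e]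
    rw [show (48 : ℕ) = 2 ^ 4 * 3 by norm_num, Nat.factorization_mul (by norm_num) (by norm_num),
      Nat.Prime.factorization_pow Nat.prime_two, Nat.Prime.factorization Nat.prime_three]
    simp
  obtain ⟨P, hP⟩ := (S.isPGroup'.map C.subtype).exists_le_sylow
  have htS : (⟨t, t_mem⟩ : C) ∈ (S : Subgroup C) := by
    have hz : Subgroup.zpowers (⟨t, t_mem⟩ : C) ≤ Subgroup.center C := by
      rw [Subgroup.zpowers_le, Subgroup.mem_center_iff]
      exact fun c => Subtype.ext (Subgroup.mem_centralizer_singleton_iff.mp c.2)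
    have : (Subgroup.zpowers (⟨t, t_mem⟩ : C)).Normal :=
      ⟨fun x hx g => by rw [Subgroup.mem_center_iff.mp (hz hx) g]; simpa using hx⟩
    have hp : IsPGroup 2 (Subgroup.zpowers (⟨t, t_mem⟩ : C)) :=
      IsPGroup.of_card (n := 1) (by rw [Nat.card_zpowers, Subgroup.orderOf_mk, ht, pow_one])
    have hsup := S.3 (hp.to_sup_of_normal_left S.isPGroup') le_sup_right
    exact hsup.le (Subgroup.mem_sup_left (Subgroup.mem_zpowers _))
  have hPne : Nontrivial (P : Subgroup G) := (Subgroup.nontrivial_iff_ne_bot _).mpr fun h => by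
    have := hP (Subgroup.mem_map_of_mem C.subtype htS)
    rw [h, Subgroup.mem_bot] at this
    simp [show t = 1 from this] at ht
  obtain ⟨k, hk, hcard⟩ := ((P.isPGroup').to_subgroup
    (Subgroup.center (P : Subgroup G))).nontrivial_iff_card.mp P.isPGroup'.center_nontrivial
  obtain ⟨w, hw⟩ := exists_prime_orderOf_dvd_card' (G := Subgroup.center (P : Subgroup G)) 2
    (by rw [hcard]; exact dvd_pow_self 2 hk.ne')
  set z : G := ((w : (P : Subgroup G)) : G) with hz
  have hzo : orderOf z = 2 := by rw [hz, Subgroup.orderOf_coe, Subgroup.orderOf_coe, hw]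
  have hzc : ∀ x ∈ (P : Subgroup G), z * x = x * z := fun x hx =>
    (congrArg Subtype.val (Subgroup.mem_center_iff.mp w.2 ⟨x, hx⟩)).symm
  have htP : t ∈ (P : Subgroup G) := hP ⟨_, htS, rfl⟩
  have hzC : z ∈ C := Subgroup.mem_centralizer_singleton_iff.mpr (hzc t htP)
  have hzinv := (q_mem_invol e (a := ⟨z, hzC⟩)).mpr hzo
  have hzt : q e ⟨z, hzC⟩ = tT := by
    by_contra hne
    have h4 := invol_centralizer _ hzinv hne
    have hle : Nat.card (S : Subgroup C) ≤ 4 := by
      rw [← h4, ← Fintype.card_coe, ← Nat.card_eq_fintype_card]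
      refine Nat.card_le_card_of_injective (fun s => ⟨q e s.1, Finset.mem_filter.mpr
        ⟨q_mem e _, ?_⟩⟩) fun a b h => Subtype.ext (q_injective e (congrArg Subtype.val h))
      rw [← q_mul, ← q_mul]
      exact congrArg (q e) (Subtype.ext (hzc _ (hP ⟨_, s.2, rfl⟩)).symm)
    omega
  have hzeq : z = t := by
    rw [← q_t e ht] at hzt
    exact congrArg Subtype.val (q_injective e hzt)
  have hPC : (P : Subgroup G) ≤ C := fun x hx =>
    Subgroup.mem_centralizer_singleton_iff.mpr (by rw [← hzeq]; exact (hzc x hx).symm)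
  have h16 : Nat.card (P : Subgroup G) = 16 := by
    refine Nat.dvd_antisymm ?_ ?_
    · rw [← hS]
      have hPS := Subgroup.card_subgroup_dvd_card ((P : Subgroup G).subgroupOf C)
      rw [Nat.card_congr (Subgroup.subgroupOfEquivOfLe hPC).toEquiv] at hPS
      have h2 : IsPGroup 2 ((P : Subgroup G).subgroupOf C) := P.isPGroup'.comap_subtype
      obtain ⟨T, hT⟩ := h2.exists_le_sylow
      rw [← Nat.card_congr (Subgroup.subgroupOfEquivOfLe hPC).toEquiv]
      exact (Subgroup.card_dvd_of_le hT).trans (dvd_of_eq (by rw [Sylow.card_eq_multiplicity,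
        Sylow.card_eq_multiplicity]))
    · rw [← hS, ← Subgroup.card_map_of_injective C.subtype_injective]
      exact Subgroup.card_dvd_of_le hP
  refine ⟨(P : Subgroup G).index, by rw [← h16, Subgroup.card_mul_index], ?_⟩
  exact Nat.odd_iff.mpr (Nat.two_dvd_ne_zero.mp P.not_dvd_index)

end setup

end Cfsg.Agent.Lib.Induced.GL23Exceptional
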