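import Cfsg.Agent.Lib.Induced.GL23Exceptional

/-!
# The order of a simple group with an involution centraliser `GL(2,3)`
-/

namespace Cfsg.Agent.Lib.Induced.GL23Order

open Cfsg.Agent.Lib.Induced.Basic Cfsg.Agent.Lib.Induced.Generalized
  Cfsg.Agent.Lib.Characters.Basic Cfsg.Agent.Lib.Characters.Linear GL23 GL23Exceptional
open scoped ComplexConjugate Classical

universe u

/-- The value at special elements: `t, u², w, u, u⁵`. -/
noncomputable def pick (c : Fin 5 → ℂ) (A B T' A' P Z : ℂ) : ℂ :=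
  (8 : ℂ)⁻¹ * (A * c 3 + B * c 1 + T' * c 0 + A' * c 4) + (6 : ℂ)⁻¹ * (P * c 2 + Z * c 0)

/-- Values of the class function at the special classes. -/
noncomputable def valsOf (A B T' A' P Z : ℂ) : Fin 5 → ℂ :=
  ![6 * T' + 8 * Z, B, P, A, A']

theorem vals0 (A B T' A' P Z : ℂ) : valsOf A B T' A' P Z 0 = 6 * T' + 8 * Z := rfl

theorem vals1 (A B T' A' P Z : ℂ) : valsOf A B T' A' P Z 1 = B := rfl

theorem vals2 (A B T' A' P Z : ℂ) : valsOf A B T' A' P Z 2 = P := rfl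

theorem vals3 (A B T' A' P Z : ℂ) : valsOf A B T' A' P Z 3 = A := rfl

theorem vals4 (A B T' A' P Z : ℂ) : valsOf A B T' A' P Z 4 = A' := rfl

theorem zeta_facts {ζ : ℂ} (h4 : ζ ^ 4 = -1) :
    ζ ^ 5 = -ζ ∧ ζ ^ 6 = -ζ ^ 2 ∧ ζ ^ 7 = -ζ ^ 3 ∧ ζ ^ 8 = 1 ∧ ζ ^ 10 = ζ ^ 2 ∧ ζ ^ 12 = -1 ∧
      ζ ^ 14 = -ζ ^ 2 := by
  refine ⟨?_, ?_, ?_, ?_, ?_, ?_, ?_⟩
  · linear_combination ζ * h4
  · linear_combination ζ ^ 2 * h4
  · linear_combination ζ ^ 3 * h4
  · linear_combination (ζ ^ 4 - 1) * h4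
  · linear_combination (ζ ^ 6 - ζ ^ 2) * h4
  · linear_combination (ζ ^ 8 - ζ ^ 4 + 1) * h4
  · linear_combination (ζ ^ 10 - ζ ^ 6 + ζ ^ 2) * h4

variable {G : Type u} [Group G] [Fintype G]

section data

variable {t : G} (ht : orderOf t = 2)
  (e : Subgroup.centralizer ({t} : Set G) ≃* Matrix.GeneralLinearGroup (Fin 2) (ZMod 3))
  {cu cw : Subgroup.centralizer ({t} : Set G)} (hu : q e cu = uT) (hw : q e cw = wT)

/-- The five special elements. -/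
def elts (u w : G) : Fin 5 → G := ![u ^ 4, u ^ 2, w ^ 1, u ^ 1, u ^ 5]

/-- The class function built from `φ` and `φ'`. -/
noncomputable def psi (u w : G) (φ : Fin 8 → ℂ) (φ' : Fin 6 → ℂ) : G → ℂ := cyc u φ + cyc w φ'

include ht hu hw

theorem orders : orderOf (cu : G) = 8 ∧ orderOf (cw : G) = 6 := by
  have key : ∀ (c : Subgroup.centralizer ({t} : Set G)) (n : ℕ) (A : T), q e c = A → 0 < n →
      pw A n = oneT → (∀ k : Fin n, pw A k = oneT → (k : ℕ) = 0) → orderOf (c : G) = n := by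
    intro c n A hc hn h1 h2
    rw [Subgroup.orderOf_coe, orderOf_eq_iff hn]
    refine ⟨q_injective e (by rw [q_pow, hc, h1, q_one]), fun k hk hk0 h => ?_⟩
    have := h2 ⟨k, hk⟩ (by rw [← hc, ← q_pow, h, q_one])
    simp at this
    omega
  exact ⟨key cu 8 uT hu (by norm_num) pow_data.1 (fun k hk => by rw [u_order k hk]; rfl),
    key cw 6 wT hw (by norm_num) pow_data.2.2.1 (fun k hk => by rw [w_order k hk]; rfl)⟩

theorem q_elts (i : Fin 5) :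
    ∃ x : Subgroup.centralizer ({t} : Set G), (x : G) = elts (cu : G) (cw : G) i ∧
      q e x = special i := by
  fin_cases i
  · exact ⟨cu ^ 4, rfl, by rw [q_pow, hu]; rfl⟩
  · exact ⟨cu ^ 2, rfl, by rw [q_pow, hu]; rfl⟩
  · exact ⟨cw ^ 1, rfl, by rw [q_pow, hw]; rfl⟩
  · exact ⟨cu ^ 1, rfl, by rw [q_pow, hu]; rfl⟩
  · exact ⟨cu ^ 5, rfl, by rw [q_pow, hu]; rfl⟩

theorem cnt_u (i : Fin 5) (k : Fin 8) :
    cnt (elts (cu : G) (cw : G) i) ((cu : G) ^ (k : ℕ)) =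
      nConj (special i) (pw uT k) := by
  obtain ⟨x, hx, hqx⟩ := q_elts ht e hu hw i
  have hy : q e (cu ^ (k : ℕ)) = pw uT k := by rw [q_pow, hu]
  rw [← hx, ← Subgroup.coe_pow, cnt_eq e ht (m := specialExp i) (by rw [hqx, special_pow])
    (by rw [hy]; exact special_target_u i k), hqx, hy]

theorem cnt_w (i : Fin 5) (k : Fin 6) :
    cnt (elts (cu : G) (cw : G) i) ((cw : G) ^ (k : ℕ)) =
      nConj (special i) (pw wT k) := by
  obtain ⟨x, hx, hqx⟩ := q_elts ht e hu hw i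
  have hy : q e (cw ^ (k : ℕ)) = pw wT k := by rw [q_pow, hw]
  rw [← hx, ← Subgroup.coe_pow, cnt_eq e ht (m := specialExp i) (by rw [hqx, special_pow])
    (by rw [hy]; exact special_target_w i k), hqx, hy]

theorem psi_elts (φ : Fin 8 → ℂ) (φ' : Fin 6 → ℂ) (i : Fin 5) :
    psi (cu : G) (cw : G) φ φ' (elts (cu : G) (cw : G) i) =
      valsOf (φ 1 + φ 3) (φ 2 + φ 6) (φ 4) (φ 5 + φ 7) (φ' 1 + φ' 5) (φ' 3) i := by
  simp only [psi, Pi.add_apply, cyc, cnt_u ht e hu hw, cnt_w ht e hu hw, nConj_u, nConj_w,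
    Fin.sum_univ_eight, Fin.sum_univ_six]
  fin_cases i <;> simp [valsOf] <;> ring

theorem psi_one (φ : Fin 8 → ℂ) (φ' : Fin 6 → ℂ) (h0 : φ 0 = 0) (h0' : φ' 0 = 0) :
    psi (cu : G) (cw : G) φ φ' 1 = 0 := by
  obtain ⟨ou, ow⟩ := orders ht e hu hw
  have h1 : ∀ (y : G) (n : ℕ), orderOf y = n → ∀ k : Fin n, (k : ℕ) ≠ 0 →
      cnt (1 : G) (y ^ (k : ℕ)) = 0 := fun y n hy k hk =>
    cnt_one (fun h => hk (Nat.eq_zero_of_dvd_of_lt (orderOf_dvd_of_pow_eq_one h) (hy ▸ k.2)))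
  simp only [psi, Pi.add_apply, cyc]
  rw [Finset.sum_eq_zero, Finset.sum_eq_zero]
  · simp
  · intro k _
    by_cases hk : k = 0
    · subst hk; simp [h0']
    · rw [h1 _ _ ow k (fun h => hk (Fin.ext h))]; simp
  · intro k _
    by_cases hk : k = 0
    · subst hk; simp [h0]
    · rw [h1 _ _ ou k (fun h => hk (Fin.ext h))]; simp

theorem classInner_psi (φ : Fin 8 → ℂ) (φ' : Fin 6 → ℂ) (h0 : φ 0 = 0) (h0' : φ' 0 = 0)
    (h24 : φ' 2 + φ' 4 = 0) {χ : G → ℂ} (hχ : Cfsg.IsClassFunction G χ) :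
    Cfsg.classInner (psi (cu : G) (cw : G) φ φ') χ =
      pick (fun i => conj (χ (elts (cu : G) (cw : G) i)))
        (φ 1 + φ 3) (φ 2 + φ 6) (φ 4) (φ 5 + φ 7) (φ' 1 + φ' 5) (φ' 3) := by
  obtain ⟨c13, c26, c57, cw15, cw24⟩ := conj_data
  have hc : ∀ (a b : Subgroup.centralizer ({t} : Set G)),
      (∃ g ∈ GL23.inv, mu (q e a) g = mu g (q e b)) → χ (b : G) = χ (a : G) := by
    rintro a b ⟨g, hg, hgab⟩
    obtain ⟨c, rfl⟩ := exists_q e hg
    rw [← q_mul, ← q_mul, (q_injective e).eq_iff] at hgab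
    have h : (a : G) * c = c * b := congrArg Subtype.val hgab
    rw [← hχ (b : G) (c : G), ← h]
    simp [mul_assoc]
  have u13 := hc (cu ^ 1) (cu ^ 3) (by rw [q_pow, q_pow, hu]; exact c13)
  have u26 := hc (cu ^ 2) (cu ^ 6) (by rw [q_pow, q_pow, hu]; exact c26)
  have u57 := hc (cu ^ 5) (cu ^ 7) (by rw [q_pow, q_pow, hu]; exact c57)
  have w15 := hc (cw ^ 1) (cw ^ 5) (by rw [q_pow, q_pow, hw]; exact cw15)
  have w24 := hc (cw ^ 2) (cw ^ 4) (by rw [q_pow, q_pow, hw]; exact cw24)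
  simp only [Subgroup.coe_pow] at u13 u26 u57 w15 w24
  have hw3 : (cw : G) ^ 3 = (cu : G) ^ 4 := by
    have : cw ^ 3 = cu ^ 4 := q_injective e (by
      rw [q_pow, q_pow, hu, hw, pow_data.2.2.2, pow_data.2.1])
    exact congrArg Subtype.val this
  simp only [psi, classInner_add_left, classInner_cyc _ _ hχ, Fin.sum_univ_eight,
    Fin.sum_univ_six, pick, elts, Fin.val_zero, h0, h0', zero_mul]
  simp only [Fin.isValue, Fin.val_one, Fin.val_two, show ((3 : Fin 8) : ℕ) = 3 from rfl,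
    show ((4 : Fin 8) : ℕ) = 4 from rfl, show ((5 : Fin 8) : ℕ) = 5 from rfl,
    show ((6 : Fin 8) : ℕ) = 6 from rfl, show ((7 : Fin 8) : ℕ) = 7 from rfl,
    show ((3 : Fin 6) : ℕ) = 3 from rfl, show ((4 : Fin 6) : ℕ) = 4 from rfl,
    show ((5 : Fin 6) : ℕ) = 5 from rfl, u13, u26, u57, w15, w24, hw3]
  simp
  linear_combination (conj (χ ((cw : G) ^ 2)) / 6) * h24

theorem sum_psi [IsSimpleGroup G] (φ : Fin 8 → ℂ) (φ' : Fin 6 → ℂ) (h0 : φ 0 = 0)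
    (h0' : φ' 0 = 0) (h24 : φ' 2 + φ' 4 = 0)
    (hall : ∀ i : G, orderOf i = 2 → ∃ g : G, g * t * g⁻¹ = i) :
    ∑ a : G, ∑ b : G, psi (cu : G) (cw : G) φ φ' (a * t * a⁻¹ * (b * t * b⁻¹)) =
      (Nat.card G : ℂ) * 2304 *
        ((8 : ℂ)⁻¹ * (4 * (φ 2 + φ 6) + 12 * φ 4) +
          (6 : ℂ)⁻¹ * (6 * (φ' 1 + φ' 5) + 12 * φ' 3)) := by
  have sq : ∀ {i : G}, i ∈ invols → i⁻¹ = i := fun {i} hi => by
    have h := (Finset.mem_filter.mp hi).2
    apply inv_eq_of_mul_eq_one_right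
    rw [← pow_two, ← h, pow_orderOf_eq_one]
  -- each involution is `a t a⁻¹` for 48 elements `a`
  have hfib : ∀ f : G → ℂ, ∑ a : G, f (a * t * a⁻¹) = 48 * ∑ i ∈ invols, f i := by
    intro f
    rw [Finset.mul_sum, ← Finset.sum_fiberwise_of_maps_to (g := fun a : G => a * t * a⁻¹)
      (t := invols) (fun a _ => Finset.mem_filter.mpr ⟨Finset.mem_univ _, by
        rw [← ht]; exact MulEquiv.orderOf_eq (MulAut.conj a) t⟩)]
    refine Finset.sum_congr rfl fun i hi => ?_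
    obtain ⟨g, hg⟩ := hall i (Finset.mem_filter.mp hi).2
    rw [Finset.sum_congr rfl (g := fun _ => f i) (fun a ha => by
      rw [(Finset.mem_filter.mp ha).2]), Finset.sum_const, nsmul_eq_mul]
    congr 1
    rw [show (48 : ℂ) = ((48 : ℕ) : ℂ) by norm_num, ← card_centralizer e, Nat.cast_inj,
      ← Fintype.card_subtype, ← Nat.card_eq_fintype_card]
    refine Nat.card_congr
      { toFun := fun a => ⟨g⁻¹ * a.1, ?_⟩
        invFun := fun c => ⟨g * c.1, ?_⟩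
        left_inv := fun a => Subtype.ext (by simp)
        right_inv := fun c => Subtype.ext (by simp) }
    · obtain ⟨a, ha⟩ := a
      rw [Subgroup.mem_centralizer_singleton_iff]
      have h : a * t * a⁻¹ = g * t * g⁻¹ := ha.trans hg.symm
      calc g⁻¹ * a * t = g⁻¹ * (a * t * a⁻¹) * a := by group
        _ = _ := by rw [h]; group
    · have hc := Subgroup.mem_centralizer_singleton_iff.mp c.2
      show g * c.1 * t * (g * c.1)⁻¹ = i
      rw [← hg]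
      calc g * c.1 * t * (g * c.1)⁻¹ = g * (c.1 * t) * c.1⁻¹ * g⁻¹ := by group
        _ = _ := by rw [hc]; group
  have hN : ∀ y : G, (∑ a : G, ∑ b : G,
      if a * t * a⁻¹ * (b * t * b⁻¹) = y then (1 : ℂ) else 0) =
      2304 * ((invols.filter fun i => i * y ∈ invols).card : ℂ) := by
    intro y
    have hb : ∀ i ∈ invols, (∑ b : G, if i * (b * t * b⁻¹) = y then (1 : ℂ) else 0) =
        if i * y ∈ invols then 48 else 0 := by
      intro i hi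
      rw [hfib (fun j => if i * j = y then (1 : ℂ) else 0)]
      rw [Finset.sum_congr rfl (g := fun j => if j = i * y then (1 : ℂ) else 0) (fun j _ => by
        simp only [eq_comm (a := j), ← eq_inv_mul_iff_mul_eq, sq hi])]
      rw [Finset.sum_ite_eq']
      split_ifs <;> simp
    rw [hfib (fun i => ∑ b : G, if i * (b * t * b⁻¹) = y then (1 : ℂ) else 0),
      Finset.sum_congr rfl hb, ← Finset.sum_filter, Finset.sum_const, nsmul_eq_mul]
    ring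
  have hsum : ∀ {n : ℕ} (y : G) (ψ : Fin n → ℂ),
      ∑ a : G, ∑ b : G, cyc y ψ (a * t * a⁻¹ * (b * t * b⁻¹)) =
        (Nat.card G : ℂ) * 2304 * ((n : ℂ)⁻¹ * ∑ k : Fin n, ψ k *
          ((invols.filter fun i => i * y ^ (k : ℕ) ∈ invols).card : ℂ)) := by
    intro n y ψ
    simp only [cyc, Finset.mul_sum]
    conv_lhs => enter [2, a]; rw [Finset.sum_comm]
    rw [Finset.sum_comm]
    refine Finset.sum_congr rfl fun k _ => ?_
    have h := sum_cnt_conj t (y ^ (k : ℕ))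
    rw [hN] at h
    simp only [← Finset.mul_sum]
    rw [h]; ring
  have hFu : ∀ k : Fin 8, φ k * ((invols.filter fun i => i * (cu : G) ^ (k : ℕ) ∈ invols).card : ℂ) =
      φ k * ((![13, 0, 4, 0, 12, 0, 4, 0] : Fin 8 → ℕ) k : ℂ) := by
    intro k
    by_cases hk : k = 0
    · subst hk; simp [h0]
    · obtain ⟨m, hm⟩ := u_to_t k hk
      have hy : q e (cu ^ (k : ℕ)) = pw uT k := by rw [q_pow, hu]
      rw [← Subgroup.coe_pow, card_pair e ht (m := m) (by rw [hy, hm]), hy, nInv_u]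
  have hFw : ∀ k : Fin 6, (k = 1 ∨ k = 3 ∨ k = 5) →
      (invols.filter fun i => i * (cw : G) ^ (k : ℕ) ∈ invols).card =
        (![13, 6, 6, 12, 6, 6] : Fin 6 → ℕ) k := by
    intro k hk
    obtain ⟨m, hm⟩ := w_to_t k hk
    have hy : q e (cw ^ (k : ℕ)) = pw wT k := by rw [q_pow, hw]
    rw [← Subgroup.coe_pow, card_pair e ht (m := m) (by rw [hy, hm]), hy, nInv_w]
  -- the two elements of order three are inverse to each other
  have hF24 : (invols.filter fun i => i * (cw : G) ^ 4 ∈ invols).card =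
      (invols.filter fun i => i * (cw : G) ^ 2 ∈ invols).card := by
    have h6 : (cw : G) ^ 4 * (cw : G) ^ 2 = 1 := by
      rw [← pow_add]
      have := pow_orderOf_eq_one (cw : G)
      rwa [(orders ht e hu hw).2] at this
    have h6' : (cw : G) ^ 2 * (cw : G) ^ 4 = 1 := by
      rw [← pow_add]
      have := pow_orderOf_eq_one (cw : G)
      rwa [(orders ht e hu hw).2] at this
    refine Finset.card_nbij' (fun i => i * (cw : G) ^ 4) (fun i => i * (cw : G) ^ 2)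
      (fun i hi => ?_) (fun i hi => ?_) (fun i _ => by simp [mul_assoc, h6])
      (fun i _ => by simp [mul_assoc, h6'])
    · rw [Finset.mem_coe, Finset.mem_filter] at hi ⊢
      exact ⟨hi.2, by simpa [mul_assoc, h6] using hi.1⟩
    · rw [Finset.mem_coe, Finset.mem_filter] at hi ⊢
      exact ⟨hi.2, by simpa [mul_assoc, h6'] using hi.1⟩
  simp only [psi, Pi.add_apply, Finset.sum_add_distrib, hsum, hFu]
  rw [Fin.sum_univ_six, Fin.sum_univ_eight]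
  simp only [Fin.isValue, h0', zero_mul, hFw 1 (Or.inl rfl), hFw 3 (Or.inr (Or.inl rfl)),
    hFw 5 (Or.inr (Or.inr rfl)), show ((4 : Fin 6) : ℕ) = 4 from rfl, Fin.val_two, hF24]
  simp [h0]
  linear_combination ((Fintype.card G : ℂ) * 2304 / 6 *
    ((invols.filter fun i => i * (cw : G) ^ 2 ∈ invols).card : ℂ)) * h24

end data

omit [Fintype G] in
theorem isClassFunction_conj {χ : G → ℂ} (h : Cfsg.IsClassFunction G χ) :
    Cfsg.IsClassFunction G (fun g => conj (χ g)) := fun a b => by simp [h a b]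

theorem isGen_psi {u w : G} (hu : orderOf u = 8) (hw : orderOf w = 6) (ω : Fin 4 → ℂ)
    (hω : ∀ i, ω i ^ 8 = 1) (κ κ' : ℂ) (hκ : κ ^ 6 = 1) (hκ' : κ' ^ 6 = 1)
    (φ : Fin 8 → ℂ) (φ' : Fin 6 → ℂ)
    (hφ : ∀ k, φ k = ω 0 ^ (k : ℕ) + ω 1 ^ (k : ℕ) - ω 2 ^ (k : ℕ) - ω 3 ^ (k : ℕ))
    (hφ' : ∀ k, φ' k = κ ^ (k : ℕ) - κ' ^ (k : ℕ)) :
    Cfsg.IsGeneralizedCharacter G (psi u w φ φ') := by
  have e1 : φ = fun k : Fin 8 =>
      ω 0 ^ (k : ℕ) + ω 1 ^ (k : ℕ) - ω 2 ^ (k : ℕ) - ω 3 ^ (k : ℕ) :=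
    funext hφ
  rw [psi, e1, funext hφ', cyc_sub, cyc_sub, cyc_add, cyc_sub]
  exact isGen_add
    (isGen_sub (isGen_sub (isGen_add (isGen_cyc_pow hu _ (hω 0)) (isGen_cyc_pow hu _ (hω 1)))
      (isGen_cyc_pow hu _ (hω 2))) (isGen_cyc_pow hu _ (hω 3)))
    (isGen_sub (isGen_cyc_pow hw _ hκ) (isGen_cyc_pow hw _ hκ'))

theorem isGen_psi_two {u w : G} (hu : orderOf u = 8) (hw : orderOf w = 6) (ω ω' : ℂ)
    (hω : ω ^ 8 = 1) (hω' : ω' ^ 8 = 1) (κ κ' : ℂ) (hκ : κ ^ 6 = 1) (hκ' : κ' ^ 6 = 1) :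
    Cfsg.IsGeneralizedCharacter G (psi u w (fun k => ω ^ (k : ℕ) - ω' ^ (k : ℕ))
      (fun k => κ ^ (k : ℕ) - κ' ^ (k : ℕ))) := by
  rw [psi, cyc_sub, cyc_sub]
  exact isGen_add (isGen_sub (isGen_cyc_pow hu _ hω) (isGen_cyc_pow hu _ hω'))
    (isGen_sub (isGen_cyc_pow hw _ hκ) (isGen_cyc_pow hw _ hκ'))

theorem order_eq [IsSimpleGroup G] {t : G} (ht : orderOf t = 2)
    (e : Subgroup.centralizer ({t} : Set G) ≃* Matrix.GeneralLinearGroup (Fin 2) (ZMod 3)) :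
    Nat.card G = 5616 ∨ Nat.card G = 7920 := by
  have := Fintype.ofFinite (Cfsg.IrrCharacter G)
  obtain ⟨cu, hu⟩ := exists_q e uT_mem.1
  obtain ⟨cw, hw⟩ := exists_q e uT_mem.2.1
  obtain ⟨ou, ow⟩ := orders ht e hu hw
  obtain ⟨o_odd, hgo, hodd⟩ := card_eq_sixteen_mul_odd e ht
  -- all involutions are conjugate
  have hall : ∀ i : G, orderOf i = 2 → ∃ g : G, g * t * g⁻¹ = i := by
    intro i hi
    have hidx : (Subgroup.zpowers (cu : G)).index % 4 = 2 := by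
      have h := (Subgroup.zpowers (cu : G)).card_mul_index
      rw [Nat.card_zpowers, ou, hgo] at h
      obtain ⟨k, hk⟩ := hodd
      omega
    have hno : ∀ N : Subgroup G, N.index ≠ 2 := by
      intro N hN
      rcases (Subgroup.normal_of_index_eq_two hN).eq_bot_or_eq_top with h | h
      · rw [h, Subgroup.index_bot] at hN
        have := Subgroup.card_subgroup_dvd_card (Subgroup.centralizer ({t} : Set G))
        rw [card_centralizer e, hN] at this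
        omega
      · rw [h, Subgroup.index_top] at hN; omega
    obtain ⟨g, hg⟩ := Fusion.Thompson.exists_conj_mem _ hidx hno i hi
    obtain ⟨k, hk⟩ := (mem_powers_iff_mem_zpowers.mpr hg :
      g * i * g⁻¹ ∈ Submonoid.powers (cu : G))
    have hk' : (cu : G) ^ (k % 8) = g * i * g⁻¹ := by rw [← ou, pow_mod_orderOf]; exact hk
    have hord : orderOf ((cu ^ (k % 8) : Subgroup.centralizer ({t} : Set G)) : G) = 2 := by
      rw [Subgroup.coe_pow, hk', ← hi]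
      exact MulEquiv.orderOf_eq (MulAut.conj g) i
    have h1 := (q_mem_invol e).mpr hord
    rw [q_pow, hu] at h1
    have h2 := u_involutions ⟨k % 8, Nat.mod_lt _ (by norm_num)⟩ h1
    have h3 : cu ^ (k % 8) = ⟨t, t_mem⟩ := q_injective e (by rw [q_pow, hu, q_t e ht]; exact h2)
    have h4 : g * i * g⁻¹ = t := by
      rw [← hk', ← Subgroup.coe_pow, h3]
    exact ⟨g⁻¹, by rw [← h4]; group⟩
  -- the roots of unity
  obtain ⟨ζ, hζ⟩ := IsAlgClosed.exists_pow_nat_eq Complex.I (n := 2) (by norm_num)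
  have h4 : ζ ^ 4 = -1 := by
    rw [show (4 : ℕ) = 2 * 2 from rfl, pow_mul, hζ, Complex.I_sq]
  obtain ⟨z5, z6, z7, z8, z10, z12, z14⟩ := zeta_facts h4
  obtain ⟨κ, hκ2⟩ : ∃ κ : ℂ, κ ^ 2 = κ - 1 := by
    obtain ⟨s, hs⟩ := IsAlgClosed.exists_pow_nat_eq (-3 : ℂ) (n := 2) (by norm_num)
    exact ⟨(1 + s) / 2, by linear_combination (1 / 4 : ℂ) * hs⟩
  have k3 : κ ^ 3 = -1 := by linear_combination (κ + 1) * hκ2
  have k6 : κ ^ 6 = 1 := by linear_combination (κ ^ 3 - 1) * k3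
  have k6' : (κ ^ 2) ^ 6 = 1 := by rw [← pow_mul, mul_comm, pow_mul, k6, one_pow]
  let F2 : ℕ → ℂ := fun k => 1 ^ k + (ζ ^ 2) ^ k - ζ ^ k - (-ζ) ^ k
  let F3 : ℕ → ℂ := fun k => (-1) ^ k + (-ζ ^ 2) ^ k - ζ ^ k - (-ζ) ^ k
  let F5 : ℕ → ℂ := fun k => 1 ^ k + (-1) ^ k - ζ ^ k - (-ζ) ^ k
  let F4 : ℕ → ℂ := fun k => (-ζ) ^ k - (ζ ^ 2) ^ k
  let E : ℕ → ℂ := fun k => κ ^ k - (κ ^ 2) ^ k
  let E' : ℕ → ℂ := fun k => (κ ^ 2) ^ k - κ ^ k
  let φ2 : Fin 8 → ℂ := fun k => F2 k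
  let φ3 : Fin 8 → ℂ := fun k => F3 k
  let φ5 : Fin 8 → ℂ := fun k => F5 k
  let φ4 : Fin 8 → ℂ := fun k => F4 k
  let η : Fin 6 → ℂ := fun k => E k
  let η' : Fin 6 → ℂ := fun k => E' k
  obtain ⟨r, hr⟩ : ∃ r, r = ζ + ζ ^ 3 := ⟨_, rfl⟩
  have hrr : r * r = -2 := by rw [hr]; linear_combination z6 + 2 * h4
  have hζn : ‖ζ‖ = 1 := Complex.norm_eq_one_of_pow_eq_one z8 (by norm_num)
  have hcζ : conj ζ = -ζ ^ 3 := by
    rw [← Complex.inv_eq_conj hζn]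
    exact inv_eq_of_mul_eq_one_right (by linear_combination -h4)
  have hcr : conj r = -r := by
    rw [hr, map_add, map_pow, hcζ]
    linear_combination (-ζ) * z8
  -- the constants
  have d2 : φ2 0 = 0 ∧ φ2 1 + φ2 3 = 2 ∧ φ2 2 + φ2 6 = 0 ∧ φ2 4 = 4 ∧ φ2 5 + φ2 7 = 2 := by
    refine ⟨?_, ?_, ?_, ?_, ?_⟩
    · show F2 0 = 0; simp [F2]
    · show F2 1 + F2 3 = 2; simp only [F2]; linear_combination z6
    · show F2 2 + F2 6 = 0; simp only [F2]; linear_combination h4 + z12 - 2 * z6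
    · show F2 4 = 4; simp only [F2]; linear_combination z8 - 2 * h4
    · show F2 5 + F2 7 = 2; simp only [F2]; linear_combination z10 + z14
  have d3 : φ3 0 = 0 ∧ φ3 1 + φ3 3 = -2 ∧ φ3 2 + φ3 6 = 0 ∧ φ3 4 = 4 ∧ φ3 5 + φ3 7 = -2 := by
    refine ⟨?_, ?_, ?_, ?_, ?_⟩
    · show F3 0 = 0; simp [F3]
    · show F3 1 + F3 3 = -2; simp only [F3]; linear_combination -z6
    · show F3 2 + F3 6 = 0; simp only [F3]; linear_combination h4 + z12 - 2 * z6
    · show F3 4 = 4; simp only [F3]; linear_combination z8 - 2 * h4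
    · show F3 5 + F3 7 = -2; simp only [F3]; linear_combination -z10 - z14
  have d5 : φ5 0 = 0 ∧ φ5 1 + φ5 3 = 0 ∧ φ5 2 + φ5 6 = 4 ∧ φ5 4 = 4 ∧ φ5 5 + φ5 7 = 0 := by
    refine ⟨?_, ?_, ?_, ?_, ?_⟩
    · show F5 0 = 0; simp [F5]
    · show F5 1 + F5 3 = 0; simp only [F5]; ring
    · show F5 2 + F5 6 = 4; simp only [F5]; linear_combination -2 * z6
    · show F5 4 = 4; simp only [F5]; linear_combination -2 * h4
    · show F5 5 + F5 7 = 0; simp only [F5]; ring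
  have d4 : φ4 0 = 0 ∧ φ4 1 + φ4 3 = -r ∧ φ4 2 + φ4 6 = 2 ∧ φ4 4 = -2 ∧ φ4 5 + φ4 7 = r := by
    refine ⟨?_, ?_, ?_, ?_, ?_⟩
    · show F4 0 = 0; simp [F4]
    · show F4 1 + F4 3 = -r; simp only [F4, hr]; linear_combination -z6
    · show F4 2 + F4 6 = 2; simp only [F4]; linear_combination -h4 + z6 - z12
    · show F4 4 = -2; simp only [F4]; linear_combination h4 - z8
    · show F4 5 + F4 7 = r; simp only [F4, hr]; linear_combination -z5 - z10 - z7 - z14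
  have dη : η 0 = 0 ∧ η 2 + η 4 = 0 ∧ η 1 + η 5 = 2 ∧ η 3 = -2 := by
    refine ⟨?_, ?_, ?_, ?_⟩
    · show E 0 = 0; simp [E]
    · show E 2 + E 4 = 0; simp only [E]; linear_combination -κ ^ 2 * k6
    · show E 1 + E 5 = 2; simp only [E]
      linear_combination κ ^ 2 * k3 - κ * (κ ^ 6 - κ ^ 3 + 1) * k3 - 2 * hκ2
    · show E 3 = -2; simp only [E]; linear_combination k3 - k6
  have dη' : η' 0 = 0 ∧ η' 2 + η' 4 = 0 ∧ η' 1 + η' 5 = -2 ∧ η' 3 = 2 := by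
    have hneg : ∀ k, η' k = -η k := fun k => (neg_sub _ _).symm
    obtain ⟨x1, x2, x3, x4⟩ := dη
    exact ⟨by rw [hneg, x1, neg_zero], by rw [hneg, hneg]; linear_combination -x2,
      by rw [hneg, hneg]; linear_combination -x3, by rw [hneg, x4, neg_neg]⟩
  obtain ⟨f20, f2A, f2B, f2T, f2A'⟩ := d2
  obtain ⟨f30, f3A, f3B, f3T, f3A'⟩ := d3
  obtain ⟨f50, f5A, f5B, f5T, f5A'⟩ := d5
  obtain ⟨f40, f4A, f4B, f4T, f4A'⟩ := d4
  obtain ⟨e0, e24, eP, eZ⟩ := dη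
  obtain ⟨e0', e24', eP', eZ'⟩ := dη'
  -- the generalized characters
  set Ψ2 := psi (cu : G) (cw : G) φ2 η with hΨ2
  set Ψ3 := psi (cu : G) (cw : G) φ3 η with hΨ3
  set Ψ5 := psi (cu : G) (cw : G) φ5 η with hΨ5
  set Ψ4 := psi (cu : G) (cw : G) φ4 η' with hΨ4
  have hm1 : (-ζ) ^ 8 = 1 := by linear_combination z8
  have hi2 : (ζ ^ 2) ^ 8 = 1 := by rw [← pow_mul, mul_comm, pow_mul, z8, one_pow]
  have hi6 : (-ζ ^ 2) ^ 8 = 1 := by linear_combination hi2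
  have g2 : Cfsg.IsGeneralizedCharacter G Ψ2 :=
    isGen_psi ou ow ![1, ζ ^ 2, ζ, -ζ] (fun i => by fin_cases i <;> simp [z8, hm1, hi2]) κ (κ ^ 2)
      k6 k6' φ2 η (fun k => rfl) (fun k => rfl)
  have g3 : Cfsg.IsGeneralizedCharacter G Ψ3 :=
    isGen_psi ou ow ![-1, -ζ ^ 2, ζ, -ζ] (fun i => by fin_cases i <;> simp [z8, hm1, hi6] <;> norm_num) κ (κ ^ 2)
      k6 k6' φ3 η (fun k => rfl) (fun k => rfl)
  have g5 : Cfsg.IsGeneralizedCharacter G Ψ5 :=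
    isGen_psi ou ow ![1, -1, ζ, -ζ] (fun i => by fin_cases i <;> simp [z8, hm1] <;> norm_num) κ (κ ^ 2)
      k6 k6' φ5 η (fun k => rfl) (fun k => rfl)
  have g4 : Cfsg.IsGeneralizedCharacter G Ψ4 :=
    isGen_psi_two ou ow (-ζ) (ζ ^ 2) hm1 hi2 (κ ^ 2) κ k6' k6
  let x : Fin 5 → G := elts (cu : G) (cw : G)
  have hxt : x 0 = t := by
    have : cu ^ 4 = ⟨t, t_mem⟩ := q_injective e (by rw [q_pow, hu, q_t e ht, pow_data.2.1])
    exact congrArg Subtype.val this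
  have L2 : ∀ χ : G → ℂ, Cfsg.IsClassFunction G χ → Cfsg.classInner Ψ2 χ =
      pick (fun i => conj (χ (x i))) 2 0 4 2 2 (-2) := fun χ h => by
    rw [hΨ2, classInner_psi ht e hu hw φ2 η f20 e0 e24 h, f2A, f2B, f2T, f2A', eP, eZ]
  have L3 : ∀ χ : G → ℂ, Cfsg.IsClassFunction G χ → Cfsg.classInner Ψ3 χ =
      pick (fun i => conj (χ (x i))) (-2) 0 4 (-2) 2 (-2) := fun χ h => by
    rw [hΨ3, classInner_psi ht e hu hw φ3 η f30 e0 e24 h, f3A, f3B, f3T, f3A', eP, eZ]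
  have L5 : ∀ χ : G → ℂ, Cfsg.IsClassFunction G χ → Cfsg.classInner Ψ5 χ =
      pick (fun i => conj (χ (x i))) 0 4 4 0 2 (-2) := fun χ h => by
    rw [hΨ5, classInner_psi ht e hu hw φ5 η f50 e0 e24 h, f5A, f5B, f5T, f5A', eP, eZ]
  have L4 : ∀ χ : G → ℂ, Cfsg.IsClassFunction G χ → Cfsg.classInner Ψ4 χ =
      pick (fun i => conj (χ (x i))) (-r) 2 (-2) r (-2) 2 := fun χ h => by
    rw [hΨ4, classInner_psi ht e hu hw φ4 η' f40 e0' e24' h, f4A, f4B, f4T, f4A', eP', eZ']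
  have V2 : ∀ i, Ψ2 (x i) = valsOf 2 0 4 2 2 (-2) i := fun i => by
    rw [hΨ2, psi_elts ht e hu hw, f2A, f2B, f2T, f2A', eP, eZ]
  have V3 : ∀ i, Ψ3 (x i) = valsOf (-2) 0 4 (-2) 2 (-2) i := fun i => by
    rw [hΨ3, psi_elts ht e hu hw, f3A, f3B, f3T, f3A', eP, eZ]
  have V5 : ∀ i, Ψ5 (x i) = valsOf 0 4 4 0 2 (-2) i := fun i => by
    rw [hΨ5, psi_elts ht e hu hw, f5A, f5B, f5T, f5A', eP, eZ]
  have V4 : ∀ i, Ψ4 (x i) = valsOf (-r) 2 (-2) r (-2) 2 i := fun i => by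
    rw [hΨ4, psi_elts ht e hu hw, f4A, f4B, f4T, f4A', eP', eZ']
  obtain ⟨a2, ha2, es2, -⟩ := exists_coeff g2
  obtain ⟨a3, ha3, es3, -⟩ := exists_coeff g3
  obtain ⟨a4, ha4, es4, -⟩ := exists_coeff g4
  obtain ⟨a5, ha5, es5, -⟩ := exists_coeff g5
  let bar : Cfsg.IrrCharacter G → Cfsg.IrrCharacter G := conjChar
  let b4 : Cfsg.IrrCharacter G → ℤ := fun χ => a4 (bar χ)
  have gram : ∀ {θ η : G → ℂ} (c c' : Cfsg.IrrCharacter G → ℤ) (n : ℤ),
      Cfsg.IsGeneralizedCharacter G θ → (∀ χ : Cfsg.IrrCharacter G, Cfsg.classInner θ (χ : G → ℂ) = c χ) →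
      (∀ χ : Cfsg.IrrCharacter G, Cfsg.classInner η (χ : G → ℂ) = c' χ) → Cfsg.classInner θ η = n →
      ∑ χ, c χ * c' χ = n := by
    intro θ η c c' n hθ hc hc' hn
    apply Int.cast_injective (α := ℂ)
    rw [← hn, classInner_eq_sum hθ]
    push_cast
    exact Finset.sum_congr rfl fun χ _ => by rw [hc, hc', map_intCast]
  have cl := fun {θ : G → ℂ} (h : Cfsg.IsGeneralizedCharacter G θ) => isClassFunction_of_isGen h
  have hc4 : ∀ χ : Cfsg.IrrCharacter G,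
      Cfsg.classInner (fun g => conj (Ψ4 g)) (χ : G → ℂ) = b4 χ := by
    intro χ
    have h : Cfsg.classInner (fun g => conj (Ψ4 g)) (χ : G → ℂ) =
        conj (Cfsg.classInner Ψ4 (bar χ : G → ℂ)) := by
      simp only [Cfsg.classInner, map_mul, map_inv₀, map_natCast, map_sum, bar, conjChar_apply,
        Complex.conj_conj]
    rw [h, ha4, map_intCast]
  have hreal : ∀ (θ : G → ℂ) (c : Cfsg.IrrCharacter G → ℤ) (A B T' A' P Z : ℂ),
      (∀ χ : Cfsg.IrrCharacter G, Cfsg.classInner θ (χ : G → ℂ) = c χ) →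
      (∀ χ : G → ℂ, Cfsg.IsClassFunction G χ → Cfsg.classInner θ χ =
        pick (fun i => conj (χ (x i))) A B T' A' P Z) →
      conj A = A → conj B = B → conj T' = T' → conj A' = A' → conj P = P → conj Z = Z →
      ∀ χ, c (bar χ) = c χ := by
    intro θ c A B T' A' P Z hc hL hA hB hT hA' hP hZ χ
    apply Int.cast_injective (α := ℂ)
    rw [← hc (bar χ), hL _ (isClassFunction_irr _), ← map_intCast (starRingEnd ℂ) (c χ), ← hc χ,
      hL _ (isClassFunction_irr _)]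
    simp [pick, bar, conjChar_apply, hA, hB, hT, hA', hP, hZ, map_ofNat]
  have hv : ∀ χ : Cfsg.IrrCharacter G,
      (χ : G → ℂ) t = ((3 * (a2 χ + a3 χ) - 2 * (a5 χ - a4 χ - b4 χ) : ℤ) : ℂ) := by
    intro χ
    have hb : (b4 χ : ℂ) = pick (fun i => conj ((χ : G → ℂ) (x i))) r 2 (-2) (-r) (-2) 2 := by
      have h := L4 _ (isClassFunction_irr (bar χ))
      rw [ha4] at h
      show ((a4 (bar χ) : ℤ) : ℂ) = _
      rw [← map_intCast (starRingEnd ℂ), h]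
      simp [pick, bar, conjChar_apply, hcr, map_ofNat]
    have hc : conj ((χ : G → ℂ) t) =
        ((3 * (a2 χ + a3 χ) - 2 * (a5 χ - a4 χ - b4 χ) : ℤ) : ℂ) := by
      push_cast
      rw [← ha2, ← ha3, ← ha4, ← ha5, hb, L2 _ (isClassFunction_irr χ), L3 _ (isClassFunction_irr χ),
        L4 _ (isClassFunction_irr χ), L5 _ (isClassFunction_irr χ), ← hxt]
      simp only [pick]
      ring
    rw [← Complex.conj_conj ((χ : G → ℂ) t), hc, map_intCast]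
  let d : Cfsg.IrrCharacter G → ℕ := fun χ => Cfsg.charDegree (χ : G → ℂ)
  have hd : ∀ χ, 0 < d χ := fun χ => (H80.ClassMult.deg_spec χ).1
  have hd' : ∀ χ : Cfsg.IrrCharacter G, (χ : G → ℂ) 1 = (d χ : ℂ) := fun χ => (H80.ClassMult.deg_spec χ).2
  have hdeg : ∀ (θ : G → ℂ) (c : Cfsg.IrrCharacter G → ℤ),
      θ = ∑ χ : Cfsg.IrrCharacter G, (c χ : ℂ) • (χ : G → ℂ) → θ 1 = 0 → ∑ χ, c χ * (d χ : ℤ) = 0 := by
    intro θ c hθ h1
    apply Int.cast_injective (α := ℂ)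
    rw [hθ, Finset.sum_apply] at h1
    push_cast
    rw [← h1]
    exact Finset.sum_congr rfl fun χ _ => by simp [hd']
  let v : Cfsg.IrrCharacter G → ℤ := fun χ => 3 * (a2 χ + a3 χ) - 2 * (a5 χ - a4 χ - b4 χ)
  have hmult : ∀ (φ : Fin 8 → ℂ) (φ' : Fin 6 → ℂ) (c : Cfsg.IrrCharacter G → ℤ) (K : ℚ),
      φ 0 = 0 → φ' 0 = 0 → φ' 2 + φ' 4 = 0 →
      psi (cu : G) (cw : G) φ φ' = ∑ χ : Cfsg.IrrCharacter G, (c χ : ℂ) • (χ : G → ℂ) →
      (8 : ℂ)⁻¹ * (4 * (φ 2 + φ 6) + 12 * φ 4) +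
          (6 : ℂ)⁻¹ * (6 * (φ' 1 + φ' 5) + 12 * φ' 3) = (K : ℂ) →
      (Nat.card G : ℚ) * ∑ χ, (c χ : ℚ) * (v χ : ℚ) ^ 2 / (d χ : ℚ) = 2304 * K := by
    intro φ φ' c K h0 h0' h24 hsum hK
    have h := sum_psi ht e hu hw φ φ' h0 h0' h24 hall
    rw [hK, hsum] at h
    have hg : (Nat.card G : ℂ) ≠ 0 := Nat.cast_ne_zero.mpr Nat.card_pos.ne'
    have hterm : ∀ χ : Cfsg.IrrCharacter G,
        ∑ a : G, ∑ b : G, (χ : G → ℂ) (a * t * a⁻¹ * (b * t * b⁻¹)) =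
          (Nat.card G : ℂ) ^ 2 * ((v χ : ℂ) ^ 2 / (d χ : ℂ)) := by
      intro χ
      simp only [H80.ClassMult.sum_apply_mul_conj χ _ t, isClassFunction_irr χ t, hd', hv χ,
        Finset.sum_const, Finset.card_univ, nsmul_eq_mul, ← Nat.card_eq_fintype_card, v]
      ring
    have hl : ∑ a : G, ∑ b : G, (∑ χ, (c χ : ℂ) • (χ : G → ℂ)) (a * t * a⁻¹ * (b * t * b⁻¹)) =
        ∑ χ, (c χ : ℂ) * ((Nat.card G : ℂ) ^ 2 * ((v χ : ℂ) ^ 2 / (d χ : ℂ))) := by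
      simp only [Finset.sum_apply, Pi.smul_apply, smul_eq_mul, ← hterm, Finset.mul_sum]
      conv_lhs => enter [2, a]; rw [Finset.sum_comm]
      rw [Finset.sum_comm]
    rw [hl] at h
    apply Rat.cast_injective (α := ℂ)
    push_cast
    rw [Finset.mul_sum]
    apply mul_left_cancel₀ hg
    rw [Finset.mul_sum, ← mul_assoc, ← h]
    exact Finset.sum_congr rfl fun χ _ => by ring
  have o : ∀ (θ : G → ℂ) (c : Cfsg.IrrCharacter G → ℤ) (A B T' A' P Z : ℂ) (n : ℤ),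
      (∀ χ : Cfsg.IrrCharacter G, Cfsg.classInner θ (χ : G → ℂ) = c χ) →
      (∀ χ : G → ℂ, Cfsg.IsClassFunction G χ → Cfsg.classInner θ χ =
        pick (fun i => conj (χ (x i))) A B T' A' P Z) →
      (8 : ℂ)⁻¹ * (A + B + T' + A') + (6 : ℂ)⁻¹ * (P + Z) = n → c (oneChar G) = n := by
    intro θ c A B T' A' P Z n hc hL hn
    apply Int.cast_injective (α := ℂ)
    rw [← hn, ← hc, hL _ (isClassFunction_irr _)]
    simp [pick, oneChar_apply]
  have o4 : a4 (oneChar G) = 0 := o _ _ _ _ _ _ _ _ 0 ha4 L4 (by ring)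
  have hbar1 : bar (oneChar G) = oneChar G :=
    Subtype.ext (funext fun g => by simp [bar, conjChar_apply, oneChar_apply])
  refine GL23Arith.order_of_coeff (Nat.card G) ⟨o_odd, hgo, hodd⟩ (oneChar G) bar d hd ?_
    a2 a3 a4 a5 b4 (o _ _ _ _ _ _ _ _ 1 ha2 L2 (by norm_num))
    (o _ _ _ _ _ _ _ _ 0 ha3 L3 (by norm_num)) (o _ _ _ _ _ _ _ _ 1 ha5 L5 (by norm_num)) o4
    (by show a4 (bar (oneChar G)) = 0; rw [hbar1, o4])
    (gram a2 a2 3 g2 ha2 ha2 (by rw [L2 _ (cl g2)]; norm_num [pick, V2, vals0, vals1, vals2, vals3, vals4, map_ofNat]))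
    (gram a3 a3 3 g3 ha3 ha3 (by rw [L3 _ (cl g3)]; norm_num [pick, V3, vals0, vals1, vals2, vals3, vals4, map_ofNat]))
    (gram a5 a5 4 g5 ha5 ha5 (by rw [L5 _ (cl g5)]; norm_num [pick, V5, vals0, vals1, vals2, vals3, vals4, map_ofNat]))
    (gram a2 a3 1 g2 ha2 ha3 (by rw [L2 _ (cl g3)]; norm_num [pick, V3, vals0, vals1, vals2, vals3, vals4, map_ofNat]))
    (gram a2 a5 2 g2 ha2 ha5 (by rw [L2 _ (cl g5)]; norm_num [pick, V5, vals0, vals1, vals2, vals3, vals4, map_ofNat]))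
    (gram a3 a5 2 g3 ha3 ha5 (by rw [L3 _ (cl g5)]; norm_num [pick, V5, vals0, vals1, vals2, vals3, vals4, map_ofNat]))
    (gram a4 a4 2 g4 ha4 ha4 (by
      rw [L4 _ (cl g4)]; norm_num [pick, V4, vals0, vals1, vals2, vals3, vals4, map_ofNat, hcr]
      linear_combination (-2 : ℂ) * hrr))
    (gram a4 b4 1 g4 ha4 hc4 (by
      rw [L4 _ (isClassFunction_conj (cl g4))]; norm_num [pick, V4, vals0, vals1, vals2, vals3, vals4, map_ofNat, hcr]
      linear_combination (1 / 4 : ℂ) * hrr))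
    (gram a2 a4 0 g2 ha2 ha4 (by
      rw [L2 _ (cl g4)]; norm_num [pick, V4, vals0, vals1, vals2, vals3, vals4, map_ofNat, hcr]))
    (gram a3 a4 0 g3 ha3 ha4 (by
      rw [L3 _ (cl g4)]; norm_num [pick, V4, vals0, vals1, vals2, vals3, vals4, map_ofNat, hcr]))
    (gram a5 a4 1 g5 ha5 ha4 (by
      rw [L5 _ (cl g4)]; norm_num [pick, V4, vals0, vals1, vals2, vals3, vals4, map_ofNat, hcr]))
    (fun χ => ⟨hreal _ _ _ _ _ _ _ _ ha2 L2 (map_ofNat _ _) (map_zero _) (map_ofNat _ _)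
        (map_ofNat _ _) (map_ofNat _ _) (by simp [map_ofNat]) χ,
      hreal _ _ _ _ _ _ _ _ ha3 L3 (by simp [map_ofNat]) (map_zero _) (map_ofNat _ _)
        (by simp [map_ofNat]) (map_ofNat _ _) (by simp [map_ofNat]) χ,
      hreal _ _ _ _ _ _ _ _ ha5 L5 (map_zero _) (map_ofNat _ _) (map_ofNat _ _)
        (map_zero _) (map_ofNat _ _) (by simp [map_ofNat]) χ, rfl⟩)
    (hdeg _ _ es2 (psi_one ht e hu hw φ2 η f20 e0)) (hdeg _ _ es3 (psi_one ht e hu hw φ3 η f30 e0))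
    (hdeg _ _ es5 (psi_one ht e hu hw φ5 η f50 e0)) v (fun _ => rfl)
    (by
      rw [hmult φ2 η a2 4 f20 e0 e24 es2 (by rw [f2B, f2T, eP, eZ]; norm_num)]
      norm_num)
    (by
      rw [hmult φ3 η a3 4 f30 e0 e24 es3 (by rw [f3B, f3T, eP, eZ]; norm_num)]
      norm_num)
    (by
      rw [hmult φ5 η a5 6 f50 e0 e24 es5 (by rw [f5B, f5T, eP, eZ]; norm_num)]
      norm_num)
  simp [d, Cfsg.charDegree, oneChar_apply]

end Cfsg.Agent.Lib.Induced.GL23Order
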